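import Cfsg.Agent.H42.McY1
import Cfsg.Agent.H44.T4
import Cfsg.Agent.H44.A9N
import Cfsg.Agent.H8.TransferEval

/-! `blueprints/LOCAL3C.md` 1.4, step 3: `JobY`. -/

set_option autoImplicit false
set_option maxRecDepth 100000
set_option synthInstance.maxSize 2048

namespace H42.MC

open Cfsg Subgroup H14 H98 H56.L3 H42.L3 H47.MC
open H44 (J3 K24 K4 SD STI lk)
open scoped Matrix

universe u

variable {G : Type u} [Group G] [Finite G] {v : V → G} {J Qa L₁ : Subgroup G} {t r τ σ f : G}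
  (h : Loc v J Qa L₁ t r τ σ f)
include h

theorem le_of_sti {L : Type} [Group L] [DistribMulAction L J3]
    (hL : ∀ {X : Type u} [Group X] [Finite X] {φ : SD J3 L →* X}, Function.Injective φ →
      STI φ (fun m => m ∈ SD.JJ ∧ m ≠ 1) → φ.range = ⊤)
    (ι : L →* K24) (i1 : Function.Injective ι) (i2 : ∀ l (j : J3), ι l • j = l • j) {Y : Subgroup G}
    (hY : Y ≤ Ce (v vy)) (hJ : J ≤ Y) (h1 : ∀ g ∈ Y, ∀ k, Acts v g (mL k) → ∃ l, ι l = k)
    (h2 : ∀ l, ∃ g : Y, (g : G) ∈ nr (V4 t r) ∧ Acts v g (mL (ι l))) : Y ≤ Nr J := by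
  have c := h.toCoord
  choose ρ r1 r2 using h2
  let Z := (zpowers (v vy)).subgroupOf Y
  have : Z.Normal := normal_subgroupOf_of_le_normalizer (hY.trans Ce_le_nr)
  let π := QuotientGroup.mk' Z
  have hπ : ∀ a b : Y, π a = π b ↔ (a : G)⁻¹ * b ∈ zpowers (v vy) := fun a b => QuotientGroup.eq
  have hy : zpowers (v vy) ≤ J := zpowers_le.2 (v_mem c _)
  let w : J3 → Y := fun j => ⟨v (em j), hJ (v_mem c _)⟩
  have hm : ∀ k l, π (ρ (k * l)) = π (ρ k * ρ l) := fun k l => (hπ _ _).2 (J_inf_nr_V4 h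
    ⟨inv_mul_mem_J h (r2 _) (map_mul ι k l ▸ acts_mulL (r2 k) (r2 l)),
      (nr _).mul_mem ((nr _).inv_mem (r1 _)) ((nr _).mul_mem (r1 k) (r1 l))⟩)
  have h3 : π (ρ 1) = 1 := by simpa using hm 1 1
  let φ : SD J3 L →* Y ⧸ Z := MonoidHom.mk' (fun m => π (w m.j * ρ m.k)) fun a b => by
    have e : w (a.j + a.k • b.j) = w a.j * (ρ a.k * w b.j * (ρ a.k)⁻¹) := Subtype.ext (by
      simp only [w, coe_mul, coe_inv]
      rw [r2, mL_em, i2, ← h.add]
      exact congrArg v ((by decide +kernel : ∀ a b : J3, em (a + b) = em a + em b) _ _))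
    rw [SD.mul_j, SD.mul_k, map_mul, hm, e, ← map_mul, ← map_mul]
    exact congrArg π (by group)
  have mem : ∀ g : Y, π g ∈ φ.range ↔ (g : G) ∈ Nr J := fun g => by
    refine ⟨fun ⟨m, e⟩ => ?_, fun hg => ?_⟩
    · simpa [w, mul_assoc] using mul_mem (mul_mem (le_normalizer (v_mem c (em m.j))) (acts_nr c (r2 m.k)))
        (le_normalizer (hy ((hπ _ _).1 e)))
    · obtain ⟨k, hk⟩ := act24 h (hY g.2) hg
      obtain ⟨l, rfl⟩ := h1 g g.2 k hk
      obtain ⟨x, hx⟩ := (h.mem _).1 ((eq_one_iff h (acts_mulL hk (acts_inv' (r2 l)))).1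
        (mul_inv_cancel _))
      refine ⟨⟨(x 1, x 2, x 3), l⟩, (hπ _ _).2 ?_⟩
      rw [(by decide +kernel : ∀ x : V, x = em (x 1, x 2, x 3) + x 0 • vy) x, h.add,
        eq_mul_inv_iff_mul_eq] at hx
      simpa [w, ← hx, mul_assoc] using conj_mem_of_mem_normalizer' (Ce_le_nr (hY (ρ l).2))
        ((mem_zp_v c).2 ⟨x 0, rfl⟩)
  have h4 := hL (φ := φ) ((injective_iff_map_eq_one _).2 fun m hm => by
    have h4 := (hπ 1 (w m.j * ρ m.k)).1 hm.symm
    simp only [coe_one, inv_one, one_mul, coe_mul] at h4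
    have h5 : m.k = 1 := i1 (((eq_one_iff h (r2 m.k)).2 ((J.mul_mem_cancel_left (v_mem c _)).1
      (hy h4))).trans ι.map_one.symm)
    rw [h5, mul_mem_cancel_right (by simpa using (hπ 1 _).1 h3.symm)] at h4
    obtain ⟨a, e⟩ := (mem_zp_v c).1 h4
    exact SD.ext ((by decide +kernel : ∀ (a : ZMod 3) (j : J3), a • vy = em j → j = 0) a _
      (h.inj e)) h5) fun m hm g hg => by
    obtain ⟨g, rfl⟩ := QuotientGroup.mk'_surjective Z g
    have e : φ m = π (w m.j) := by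
      show π (w m.j * ρ m.k) = _
      rw [show m.k = 1 from hm.1, map_mul, h3, mul_one]
    rw [e, ← map_inv, ← map_mul, ← map_mul, mem] at hg
    exact (mem g).2 (ti h (fun a e => hm.2 (SD.ext ((by decide +kernel : ∀ (a : ZMod 3) (j : J3),
      em j = a • vy → j = 0) a _ e) hm.1)) (hY g.2) hg)
  exact fun g hg => (mem ⟨g, hg⟩).1 (h4.ge (mem_top _))

theorem word_nr (a b c : ℕ) : t ^ a * r ^ b * σ ^ c ∈ nr (V4 t r) :=
  mul_mem (le_normalizer (mul_mem (pow_mem t_V4 a) (pow_mem r_V4 b))) (pow_mem (s_nr_V4 h) c)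

theorem y_of_neg (hn : Neg v) : Ce (v vy) ≤ Nr J := by
  obtain ⟨ι, h1, -, h2, h3⟩ := exists_iota h hn
  have h4 : Acts v (ι * τ) (mL (K24.mk 7)) :=
    (by decide +kernel : -1 * mU = mL (K24.mk 7)) ▸ acts_mul h1 h.aU
  refine le_of_sti h H44.K24.range_eq_top (MonoidHom.id _) (fun _ _ e => e) (fun _ _ => rfl) le_rfl
    (J_le_Ce h.toCoord _) (fun _ _ k _ => ⟨k, rfl⟩) fun k => ?_
  obtain ⟨a, -, b, -, c, -, d, -, rfl⟩ := (by decide +kernel : ∀ k : K24, ∃ a < 2, ∃ b < 2,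
    ∃ c < 3, ∃ d < 2, k = K24.mk 1 ^ a * K24.mk 2 ^ b * K24.mk 12 ^ c * K24.mk 7 ^ d) k
  have h5 := acts_mulL (acts_word h a b c) (acts_powL h4 d)
  exact ⟨⟨_, acts_Ce h h5⟩, mul_mem (word_nr h a b c) (pow_mem (mul_mem (mem_nr_V4
    (by rw [h2, mul_inv_cancel_right]; exact t_V4) (by rw [h3, mul_inv_cancel_right]; exact r_V4))
    (u_nr_V4 h)) d), h5⟩

omit h in
/-- `A₄ → ℤ / 3` -/
def μ3 (k : K24) : Multiplicative (ZMod 3) :=
  .ofAdd (if k.val < 4 then 0 else if k.val < 16 then 1 else 2)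

theorem y_of_not_neg (hn : ¬ Neg v) : Ce (v vy) ≤ Nr J := by
  have c := h.toCoord
  have ev : ∀ {g k}, Acts v g (mL k) → ∃ a < 2, ∃ b < 2, ∃ c < 3,
      k = K24.mk 1 ^ a * K24.mk 2 ^ b * K24.mk 12 ^ c := fun {g k} hk =>
    ((by decide +kernel : ∀ k : K24, (∃ a < 2, ∃ b < 2, ∃ c < 3,
      k = K24.mk 1 ^ a * K24.mk 2 ^ b * K24.mk 12 ^ c) ∨ ∃ a < 2, ∃ b < 2, ∃ c < 3,
      mL (k * (K24.mk 1 ^ a * K24.mk 2 ^ b * K24.mk 12 ^ c)) * mU = -1) k).resolve_right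
      fun ⟨a, _, b, _, c, _, e⟩ => hn ⟨_, e ▸ acts_mul (acts_mulL hk (acts_word h a b c)) h.aU⟩
  let H := (Nr J).subgroupOf (Ce (v vy))
  choose κ hκ using fun g : H => act24 h g.1.2 g.2
  let lam : H →* Multiplicative (ZMod 3) := MonoidHom.mk' (fun g => μ3 (κ g)) fun a b => by
    rw [acts_uniq c (hκ (a * b)) (acts_mulL (hκ a) (hκ b))]
    exact (by decide +kernel : ∀ k : K24, (∃ a < 2, ∃ b < 2, ∃ c < 3,
      k = K24.mk 1 ^ a * K24.mk 2 ^ b * K24.mk 12 ^ c) → ∀ l : K24, (∃ a < 2, ∃ b < 2, ∃ c < 3,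
      l = K24.mk 1 ^ a * K24.mk 2 ^ b * K24.mk 12 ^ c) → μ3 (k * l) = μ3 k * μ3 l) _
      (ev (hκ a)) _ (ev (hκ b))
  have hl : ∀ (g : H) (k : K24), Acts v g.1 (mL k) → lam g = μ3 k := fun g k hk =>
    congrArg μ3 (acts_uniq c (hκ g) hk)
  have hi : ¬ 3 ∣ H.index := by
    obtain ⟨P, hP, h1⟩ := exists_isSyl_le (J_three c) (J_le_Ce c vy)
    exact fun e => hP.not_dvd_relIndex (e.trans
      (index_dvd_of_le (comap_mono (le_nr c h.wc hP.isPGroup h1))))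
  let T := MonoidHom.transfer lam
  have tJ : ∀ g : Ce (v vy), (g : G) ∈ J → T g = 1 := fun g hg => by
    rw [H8.transfer_eq_pow_of_forall lam g 1 fun k a e => ?_, one_pow]
    rw [hl _ 1, one_pow]
    · rfl
    · rw [mL_one]
      exact acts_J c (by simpa using step2 h (inv_mem a.2) (pow_mem hg k) (by
        simpa using mem_subgroupOf.1 e))
  have hs := acts_Ce h (aS' h)
  have hs' : (⟨σ, hs⟩ : Ce (v vy)) ∈ H := acts_nr c h.aS
  have tS : T ⟨σ, hs⟩ = .ofAdd 1 ^ H.index := by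
    refine H8.transfer_eq_pow_of_forall lam _ _ fun k a e => ?_
    have h1 : lam ⟨_, hs'⟩ = .ofAdd 1 := hl _ _ (aS' h)
    by_cases h3 : 3 ∣ k
    · obtain ⟨k, rfl⟩ := h3
      rw [show (⟨_, e⟩ : H) = 1 from Subtype.ext (Subtype.ext (by simp [pow_mul, h.s3])), map_one,
        pow_mul]
      exact (one_pow k).symm
    obtain ⟨m, hm⟩ := exists_pow_eq_self_of_coprime (x := σ) (n := k) (Nat.Coprime.coprime_dvd_right
      (orderOf_dvd_of_pow_eq_one h.s3) ((Nat.prime_three.coprime_iff_not_dvd.2 h3).symm))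
    obtain ⟨n, hn, e'⟩ := fus_s h (inv_mem a.2) (by
      rw [← hm, ← conj_pow]
      exact pow_mem (by simpa using mem_subgroupOf.1 e) m)
    rw [show (⟨_, e⟩ : H) = ⟨⟨n, hn.1⟩, hn.2⟩ * ⟨_, hs'⟩ ^ k * (⟨⟨n, hn.1⟩, hn.2⟩ : H)⁻¹ from
      Subtype.ext (Subtype.ext (by
        simp only [coe_mul, coe_inv, coe_pow]
        rw [← conj_pow, ← e', conj_pow, inv_inv])), map_mul, map_mul, map_inv, mul_inv_cancel_comm,
      map_pow, h1]
  have t2 : ∀ g : Ce (v vy), (g : G) ∈ V4 t r → T g = 1 := fun g hg =>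
    (by decide : ∀ x : Multiplicative (ZMod 3), x ^ 2 = 1 → x = 1) _ (by
      rw [← map_pow, show g ^ 2 = 1 from Subtype.ext (V4_sq h hg), map_one])
  have hV := fun a b : ℕ => mul_mem (pow_mem (t_V4 (t := t) (r := r)) a) (pow_mem r_V4 b)
  have hY := le_of_sti h H44.K4.range_eq_top
    (MonoidHom.mk' (fun l => K24.mk (lk 0x6c 2 l.val)) (by decide +kernel)) (by decide +kernel)
    (by decide +kernel) (map_subtype_le T.ker)
    (fun g hg => ⟨⟨g, J_le_Ce c _ hg⟩, tJ _ hg, rfl⟩) (by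
      rintro _ ⟨g, hg, rfl⟩ k hk
      obtain ⟨a, ha, b, hb, d, hd, rfl⟩ := ev hk
      have h1 := tJ ((⟨_, (V4_le h (hV a b)).2⟩ * ⟨σ, hs⟩ ^ d)⁻¹ * g)
        (inv_mul_mem_J h (acts_word h a b d) hk)
      rw [map_mul, show T g = 1 from hg, mul_one, map_inv, inv_eq_one, map_mul, t2 _ (hV a b),
        one_mul, map_pow, tS, ← pow_mul, ← orderOf_dvd_iff_pow_eq_one,
        show orderOf (Multiplicative.ofAdd (1 : ZMod 3)) = 3 from orderOf_eq_prime rfl (by decide),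
        Nat.prime_three.dvd_mul] at h1
      obtain rfl : d = 0 := Nat.eq_zero_of_dvd_of_lt (h1.resolve_left hi) hd
      exact (by decide +kernel : ∀ a < 2, ∀ b < 2, ∃ l : K4,
        K24.mk (lk 0x6c 2 l.val) = K24.mk 1 ^ a * K24.mk 2 ^ b * K24.mk 12 ^ 0) a ha b hb)
    fun l => by
      obtain ⟨a, -, b, -, e⟩ := (by decide +kernel : ∀ l : K4, ∃ a < 2, ∃ b < 2,
        K24.mk (lk 0x6c 2 l.val) = K24.mk 1 ^ a * K24.mk 2 ^ b * K24.mk 12 ^ 0) l
      refine ⟨⟨_, ⟨_, (V4_le h (hV a b)).2⟩, t2 _ (hV a b), rfl⟩, le_normalizer (hV a b), ?_⟩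
      have := acts_word h a b 0
      rwa [← e, pow_zero, mul_one] at this
  intro g hg
  refine wc c h.wc (le_trans ?_ hY)
  rintro _ ⟨j, hj, rfl⟩
  exact mem_map_of_mem (Ce (v vy)).subtype
    (T.normal_ker.conj_mem ⟨j, J_le_Ce c _ hj⟩ (tJ _ hj) ⟨g, hg⟩)

omit h in
theorem jobY : JobY.{u} := fun _ _ _ v _ _ _ _ _ _ _ _ h =>
  (em' (Neg v)).elim (y_of_not_neg h) (y_of_neg h)

end H42.MC
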