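import Cfsg.Agent.H42.CI1
import Cfsg.Agent.H86.G75A
import Cfsg.Agent.H31.S2Kit

/-! Groups with central Sylow `2`-intersections and trivial core. -/

set_option autoImplicit false

namespace H42.SI

open Cfsg Subgroup H14 H98 H1.Gold H92.GA
open H55.GL (mk_eq_one_iff)
open scoped commutatorElement

universe u

section Act

variable {G : Type*} [Group G] {L T : Subgroup G}

/-- The action of `N(L)` on `L / Z(L)`. -/
def act (L : Subgroup G) : nor L →* MulAut (L ⧸ center L) :=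
  MonoidHom.mk' (fun n => QuotientGroup.congr _ _ (L.normalizerMonoidHom n)
    (characteristic_iff_map_eq.1 inferInstance _)) fun a b => by
      ext x
      obtain ⟨x, rfl⟩ := QuotientGroup.mk_surjective x
      rw [map_mul]
      rfl

theorem act_mk (n : nor L) (l : L) : act L n (QuotientGroup.mk' (center L) l) =
    QuotientGroup.mk' (center L) ⟨n * l * (n : G)⁻¹, conj_mem_of_mem_normalizer n.2 l.2⟩ := rfl

theorem act_of_mem (l : L) :
    act L ⟨l, le_normalizer l.2⟩ = MulAut.conj (QuotientGroup.mk' (center L) l) := by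
  ext x
  obtain ⟨x, rfl⟩ := QuotientGroup.mk'_surjective _ x
  rw [act_mk, MulAut.conj_apply, ← map_inv, ← map_mul, ← map_mul]
  rfl

theorem act_ker (hL : ⁅L, L⁆ = L) : (act L).ker.map (nor L).subtype ≤ cen L := by
  refine commutator_eq_bot_iff_le_centralizer.1 (commutator_eq_bot_of_perfect hL
    (commutator_eq_bot_iff_le_centralizer.2 (commutator_le.2 ?_)))
  rintro _ ⟨m, hm, rfl⟩ l hl
  have h2 : act L m (QuotientGroup.mk' (center L) ⟨l, hl⟩) =
      QuotientGroup.mk' (center L) ⟨l, hl⟩ := by rw [MonoidHom.mem_ker.1 hm]; rfl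
  rw [act_mk, ← mul_inv_eq_one, ← map_inv, ← map_mul, mk_eq_one_iff] at h2
  exact h2

theorem inner (hL : ⁅L, L⁆ = L) (n : nor L) (t : L)
    (h : act L n = MulAut.conj (QuotientGroup.mk' (center L) t)) : (t : G)⁻¹ * n ∈ cen L := by
  have h2 : act L ((⟨t, le_normalizer t.2⟩ : nor L)⁻¹ * n) = 1 := by
    rw [map_mul, map_inv, act_of_mem, h, inv_mul_cancel]
  exact act_ker hL ⟨_, h2, rfl⟩

/-- The image of `T ⊓ L` in `L / Z(L)`. -/
def img (L T : Subgroup G) : Subgroup (L ⧸ center L) :=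
  (T.subgroupOf L).map (QuotientGroup.mk' (center L))

theorem mem_img (h : L ⊓ cen L ≤ T) (x : L) :
    QuotientGroup.mk' (center L) x ∈ img L T ↔ (x : G) ∈ T := by
  refine ⟨?_, fun hx => mem_map_of_mem _ hx⟩
  rintro ⟨y, hy, e⟩
  rw [← inv_mul_eq_one, ← map_inv, ← map_mul, mk_eq_one_iff] at e
  simpa using T.mul_mem hy (h ⟨(y⁻¹ * x).2, e⟩)

theorem isSyl_img [Finite G] (h : IsSyl 2 (T ⊓ L) L) : IsSyl 2 (img L T) ⊤ := by
  have := h.subgroupOf_top.map (QuotientGroup.mk' (center L))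
  rwa [map_top_of_surjective _ (QuotientGroup.mk'_surjective _), inf_subgroupOf_right] at this

end Act

variable {H : Type u} [Group H] [Finite H] {S L : Subgroup H}

theorem center_le (hO : oddCore H = ⊥) (hS : IsSyl 2 S ⊤) (hL : IsComponent L) :
    L ⊓ cen L ≤ S :=
  ((isSyl_inf_comp hL hS).le_of_le_normalizer' (isPGroup_center hO hL) inf_le_left
    (le_normalizer_of_le_centralizer (inf_le_right.trans (centralizer_anti inf_le_right)))).trans
    inf_le_left

theorem CI.inf_cen_le (h : CI H) (hO : oddCore H = ⊥) (hS : IsSyl 2 S ⊤) (hL : IsComponent L) :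
    S ⊓ cen L ≤ cen S := fun x hx => by
  by_contra hc
  have h1 : L ≤ nor S := fun g hg => h.mem_nor hS hx.1 hc (by rw [hx.2 g hg]; simpa using hx.1)
  have h2 := isSyl_inf_comp hL hS
  have := h2.isPGroup.isNilpotent
  exact not_le_cen hO hL h2 (commutator_eq_bot_iff_le_centralizer.1 (commutator_eq_bot_symm
    (comp_commutator_solvable hL inferInstance (le_normalizer_inf h1 le_normalizer))))

theorem img_ne_bot (hO : oddCore H = ⊥) (hS : IsSyl 2 S ⊤) (hL : IsComponent L) : img L S ≠ ⊥ :=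
  fun e => not_le_cen hO hL (isSyl_inf_comp hL hS) fun x hx =>
    (mk_eq_one_iff (x := ⟨x, hx.2⟩)).1 (mem_bot.1 (e ▸ mem_map_of_mem _ hx.1))

theorem CI.not_le (h : CI H) (hO : oddCore H = ⊥) (hS : IsSyl 2 S ⊤) (hL : IsComponent L)
    (hn : ¬ S ≤ cen S) : ¬ S ⊓ L ≤ cen S := fun hc => hn fun s hs => by
  have := (comp_quasi hL).2
  have hT := isSyl_inf_comp hL hS
  obtain ⟨y, hy, hy'⟩ := SetLike.not_le_iff_exists.1 (not_le_cen hO hL hT)
  have hs' := H86.G75.mem_nor_comp hL hy.2 hy' (hc hy s hs)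
  have h1 := isSyl_img hT
  obtain ⟨_, ⟨t, ht, rfl⟩, e⟩ := soft (quasi_quotient_not_comm (comp_quasi hL))
    (by_contra fun e => img_ne_bot hO hS hL (h1.eq_bot_iff.2 (by rwa [card_top]))) h1
    (le_centralizer_iff_isMulCommutative.1 (by
      rintro _ ⟨a, ha, rfl⟩ _ ⟨b, hb, rfl⟩
      rw [← map_mul, ← map_mul]
      exact congrArg _ (Subtype.ext (hc ⟨ha, a.2⟩ b hb))))
    (α := act L ⟨s, hs'⟩) (by
      obtain ⟨k, hk⟩ := two_of_mem hS.isPGroup hs
      exact ⟨k, by rw [← map_pow, show (⟨s, hs'⟩ : nor L) ^ 2 ^ k = 1 from Subtype.ext hk, map_one]⟩)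
    (by
      rintro _ ⟨a, ha, rfl⟩
      rw [act_mk]
      exact congrArg _ (Subtype.ext (mul_inv_eq_iff_eq_mul.2 (hc ⟨ha, a.2⟩ s hs))))
  simpa using mul_mem (hc ⟨ht, t.2⟩) (h.inf_cen_le hO hS hL ⟨S.mul_mem (S.inv_mem ht) hs,
    inner (comp_perfect hL) _ _ e⟩)

theorem CI.comp_eq (h : CI H) (hO : oddCore H = ⊥) (hS : IsSyl 2 S ⊤) (hn : ¬ S ≤ cen S)
    (hL : IsComponent L) {K : Subgroup H} (hK : IsComponent K) : K = L := by
  by_contra e
  exact h.not_le hO hS hK hn ((inf_le_inf_left S (commutator_eq_bot_iff_le_centralizer.1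
    (comp_commute_of_ne hK hL e))).trans (h.inf_cen_le hO hS hL))

omit [Finite H] in
theorem core_le (hS : IsSyl 2 S ⊤) : pCore 2 H ≤ S :=
  hS.le_of_le_normalizer (isPGroup_pCore 2 H) le_top le_normalizer_of_normal

omit [Finite H] in
theorem CI.core_le_cen (h : CI H) (hS : IsSyl 2 S ⊤) (hn : ¬ S.Normal) : pCore 2 H ≤ cen S := by
  by_contra hc
  exact hn (normal_of_top_le_normalizer
    (le_normalizer_of_normal.trans (h.nor_le hS (core_le hS) hc)))

theorem CI.exists_comp (h : CI H) (hO : oddCore H = ⊥) (hS : IsSyl 2 S ⊤) (hn : ¬ S.Normal) :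
    ∃ L : Subgroup H, IsComponent L := by
  by_contra hc
  push Not at hc
  have h1 : S ≤ pCore 2 H := le_pCore_of_commutator hO (by rw [layer_eq_bot_iff.2 hc]; simp)
    (commutator_eq_bot_symm (commutator_eq_bot_iff_le_centralizer.2 (h.core_le_cen hS hn)))
  exact hn (le_antisymm h1 (core_le hS) ▸ inferInstance)

theorem CI.se (h : CI H) (hO : oddCore H = ⊥) (hS : IsSyl 2 S ⊤) (hn : ¬ S ≤ cen S)
    (hL : IsComponent L) : ∃ M : Subgroup (L ⧸ center L), IsStronglyEmbedded M := by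
  have := (comp_quasi hL).2
  have hT := isSyl_inf_comp hL hS
  have h1 := isSyl_img hT
  have hm := mem_img (center_le hO hS hL)
  by_cases hc : S ⊓ cen S ≤ cen L
  · refine ⟨_, H31.S2.se_of_syl h1 (img_ne_bot hO hS hL) le_rfl ?_ fun e => ?_⟩
    · rintro _ ⟨t, ht, rfl⟩ h2 g hg
      obtain ⟨g, rfl⟩ := QuotientGroup.mk'_surjective _ g
      have h3 : (g : H) ∈ nor S := h.mem_nor hS ht (fun e => by
        rw [mk_eq_one_iff.2 (hc ⟨ht, e⟩)] at h2
        simp at h2) ((hm (g * t * g⁻¹)).1 (by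
          rw [map_mul, map_mul, map_inv, mem_cen1.1 hg, mul_inv_cancel_right]
          exact mem_map_of_mem _ ht))
      refine mem_normalizer_of_cj_le ?_
      rintro _ ⟨_, ⟨x, hx, rfl⟩, rfl⟩
      exact ⟨g * x * g⁻¹, conj_mem_of_mem_normalizer (H := S) h3 hx, by simp⟩
    · have h2 := normal_of_top_le_normalizer e.ge
      have h3 := (h2.eq_bot_or_eq_top).resolve_left (img_ne_bot hO hS hL)
      have := (isPGroup_top_iff.1 (h3 ▸ h1.isPGroup)).isNilpotent
      exact quasi_not_solvable (quasi_quotient_center (comp_quasi hL)) inferInstance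
  have hA := H51.asThm H hO _ (h.sc hS) (le_centralizer_iff_isMulCommutative.1
    (inf_le_right.trans (centralizer_anti inf_le_left)))
  refine (hA.gt L hL hc).resolve_right ?_
  rintro ⟨T, h2, h3, -⟩
  obtain ⟨g, -, e⟩ := h2.exists_cj_eq h1
  refine h.not_le hO hS hL hn fun x hx => ((hA.omega L hL hc _ hT
    (inf_le_inf_right L inf_le_left) x hx).2 ((mk_eq_one_iff (x := ⟨x, hx.2⟩ ^ 2)).1 ?_)).2
  obtain ⟨y, hy, e'⟩ := e.ge ((hm ⟨x, hx.2⟩).2 hx.1)
  rw [map_pow, ← e', ← map_pow, h3.2 y hy, map_one]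

/-- The structure of a group with central Sylow intersections and trivial core. -/
structure Str (S L : Subgroup H) (T Z D : Subgroup (L ⧸ center L)) : Prop where
  syl : IsSyl 2 S ⊤
  comp : IsComponent L
  normal : L.Normal
  bd : BData T Z D
  mem : ∀ x : L, QuotientGroup.mk' (center L) x ∈ T ↔ (x : H) ∈ S
  se : ∃ M : Subgroup (L ⧸ center L), IsStronglyEmbedded M
  core : pCore 2 H ≤ cen S
  dec : ∀ s ∈ S, ∃ t ∈ S ⊓ L, t⁻¹ * s ∈ pCore 2 H
  nab : ¬ S ≤ cen S

theorem CI.str (h : CI H) (hO : oddCore H = ⊥)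
    (hn : ∀ S : Subgroup H, IsSyl 2 S ⊤ → ¬ S ≤ cen S ∧ ¬ S.Normal) :
    ∃ (S L : Subgroup H) (T Z D : Subgroup (L ⧸ center L)), Str S L T Z D := by
  obtain ⟨S₀, hS₀⟩ := exists_isSyl 2 (⊤ : Subgroup H)
  obtain ⟨L, hL⟩ := h.exists_comp hO hS₀ (hn _ hS₀).2
  have := (comp_quasi hL).2
  have hse := h.se hO hS₀ (hn _ hS₀).1 hL
  obtain ⟨T, Z, D, hB⟩ := kb _ (quasi_quotient_not_comm (comp_quasi hL)) hse
  have h1 := isSyl_lft (isPGroup_center hO hL) hB.syl
  obtain ⟨S, hS, h2⟩ := exists_isSyl_le h1.isPGroup le_top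
  have h3 : S ⊓ L = lft L T :=
    h1.eq_of_le (hS.isPGroup.to_le inf_le_left) (le_inf h2 lft_le) inf_le_right
  have hm : ∀ x : L, QuotientGroup.mk' (center L) x ∈ T ↔ (x : H) ∈ S := fun x => by
    rw [← mem_lft, ← h3, mem_inf, and_iff_left x.2]
  obtain ⟨h4, h5⟩ := hn S hS
  have hN : L.Normal := normal_of_top_le_normalizer fun g _ =>
    cj_eq_self_iff.1 (h.comp_eq hO hS h4 hL (comp_map_conj hL g))
  have h6 := h.core_le_cen hS h5
  refine ⟨S, L, T, Z, D, hS, hL, hN, hB, hm, hse, h6, fun s hs => ?_, h4⟩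
  obtain ⟨t, ht, e⟩ := bd_aut (center_eq_bot_of_simple (quasi_quotient_not_comm (comp_quasi hL)))
    hB (Γ := (S.subgroupOf (nor L)).map (act L)) ((isPGroup_subgroupOf hS.isPGroup _).map _) (by
      rintro _ ⟨a, ha, rfl⟩ x hx
      obtain ⟨x, rfl⟩ := QuotientGroup.mk'_surjective _ x
      rw [act_mk, hm]
      exact S.mul_mem (S.mul_mem ha ((hm x).1 hx)) (S.inv_mem ha)) (by
      rintro d hd _ ⟨a, ha, rfl⟩
      obtain ⟨d, rfl⟩ := QuotientGroup.mk'_surjective _ d
      rw [← act_of_mem, ← map_inv, ← map_mul, ← map_mul]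
      refine mem_map_of_mem _ (conj_mem_of_mem_normalizer' (H := S) (g := (d : H))
        (h.nor_le hS inf_le_left (h.not_le hO hS hL h4) ?_) ha)
      rw [h3]
      exact mem_nor_lft (H33.GL.BD.dle hB hd))
    _ (mem_map_of_mem _ (show (⟨s, le_normalizer_of_normal hs⟩ : nor L) ∈ _ from hs))
  obtain ⟨t, rfl⟩ := QuotientGroup.mk'_surjective _ t
  have h7 : (t : H)⁻¹ * s ∈ S ⊓ cen L :=
    ⟨S.mul_mem (S.inv_mem ((hm t).1 ht)) hs, inner (comp_perfect hL) _ _ e⟩
  refine ⟨t, ⟨(hm t).1 ht, t.2⟩, le_pCore_of_commutator hO (commutator_eq_bot_symm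
    (layer_commutator_eq_bot fun K hK => ?_)) ?_ h7⟩
  · rw [h.comp_eq hO hS h4 hL hK]
    exact commutator_eq_bot_symm (commutator_eq_bot_iff_le_centralizer.2 inf_le_right)
  · exact commutator_eq_bot_symm (commutator_eq_bot_iff_le_centralizer.2
      (h6.trans (centralizer_anti inf_le_left)))

end H42.SI
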