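import Cfsg.Agent.H18.PiHall
import Cfsg.Agent.H4.Product
import Cfsg.Agent.H84.Hyp

/-! Consequences of the odd order theorem for Hall subgroups. -/

set_option autoImplicit false
open Cfsg Pointwise

namespace H42
open H18

universe u
variable {G : Type u} [Group G] [Finite G] {π : Set ℕ}

theorem odd_of_piNum {n : ℕ} (h : PiNum π n) (h2 : 2 ∉ π) : Odd n :=
  Nat.not_even_iff_odd.1 fun e => h2 (h 2 Nat.prime_two e.two_dvd)

/-- Čunihin's theorem for `π`-separable groups -/
theorem piSep_hall (hFT : H84.FTThm.{u}) (h : IsPiSep π G) : ∃ H : Subgroup G, IsPiHall π H ∧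
    ∀ K : Subgroup G, IsPiSubgroup π K → ∃ g : G, K ≤ MulAut.conj g • H := by
  refine h.hall ?_
  by_cases h2 : 2 ∈ π
  · exact Or.inl fun X _ _ hX => hFT (odd_of_piNum hX fun h => h h2)
  · exact Or.inr fun X _ _ hX => hFT (odd_of_piNum hX h2)

theorem piSep_conj (hFT : H84.FTThm.{u}) (h : IsPiSep π G) {K L : Subgroup G} (hK : IsPiHall π K)
    (hL : IsPiHall π L) : ∃ g : G, L = MulAut.conj g • K := by
  obtain ⟨H, hH, h1⟩ := piSep_hall hFT h
  obtain ⟨a, ha⟩ := h1 K hK.1
  obtain ⟨b, hb⟩ := h1 L hL.1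
  refine ⟨b * a⁻¹, ?_⟩
  rw [H4.eq_of_isPiHall_of_le hK (H4.isPiHall_smul hH _).1 ha,
    H4.eq_of_isPiHall_of_le hL (H4.isPiHall_smul hH _).1 hb, H4.conj_smul_conj_smul]
  simp

theorem piSep_le (hFT : H84.FTThm.{u}) (h : IsPiSep π G) {U : Subgroup G} (hU : IsPiSubgroup π U) :
    ∃ K : Subgroup G, IsPiHall π K ∧ U ≤ K := by
  obtain ⟨H, hH, h1⟩ := piSep_hall hFT h
  obtain ⟨a, ha⟩ := h1 U hU
  exact ⟨_, H4.isPiHall_smul hH _, ha⟩

/-- the normalizer of a Hall `π`-subgroup of `A` in the preimage of a `π`-subgroup of `G / A` -/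
theorem piSep_normalizer (A : Subgroup G) [A.Normal] {A₀ K : Subgroup G} (h0 : IsPiHallOf π A₀ A)
    (hAK : A ≤ K) (hK : PiNum π (A.relIndex K)) :
    IsPiSep π ↥(K ⊓ Subgroup.normalizer (A₀ : Set G)) := by
  set N := K ⊓ Subgroup.normalizer (A₀ : Set G)
  have hle : A₀ ≤ N := le_inf (h0.1.trans hAK) Subgroup.le_normalizer
  haveI : (A₀.subgroupOf N).Normal := Subgroup.normal_subgroupOf_of_le_normalizer inf_le_right
  refine isPiSep_iff.2 ⟨3, ![⊥, A₀.subgroupOf N, A.subgroupOf N, ⊤], rfl, rfl, ?_, ?_, ?_⟩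
  · refine Fin.monotone_iff_le_succ.2 fun i => ?_
    fin_cases i
    · exact bot_le
    · exact Subgroup.subgroupOf_mono N h0.1
    · exact le_top
  · intro i
    fin_cases i <;> simp only [Fin.zero_eta, Fin.mk_one, Fin.reduceFinMk, Matrix.cons_val] <;>
      infer_instance
  · intro i
    fin_cases i
    · refine Or.inl fun q hq hd => h0.2.1 q hq ?_
      simpa [H4.card_subgroupOf_of_le hle] using hd
    · refine Or.inr fun q hq hd hπ => h0.2.2 q hq hπ ?_
      have e : (A₀.subgroupOf N).relIndex (A.subgroupOf N) = A₀.relIndex (A ⊓ N) := by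
        rw [← Subgroup.inf_subgroupOf_right A N, Subgroup.relIndex_subgroupOf inf_le_right]
      refine (show q ∣ A₀.relIndex (A ⊓ N) by simpa [e] using hd).trans ?_
      rw [← Subgroup.relIndex_mul_relIndex A₀ (A ⊓ N) A (le_inf h0.1 hle) inf_le_left]
      exact dvd_mul_right _ _
    · refine Or.inl fun q hq hd => hK q hq ?_
      have hd' : q ∣ (A.subgroupOf N).relIndex ⊤ := hd
      rw [Subgroup.relIndex_top_right] at hd'
      refine (show q ∣ A.relIndex N from hd').trans ?_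
      rw [← Subgroup.relIndex_subgroupOf (inf_le_left : N ≤ K)]
      exact Subgroup.relIndex_dvd_index_of_normal _ _

theorem relIndex_eq_card_map (A K : Subgroup G) [A.Normal] :
    A.relIndex K = Nat.card (K.map (QuotientGroup.mk' A)) := by
  have h1 := H4.card_eq_card_map_mul_card_inf K A
  rw [← H4.card_inf_mul_relIndex A K, mul_comm] at h1
  exact Nat.eq_of_mul_eq_mul_right Nat.card_pos h1

theorem hallOf_conj_of_cpi {A H K : Subgroup G} (hA : IsCPiGroup π A) (hH : IsPiHallOf π H A)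
    (hK : IsPiHallOf π K A) : ∃ a ∈ A, K = MulAut.conj a • H := by
  obtain ⟨a, ha⟩ := hA.2 _ _ (H4.isPiHallOf_iff.1 hH).2 (H4.isPiHallOf_iff.1 hK).2
  refine ⟨a, a.2, ?_⟩
  have := congrArg (Subgroup.map A.subtype) ha
  rwa [← H4.conj_smul_eq_map, H4.map_conj_smul, Subgroup.map_subgroupOf_eq_of_le hK.1,
    Subgroup.map_subgroupOf_eq_of_le hH.1] at this

omit [Finite G] in
theorem hallOf_smul_normal {A H : Subgroup G} [hA : A.Normal] (hH : IsPiHallOf π H A) (g : G) :
    IsPiHallOf π (MulAut.conj g • H) A := by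
  have e : MulAut.conj g • A = A := hA.conj_smul_eq_self g A
  refine ⟨e ▸ Subgroup.pointwise_smul_le_pointwise_smul_iff.2 hH.1, ?_, ?_⟩
  · rw [H4.card_smul]; exact hH.2.1
  · conv => enter [p, _, _, 1, 2, 2]; rw [← e]
    rw [Subgroup.relIndex_pointwise_smul]; exact hH.2.2

theorem hallOf_inf_normal (A : Subgroup G) [A.Normal] {H : Subgroup G} (hH : IsPiHall π H) :
    IsPiHallOf π (H ⊓ A) A :=
  H4.isPiHallOf_iff.2 ⟨inf_le_right, by
    rw [Subgroup.inf_subgroupOf_right]; exact H4.isPiHall_subgroupOf_of_normal hH A⟩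

/-- Čunihin: `C_π` is closed under extensions -/
theorem cpi_extension (hFT : H84.FTThm.{u}) (A : Subgroup G) [A.Normal] (hA : IsCPiGroup π A)
    (hQ : IsCPiGroup π (G ⧸ A)) : IsCPiGroup π G := by
  constructor
  · obtain ⟨Kb, hKb⟩ := hQ.1
    obtain ⟨B, hB⟩ := hA.1
    have h0 := H4.isPiHallOf_map_subtype hB
    set A₀ := B.map A.subtype
    set K := Kb.comap (QuotientGroup.mk' A) with hKdef
    have hAK : A ≤ K := QuotientGroup.le_comap_mk' A Kb
    have hKm : K.map (QuotientGroup.mk' A) = Kb :=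
      Subgroup.map_comap_eq_self_of_surjective (QuotientGroup.mk'_surjective A) _
    have hK : PiNum π (A.relIndex K) := by rw [relIndex_eq_card_map, hKm]; exact hKb.1
    set N := K ⊓ Subgroup.normalizer (A₀ : Set G)
    have hle : A₀ ≤ N := le_inf (h0.1.trans hAK) Subgroup.le_normalizer
    obtain ⟨H, hH, hAH⟩ := piSep_le hFT (piSep_normalizer A h0 hAK hK)
      (H4.isPiSubgroup_subgroupOf h0.2.1 N)
    have hNm : N.map (QuotientGroup.mk' A) = Kb := by
      refine le_antisymm (hKm ▸ Subgroup.map_mono inf_le_left) ?_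
      rw [← hKm]
      rintro _ ⟨k, hk, rfl⟩
      obtain ⟨a, ha, e⟩ := hallOf_conj_of_cpi hA h0 (hallOf_smul_normal h0 k)
      refine ⟨a⁻¹ * k, ⟨K.mul_mem (K.inv_mem (hAK ha)) hk, ?_⟩, ?_⟩
      · refine H4.conj_smul_eq_iff_mem_normalizer.1 ?_
        rw [← H4.conj_smul_conj_smul, e, H4.conj_smul_conj_smul]
        simp
      · simp [(QuotientGroup.eq_one_iff a).2 ha]
    have hH' := H4.isPiHallOf_map_subtype hH
    refine ⟨H.map N.subtype, hH'.2.1, fun p hp hπ hd => ?_⟩
    rw [← Subgroup.relIndex_mul_index hH'.1, H4.index_eq_index_map_mul_relIndex N A, hNm] at hd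
    rcases (Nat.Prime.dvd_mul hp).1 hd with h | h
    · exact hH'.2.2 p hp hπ h
    rcases (Nat.Prime.dvd_mul hp).1 h with h | h
    · exact hKb.2 p hp hπ h
    · exact h0.2.2 p hp hπ (h.trans (Subgroup.relIndex_dvd_of_le_left A hle))
  · intro H K hH hK
    simp only [← H4.conj_smul_eq_map]
    have hs := QuotientGroup.mk'_surjective A
    obtain ⟨g, hg⟩ := hQ.2 _ _ (H4.isPiHall_map_of_surjective hH _ hs)
      (H4.isPiHall_map_of_surjective hK _ hs)
    obtain ⟨g, rfl⟩ := hs g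
    rw [← H4.conj_smul_eq_map, ← H4.map_conj_smul] at hg
    have hH1 := H4.isPiHall_smul hH (MulAut.conj g)
    obtain ⟨a, ha, e⟩ := hallOf_conj_of_cpi hA (hallOf_inf_normal A hH1) (hallOf_inf_normal A hK)
    set H₂ := MulAut.conj a • MulAut.conj g • H with hH₂
    have hH2 : IsPiHall π H₂ := H4.isPiHall_smul hH1 _
    have e2 : K ⊓ A = H₂ ⊓ A := by
      rw [e, Subgroup.smul_inf, Subgroup.Normal.conj_smul_eq_self a A]
    have hm : H₂.map (QuotientGroup.mk' A) = K.map (QuotientGroup.mk' A) := by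
      rw [hH₂, H4.map_conj_smul, ← hg, QuotientGroup.mk'_apply, (QuotientGroup.eq_one_iff a).2 ha,
        H4.conj_one_smul]
    set L := (K.map (QuotientGroup.mk' A)).comap (QuotientGroup.mk' A)
    have hAL : A ≤ L := QuotientGroup.le_comap_mk' A _
    have hL : PiNum π (A.relIndex L) := by
      rw [relIndex_eq_card_map, Subgroup.map_comap_eq_self_of_surjective hs]
      exact H4.isPiSubgroup_map hK.1 _
    have hn : ∀ X : Subgroup G, X ≤ Subgroup.normalizer ((X ⊓ A : Subgroup G) : Set G) := fun X =>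
      le_trans (le_inf Subgroup.le_normalizer (by rw [Subgroup.normalizer_eq_top]; exact le_top))
        Subgroup.inf_normalizer_le_normalizer_inf
    set N := L ⊓ Subgroup.normalizer ((K ⊓ A : Subgroup G) : Set G)
    have h1 : K ≤ N := le_inf (Subgroup.le_comap_map _ _) (hn K)
    have h2 : H₂ ≤ N := le_inf (Subgroup.map_le_iff_le_comap.1 hm.le) (e2 ▸ hn H₂)
    obtain ⟨n, hn'⟩ := piSep_conj hFT (piSep_normalizer A (hallOf_inf_normal A hK) hAL hL)
      (H4.isPiHall_subgroupOf_of_le hH2 h2) (H4.isPiHall_subgroupOf_of_le hK h1)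
    have := congrArg (Subgroup.map N.subtype) hn'
    rw [H4.map_conj_smul, Subgroup.map_subgroupOf_eq_of_le h1,
      Subgroup.map_subgroupOf_eq_of_le h2, hH₂, H4.conj_smul_conj_smul,
      H4.conj_smul_conj_smul] at this
    exact ⟨_, this⟩

end H42
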