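import Cfsg.Agent.H78.TESpec
import Cfsg.Agent.H70.SgE

/-! STD-2E6 (row S3327): slot EN. -/

set_option autoImplicit false

namespace H42.TE

open Cfsg.Lie H63 H65 H64 H64.SG H68 H46.SF Subgroup H78.TE H70.Sg

universe u

theorem jobEN : JobEN.{u} := by
  intro F K _ _ _ _ _ _ T X G _ _ e t H
  have tc : ∀ g, e g * t = t * e g := fun g => mem_Cs.1 H.comm _ ⟨g, rfl⟩
  have hx : ∀ r : Rt D4, XR D4 (T.xe e) r = (XR D4 T.x r).map e := XR_map e T.x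
  have mP : ∀ (r : Rt D4) (g : T.X), e g ∈ PL e.range (T.xe e) r ↔ g ∈ T.P0 r := fun r g => by
    refine ⟨fun h => mem_Cs.2 fun a ha => H.inj ?_, fun h => ⟨⟨g, rfl⟩, mem_Cs.2 ?_⟩⟩
    · rw [map_mul, map_mul]
      exact mem_Cs.1 h.2 _ (hx r ▸ mem_map_of_mem e ha)
    · rw [hx]
      rintro _ ⟨a, ha, rfl⟩
      rw [← map_mul, ← map_mul, mem_Cs.1 h a ha]
  refine ⟨X.kb.st.map e, fun r c => ⟨_, rfl⟩, fun r c h => X.kb.inj r c
    (H.inj (h.trans (map_one e).symm)), H.inv.1, ?_, ?_, H.ct, ?_, ?_, ?_, ?_, ?_⟩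
  · rintro _ ⟨g, rfl⟩; exact tc g
  · rintro ⟨g, rfl⟩
    refine H.inv.2 ?_
    rw [X.tb.cen g (MulEquiv.ext fun y => H.inj ?_), map_one]
    rw [MulAut.conj_apply, map_mul, map_mul, ← tc y, map_inv, mul_inv_cancel_right]; rfl
  · intro r s h k kt hk
    obtain ⟨α, hα⟩ := exists_aut e H.inj (H.ct (mem_Cz.2 kt))
    obtain ⟨c, b, rfl⟩ := X.ca.cp r s h α fun g hg => H.inj (by
      rw [hα, ← mem_Cs.1 hk (e g) ⟨(mP r g).2 hg.1, (mP s g).2 hg.2⟩, mul_inv_cancel_right])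
    set ζ := T.x r c * T.x s b with hζ
    have h1 : (e ζ)⁻¹ * k ∈ Cz t :=
      mul_mem (inv_mem (mem_Cz.2 (tc ζ).symm)) (mem_Cz.2 kt)
    have h2 : (e ζ)⁻¹ * k ∈ Cs e.range := by
      rintro _ ⟨g, rfl⟩
      have := hα g
      rw [MulAut.conj_apply, map_mul, map_mul, map_inv] at this
      calc e g * ((e ζ)⁻¹ * k) = (e ζ)⁻¹ * (e ζ * e g * (e ζ)⁻¹) * k := by group
        _ = _ := by rw [this]; group
    refine ⟨c, b, (H.ck _ h1 h2).imp (fun h => ?_) fun h => ?_⟩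
    · rw [← map_mul]; exact (inv_mul_eq_one.1 h).symm
    · rw [← map_mul]; exact inv_mul_eq_iff_eq_mul.1 h
  · rintro r c hc _ ⟨g, rfl⟩ h
    rw [mP, ← X.pa.cz r c hc]
    exact mem_Cz.2 (H.inj (by rw [map_mul, map_mul]; exact h))
  · rintro r s v h _ ⟨⟨g, rfl⟩, hg⟩
    have h1 := mem_map_of_mem e (X.pb.p3 r s v h ((mP v g).1 ⟨⟨g, rfl⟩, hg⟩))
    rw [Subgroup.map_sup, ← gen_map] at h1
    refine SetLike.le_def.1 (sup_le_sup_right ?_ _) h1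
    rintro _ ⟨a, ha, rfl⟩
    exact ⟨(mP r a).2 ha.1, (mP s a).2 ha.2⟩
  · intro n hn
    obtain ⟨α, hα⟩ := exists_aut e H.inj (H.ct hn)
    obtain ⟨g, h⟩ := X.pa.std α
    refine ⟨e g, ⟨g, rfl⟩, ?_⟩
    have e1 : ∀ y, e ((MulAut.conj g * α) y) = e g * n * e y * (e g * n)⁻¹ := fun y => by
      rw [MulAut.mul_apply, MulAut.conj_apply, map_mul, map_mul, hα, map_inv]; group
    rw [hx]
    refine le_antisymm ?_ ?_
    · rintro _ ⟨_, ⟨y, hy, rfl⟩, rfl⟩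
      exact ⟨_, h.le (mem_map_of_mem _ hy), e1 y⟩
    · rintro _ ⟨y, hy, rfl⟩
      obtain ⟨z, hz, rfl⟩ := h.ge hy
      exact ⟨_, mem_map_of_mem e hz, (e1 z).symm⟩
  · rintro _ ⟨g, rfl⟩
    obtain ⟨u, hu, r, k, k0, h⟩ := X.pa.pair g
    refine ⟨e u, (mP _ u).2 hu, r, k, k0, fun c => ?_⟩
    have := congrArg e (h c)
    simpa only [map_mul, map_inv] using this

end H42.TE
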