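import Cfsg.Agent.H63.A8Def

/-! A8S-KP: involutions of `S₈`. -/

set_option autoImplicit false

namespace H42.A8KP

open H63.A8 Equiv Equiv.Perm
open H67.SA (cm)

theorem ct (σ : S8) (h : σ * σ = 1) :
    σ.cycleType = Multiset.replicate σ.cycleType.card 2 ∧ σ.support.card = 2 * σ.cycleType.card := by
  have : Fact (Nat.Prime 2) := ⟨Nat.prime_two⟩
  have h1 : σ.cycleType = Multiset.replicate σ.cycleType.card 2 :=
    cycleType_of_pow_prime_eq_one (by rw [pow_two, h])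
  refine ⟨h1, ?_⟩
  rw [← sum_cycleType, h1]
  simp [mul_comm]

theorem sgn (σ : S8) (h : σ * σ = 1) : sign σ = (-1) ^ (3 * σ.cycleType.card) := by
  rw [sign_of_cycleType, sum_cycleType, (ct σ h).2]
  congr 1
  ring

theorem cls (σ : S8) (h : σ * σ = 1) : σ = 1 ∨ Ty 2 σ ∨ Ty 4 σ ∨ Ty 6 σ ∨ Ty 8 σ := by
  have h1 := (ct σ h).2
  have h2 : σ.support.card ≤ 8 := by simpa using Finset.card_le_univ σ.support
  by_cases h0 : σ.support.card = 0
  · exact Or.inl (card_support_eq_zero.mp h0)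
  · simp only [Ty, h, true_and]
    right
    omega

theorem ev' (σ : S8) (h : Ty 4 σ ∨ Ty 8 σ) : σ ∈ alternatingGroup (Fin 8) := by
  rw [mem_alternatingGroup]
  rcases h with ⟨h, h'⟩ | ⟨h, h'⟩
  · have := (ct σ h).2
    rw [sgn σ h, show σ.cycleType.card = 2 by omega]; decide
  · have := (ct σ h).2
    rw [sgn σ h, show σ.cycleType.card = 4 by omega]; decide

theorem od' (σ : S8) (h : Ty 2 σ ∨ Ty 6 σ) : σ ∉ alternatingGroup (Fin 8) := by
  rw [mem_alternatingGroup]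
  rcases h with ⟨h, h'⟩ | ⟨h, h'⟩
  · have := (ct σ h).2
    rw [sgn σ h, show σ.cycleType.card = 1 by omega]; decide
  · have := (ct σ h).2
    rw [sgn σ h, show σ.cycleType.card = 3 by omega]; decide

theorem cj (k : ℕ) (σ σ' : S8) (hk : k ≠ 0) (h : Ty k σ) (h' : Ty k σ') :
    ∃ a : A8, (a : S8) * σ * (a : S8)⁻¹ = σ' := by
  have e : σ.cycleType = σ'.cycleType := by
    have h1 := ct σ h.1
    have h2 := ct σ' h'.1
    have h3 : σ.cycleType.card = σ'.cycleType.card := by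
      have := h.2; have := h'.2; omega
    rw [h1.1, h2.1, h3]
  obtain ⟨g, hg⟩ := isConj_iff.mp (isConj_iff_cycleType_eq.mpr e)
  rcases Int.units_eq_one_or (sign g) with hs | hs
  · exact ⟨⟨g, mem_alternatingGroup.mpr hs⟩, hg⟩
  · have hne : σ.support.Nonempty := by
      rw [← Finset.card_pos, h.2]; omega
    obtain ⟨x, hx⟩ := hne
    have hx' : σ x ≠ x := mem_support.mp hx
    have hσ : σ (σ x) = x := by
      have := congrArg (fun τ : S8 => τ x) h.1
      simpa using this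
    have hc : swap x (σ x) * σ = σ * swap x (σ x) := by
      rw [mul_swap_eq_swap_mul σ x (σ x), hσ, swap_comm]
    refine ⟨⟨g * swap x (σ x), mem_alternatingGroup.mpr ?_⟩, ?_⟩
    · rw [Perm.sign_mul, hs, sign_swap hx'.symm]; decide
    · show g * swap x (σ x) * σ * (g * swap x (σ x))⁻¹ = σ'
      rw [← hg, mul_assoc g, hc]
      group

/-- the representative `(0 1)(2 3)` -/
def x0 : S8 := swap 0 1 * swap 2 3

theorem x0_ty : Ty 4 x0 := ⟨by decide, by decide⟩

def ev (a i : ℕ) : ℕ := a / 8 ^ i % 8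
def xi (i : ℕ) : ℕ := ev 16434369 i
def mk (a b c d e f : ℕ) : ℕ :=
  a + 8 * (xi a + 8 * (b + 8 * (xi b + 8 * (c + 4 + 8 * (d + 4 + 8 * (e + 4 + 8 * (f + 4)))))))

theorem xi_eq : ∀ x : Fin 8, (x0 x : ℕ) = xi x := by decide +kernel
theorem x0_fix : ∀ x : Fin 8, x0 x = x ↔ 4 ≤ x.val := by decide

def Rep (σ : S8) (m : ℕ) : Prop := ∀ i : Fin 8, (σ i : ℕ) = ev m i

theorem par (σ : S8) (h : σ * x0 = x0 * σ) : ∃ a < 4, ∃ b < 4, ∃ c < 4, ∃ d < 4, ∃ e < 4, ∃ f < 4,
    Rep σ (mk a b c d e f) := by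
  have hc : ∀ x, σ (x0 x) = x0 (σ x) := fun x => by
    have := congrArg (fun τ : S8 => τ x) h
    simpa using this
  have hlt : ∀ x : Fin 8, x.val < 4 → (σ x).val < 4 := fun x hx => by
    by_contra hn
    have h1 : x0 (σ x) = σ x := (x0_fix _).mpr (by omega)
    rw [← hc] at h1
    have := (x0_fix x).mp (σ.injective h1)
    omega
  have hge : ∀ x : Fin 8, 4 ≤ x.val → 4 ≤ (σ x).val := fun x hx => by
    apply (x0_fix _).mp
    rw [← hc, (x0_fix x).mpr hx]
  have h0 := hlt 0 (by decide)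
  have h2 := hlt 2 (by decide)
  have h4 := hge 4 (by decide)
  have h5 := hge 5 (by decide)
  have h6 := hge 6 (by decide)
  have h7 := hge 7 (by decide)
  have k4 := (σ 4).2
  have k5 := (σ 5).2
  have k6 := (σ 6).2
  have k7 := (σ 7).2
  have k1 := (σ 1).2
  have k3 := (σ 3).2
  have h1 : xi (σ 0) = (σ 1).val := by
    rw [← xi_eq, ← hc, show x0 0 = 1 by decide]
  have h3 : xi (σ 2) = (σ 3).val := by
    rw [← xi_eq, ← hc, show x0 2 = 3 by decide]
  refine ⟨σ 0, h0, σ 2, h2, σ 4 - 4, by omega, σ 5 - 4, by omega, σ 6 - 4, by omega, σ 7 - 4,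
    by omega, fun i => ?_⟩
  unfold mk
  rw [h1, h3]
  fin_cases i <;> simp [ev] <;> omega

def L3 : List ℕ := [16434824, 12535432, 14141064, 15947400, 10213000, 16148104, 10413704, 12220040,
  13825672]

set_option synthInstance.maxSize 4096 in
set_option synthInstance.maxHeartbeats 200000 in
theorem core1 : ∀ a < 4, ∀ b < 4, ∀ c < 4, ∀ d < 4, ∀ e < 4, ∀ f < 4,
    (∀ i < 8, ev (mk a b c d e f) (ev (mk a b c d e f) (ev (mk a b c d e f) i)) = i) →
    mk a b c d e f ∈ L3 := by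
  decide +kernel

set_option synthInstance.maxSize 4096 in
set_option synthInstance.maxHeartbeats 200000 in
theorem core2 : ∀ a < 4, ∀ b < 4, ∀ c < 4, ∀ d < 4, ∀ e < 4, ∀ f < 4,
    (∀ i < 8, ev (mk a b c d e f) (ev (mk a b c d e f) i) = xi i) → ∀ m ∈ L3,
    (∀ i < 8, ev (mk a b c d e f) (ev m i) = ev m (ev (mk a b c d e f) i)) →
    m = 16434824 ∨ mk a b c d e f = 16433242 ∨ mk a b c d e f = 16433683 := by
  decide +kernel

set_option synthInstance.maxSize 4096 in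
set_option synthInstance.maxHeartbeats 200000 in
theorem core3 : ∀ a < 4, ∀ b < 4, ∀ c < 4, ∀ d < 4, ∀ e < 4, ∀ f < 4,
    (∀ i < 8, ev (mk a b c d e f) (ev (mk a b c d e f) i) = i) → ∀ m ∈ L3,
    (∀ i < 8, ev m (ev (mk a b c d e f) (ev m (ev m (ev (mk a b c d e f)
      (ev m (ev (mk a b c d e f) (ev m (ev m (ev (mk a b c d e f) i))))))))) = i) →
    ∃ k ∈ [16434824, 14571144, 11789960, 9926280], ∀ i < 8,
      ev m (ev (mk a b c d e f) (ev m (ev m (ev (mk a b c d e f) i)))) = ev k i := by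
  decide +kernel

theorem Rep.mul {σ τ : S8} {m n : ℕ} (h : Rep σ m) (h' : Rep τ n) (i : Fin 8) :
    ((σ * τ) i : ℕ) = ev m (ev n i) := by
  rw [Perm.mul_apply, h, h']

theorem rep_eq {σ τ : S8} {m : ℕ} (h : Rep σ m) (h' : Rep τ m) : σ = τ :=
  Equiv.ext fun i => Fin.ext ((h i).trans (h' i).symm)

theorem rep1 : Rep 1 16434824 := by unfold Rep; decide +kernel

theorem l3 (ρ : S8) (h3 : ρ ^ 3 = 1) (hc : ρ * x0 = x0 * ρ) : ∃ m ∈ L3, Rep ρ m := by
  obtain ⟨a, ha, b, hb, c, hc', d, hd, e, he, f, hf, R⟩ := par ρ hc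
  refine ⟨_, core1 a ha b hb c hc' d hd e he f hf fun i hi => ?_, R⟩
  have := congrArg (fun τ : S8 => (τ ⟨i, hi⟩ : ℕ)) h3
  simp only [pow_succ, pow_zero, one_mul, Perm.mul_apply, Perm.one_apply] at this
  rw [R, R, R] at this
  exact this

theorem r42a (r ρ : S8) (hr : r ∈ alternatingGroup (Fin 8)) (h : r * r = x0) (h3 : ρ ^ 3 = 1)
    (hc : ρ * r = r * ρ) : ρ = 1 := by
  obtain ⟨m, hm, Rm⟩ := l3 ρ h3 (by rw [← h, ← mul_assoc, hc, mul_assoc, hc, mul_assoc])
  obtain ⟨a, ha, b, hb, c, hc', d, hd, e, he, f, hf, R⟩ := par r (by rw [← h, mul_assoc])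
  have := core2 a ha b hb c hc' d hd e he f hf (fun i hi => by
    have := R.mul R ⟨i, hi⟩
    rw [h, xi_eq] at this
    exact this.symm) m hm (fun i hi => by
    have h1 := R.mul Rm ⟨i, hi⟩
    have h2 := Rm.mul R ⟨i, hi⟩
    rw [hc] at h2
    exact h1.symm.trans h2)
  rw [mem_alternatingGroup] at hr
  rcases this with h1 | h1 | h1
  · exact rep_eq (h1 ▸ Rm) rep1
  · exfalso
    have : r = swap 0 3 * swap 0 1 * swap 0 2 :=
      rep_eq (h1 ▸ R) (by unfold Rep; decide +kernel)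
    rw [this] at hr
    revert hr; decide
  · exfalso
    have : r = swap 0 2 * swap 0 1 * swap 0 3 :=
      rep_eq (h1 ▸ R) (by unfold Rep; decide +kernel)
    rw [this] at hr
    revert hr; decide

theorem v22a (ρ v : S8) (h3 : ρ ^ 3 = 1) (hρ : ρ * x0 = x0 * ρ) (hv : v * x0 = x0 * v)
    (h2 : v * v = 1) (hs : cm ρ v * cm ρ v = 1) : cm ρ v = 1 ∨ Ty 4 (cm ρ v) := by
  obtain ⟨m, hm, Rm⟩ := l3 ρ h3 hρ
  obtain ⟨a, ha, b, hb, c, hc', d, hd, e, he, f, hf, R⟩ := par v hv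
  have e1 : cm ρ v = ρ * v * ρ * ρ * v := by
    have h1 : ρ⁻¹ = ρ * ρ := by
      rw [inv_eq_iff_mul_eq_one, ← h3]; simp [pow_succ, mul_assoc]
    have h2' : v⁻¹ = v := inv_eq_iff_mul_eq_one.mpr h2
    show ρ * v * ρ⁻¹ * v⁻¹ = _
    rw [h1, h2', mul_assoc (ρ * v), mul_assoc (ρ * v * ρ), mul_assoc (ρ * v), mul_assoc ρ ρ]
  have e2 : ∀ i : Fin 8, (cm ρ v i : ℕ) =
      ev m (ev (mk a b c d e f) (ev m (ev m (ev (mk a b c d e f) i)))) := fun i => by
    rw [e1]
    simp only [Perm.mul_apply]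
    rw [Rm, R, Rm, Rm, R]
  obtain ⟨k, hk, hk'⟩ := core3 a ha b hb c hc' d hd e he f hf (fun i hi => by
    have := R.mul R ⟨i, hi⟩
    rw [h2] at this
    exact this.symm) m hm (fun i hi => by
    have h1 := congrArg (fun τ : S8 => (τ ⟨i, hi⟩ : ℕ)) hs
    simp only [Perm.one_apply] at h1
    rw [Perm.mul_apply, e2, e2] at h1
    exact h1)
  have Rk : Rep (cm ρ v) k := fun i => (e2 i).trans (hk' i i.2)
  simp only [List.mem_cons, List.not_mem_nil, or_false] at hk
  rcases hk with rfl | rfl | rfl | rfl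
  · exact Or.inl (rep_eq Rk rep1)
  · right
    rw [rep_eq Rk (τ := swap 4 5 * swap 6 7) (by unfold Rep; decide +kernel)]
    exact ⟨by decide, by decide⟩
  · right
    rw [rep_eq Rk (τ := swap 4 6 * swap 5 7) (by unfold Rep; decide +kernel)]
    exact ⟨by decide, by decide⟩
  · right
    rw [rep_eq Rk (τ := swap 4 7 * swap 5 6) (by unfold Rep; decide +kernel)]
    exact ⟨by decide, by decide⟩

theorem ty_conj {k : ℕ} {σ : S8} (g : S8) (h : Ty k (g * σ * g⁻¹)) : Ty k σ := by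
  refine ⟨?_, by rw [← h.2, card_support_conj]⟩
  have := h.1
  calc σ * σ = g⁻¹ * (g * σ * g⁻¹ * (g * σ * g⁻¹)) * g := by group
    _ = 1 := by rw [this]; group

theorem jobKP : KP where
  cls := cls
  ev := ev'
  od := od'
  cj := cj
  r42 := fun r ρ hr h h3 hc => by
    obtain ⟨a, ha⟩ := cj 4 _ _ (by decide) h x0_ty
    have := r42a ((a : S8) * r * (a : S8)⁻¹) ((a : S8) * ρ * (a : S8)⁻¹)
      (Subgroup.mul_mem _ (Subgroup.mul_mem _ a.2 hr) (Subgroup.inv_mem _ a.2))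
      (by rw [← ha]; group) (by rw [conj_pow, h3]; group)
      (by
        calc _ = (a : S8) * (ρ * r) * (a : S8)⁻¹ := by group
          _ = _ := by rw [hc]; group)
    calc ρ = (a : S8)⁻¹ * ((a : S8) * ρ * (a : S8)⁻¹) * a := by group
      _ = 1 := by rw [this]; group
  v22 := fun ξ ρ v h h3 hρ hv h2 hs => by
    obtain ⟨a, ha⟩ := cj 4 _ _ (by decide) h x0_ty
    have e : cm ((a : S8) * ρ * (a : S8)⁻¹) ((a : S8) * v * (a : S8)⁻¹) =
        (a : S8) * cm ρ v * (a : S8)⁻¹ := by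
      simp only [cm]; group
    have := v22a ((a : S8) * ρ * (a : S8)⁻¹) ((a : S8) * v * (a : S8)⁻¹)
      (by rw [conj_pow, h3]; group)
      (by
        rw [← ha]
        calc _ = (a : S8) * (ρ * ξ) * (a : S8)⁻¹ := by group
          _ = _ := by rw [hρ]; group)
      (by
        rw [← ha]
        calc _ = (a : S8) * (v * ξ) * (a : S8)⁻¹ := by group
          _ = _ := by rw [hv]; group)
      (by
        calc _ = (a : S8) * (v * v) * (a : S8)⁻¹ := by group
          _ = _ := by rw [h2]; group)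
      (by
        rw [e]
        calc _ = (a : S8) * (cm ρ v * cm ρ v) * (a : S8)⁻¹ := by group
          _ = _ := by rw [hs]; group)
    rw [e] at this
    rcases this with h1 | h1
    · left
      generalize cm ρ v = w at h1 ⊢
      calc w = (a : S8)⁻¹ * ((a : S8) * w * (a : S8)⁻¹) * a := by group
        _ = 1 := by rw [h1]; group
    · exact Or.inr (ty_conj _ h1)

end H42.A8KP
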