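import Cfsg.Agent.H42.ReeSyl3
import Cfsg.Agent.H83.W6Real
import Cfsg.Agent.H57.PslAutCard
import Cfsg.Agent.H98.Cent
import Cfsg.Agent.S0204

/-! Simple groups whose abelian subgroups of equal order are conjugate under automorphisms. -/

set_option autoImplicit false
set_option linter.unusedSectionVars false

namespace H42.Ree

open Cfsg Subgroup H14 H98 H10.W
open scoped Pointwise

/-- Abelian subgroups of the same order are conjugate under `Aut(M)`. -/
def AbT (M : Type*) [Group M] : Prop :=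
  ∀ A B : Subgroup M, IsMulCommutative A → IsMulCommutative B → Nat.card A = Nat.card B →
    ∃ α : MulAut M, B = A.map α.toMonoidHom

theorem abT_of_normal {G : Type*} [Group G] (hB : ∀ A B : Subgroup G, IsMulCommutative A →
    IsMulCommutative B → Nat.card A = Nat.card B → ∃ g : G, B = A.map (MulAut.conj g).toMonoidHom)
    (M : Subgroup G) [M.Normal] : AbT M := fun A B _ _ h => by
  obtain ⟨g, hg⟩ := hB (A.map M.subtype) (B.map M.subtype) inferInstance inferInstance (by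
    rwa [card_map_of_injective M.subtype_injective, card_map_of_injective M.subtype_injective])
  refine ⟨MulAut.conjNormal g, map_injective M.subtype_injective ?_⟩
  rw [hg, map_map, map_map]
  rfl

variable {M : Type*} [Group M] [Finite M]

theorem AbT.ab2 [IsSimpleGroup M] (h : AbT M) (hna : ¬ IsMulCommutative M) : Ab2 M := fun P => by
  obtain ⟨E, hE⟩ := Cfsg.Agent.S0204.result (G := M) fun _ => hna IsCyclic.isMulCommutative
  have s : ∀ x : (P : Subgroup M), x * x = 1 := fun x => by_contra fun hx => by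
    obtain ⟨k, hk⟩ := IsPGroup.iff_orderOf.1 P.isPGroup' x
    have h4 : 4 ∣ orderOf (x : M) := by
      rw [orderOf_coe, hk]
      refine pow_dvd_pow 2 (show 2 ≤ k from not_lt.1 fun h => hx ?_)
      rw [← pow_two, ← orderOf_dvd_iff_pow_eq_one, hk]
      exact pow_dvd_pow 2 (show k ≤ 1 by omega)
    have h5 := orderOf_pow_orderOf_div (orderOf_pos _).ne' h4
    obtain ⟨α, e⟩ := h E (zpowers _) IsKleinFour.isMulCommutative inferInstance
      (hE.card_four.trans (h5.symm.trans (Nat.card_zpowers _).symm))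
    obtain ⟨y, hy, e'⟩ := e.le (mem_zpowers _)
    have h6 : y * y = 1 := congrArg Subtype.val (IsKleinFour.mul_self (⟨y, hy⟩ : E))
    have : orderOf (α.toMonoidHom y) ∣ 2 :=
      orderOf_dvd_of_pow_eq_one (by rw [pow_two, ← map_mul, h6, map_one])
    rw [e', h5] at this
    omega
  refine ⟨⟨fun a b => ?_⟩⟩
  rw [← inv_eq_of_mul_eq_one_left (s (a * b)), mul_inv_rev, inv_eq_of_mul_eq_one_left (s a),
    inv_eq_of_mul_eq_one_left (s b)]

theorem AbT.not_ree (h : AbT M) {t : M} {L : Subgroup M} {q : ℕ} (j : JR t L L q) (h5 : 5 < q) :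
    False := by
  obtain ⟨⟨m, -, hq⟩, a, b, s, N, c, -, ms, -, h7⟩ := ree_of_jr' j h5
  have := Fact.mk Nat.prime_three
  obtain ⟨Q₀, hQ₀, h8, -⟩ := ms.exists_syl hq (by omega) h7
  obtain ⟨Q, hQ, hs⟩ := exists_invSyl (A := zpowers s) (K := opp 2 N)
    (.of_card (n := 1) (by rw [Nat.card_zpowers, ms.ot, pow_one])) (odd_card_opp N)
    ((zpowers_le.2 ms.mem).trans (self_le_normalizer_opp N)) 3
  obtain ⟨x, hx, hx'⟩ : ∃ x ∈ Q, x ∉ cen s := by
    by_contra! h1
    have h2 := hQ.card_le hQ₀.isPGroup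
      (le_opp_of_not_four ms.four hQ₀.le (c.odd_of_isPGroup hQ₀.isPGroup))
    have h3 := card_dvd_of_le (show Q ≤ cen s from h1)
    obtain ⟨k, hk⟩ := IsPGroup.iff_card.1 hQ.isPGroup
    rw [c.card_cen ms.ot, show 8 * (q * (a * b)) = q * (2 * a * (4 * b)) by ring, hk] at h3
    have h4 := Nat.le_of_dvd (by omega) (Nat.Coprime.dvd_of_dvd_mul_right (.pow_left _
      ((Nat.Prime.coprime_iff_not_dvd Nat.prime_three).2
        (Nat.prime_three.not_dvd_mul c.not_dvd_a c.not_dvd_b))) h3)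
    have : q ^ 1 < q ^ 3 := Nat.pow_lt_pow_right (by omega) (by omega)
    rw [pow_one] at this
    rw [h8, hk] at h2
    exact absurd (h2.trans h4) this.not_ge
  have s2 := sq_of_two ms.ot
  have hy : x⁻¹ * (s * x * s⁻¹) ∈ Q :=
    mul_mem (inv_mem hx) (conj_mem_of_mem_normalizer (hs (mem_zpowers s)) hx)
  have y1 : x⁻¹ * (s * x * s⁻¹) ≠ 1 := fun e => hx' (mem_cen.2 (by
    rw [inv_mul_eq_one, eq_mul_inv_iff_mul_eq] at e; exact e))
  have yi : s * (x⁻¹ * (s * x * s⁻¹)) * s⁻¹ = (x⁻¹ * (s * x * s⁻¹))⁻¹ := by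
    calc _ = s * x⁻¹ * (s * s) * s⁻¹ * x * (s * s)⁻¹ := by group
      _ = _ := by rw [s2]; group
  generalize x⁻¹ * (s * x * s⁻¹) = y at hy y1 yi
  have z3 := orderOf_pow_orderOf_div (orderOf_pos y).ne' (show 3 ∣ orderOf y from by
    simpa using hQ.isPGroup.dvd_orderOf (g := ⟨y, hy⟩) fun e => y1 (congrArg Subtype.val e))
  have zi : s * y ^ (orderOf y / 3) * s⁻¹ = (y ^ (orderOf y / 3))⁻¹ := by
    rw [← conj_pow, yi, inv_pow]
  generalize y ^ (orderOf y / 3) = z at z3 zi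
  obtain ⟨⟨p, hp⟩, p3⟩ := exists_prime_orderOf_dvd_card' (G := cen s) 3 (by
    rw [c.card_cen ms.ot]; exact (c.p_dvd.mul_right _).mul_left _)
  rw [orderOf_mk] at p3
  obtain ⟨α, e⟩ := h (zpowers p) (zpowers z) inferInstance inferInstance (by
    rw [Nat.card_zpowers, Nat.card_zpowers, p3, z3])
  have h1 : α s ∈ cens (zpowers z) := by
    rw [e, MonoidHom.map_zpowers, cens_zpowers, mem_cen]
    exact (map_mul α s p).symm.trans ((congrArg α (mem_cen.1 hp).symm).trans (map_mul α p s))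
  have h2 : s ∈ nor (zpowers z) := mem_normalizer_fintype fun w hw => by
    obtain ⟨k, rfl⟩ := mem_zpowers_iff.1 hw
    rw [← conj_zpow, zi]
    exact zpow_mem (inv_mem (mem_zpowers z)) k
  have h3 : s ∉ cens (zpowers z) := fun h => by
    have := eq_one_of_cen_of_inv (z3 ▸ by decide) (mem_cens.1 h z (mem_zpowers z)).symm zi
    simp [this] at z3
  have h4 : 2 ∣ Nat.card (cens (zpowers z)) := by
    simpa [ms.ot] using orderOf_dvd_natCard (⟨α s, h1⟩ : cens (zpowers z))
  have h6 : 2 ∣ (cens (zpowers z)).relIndex (nor (zpowers z)) := by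
    by_contra h6
    have : ((cens (zpowers z)).subgroupOf (nor (zpowers z))).Normal := inferInstance
    have := pow_index_mem (H := (cens (zpowers z)).subgroupOf (nor (zpowers z))) ⟨s, h2⟩
    obtain ⟨k, hk⟩ := Nat.odd_iff.2 (Nat.two_dvd_ne_zero.1 h6)
    rw [← relIndex, hk, mem_subgroupOf, coe_pow, pow_succ, pow_mul, pow_two, s2, one_pow,
      one_mul] at this
    exact h3 this
  have h9 := c.eq_bot_of_four rfl (Y := zpowers z)
    (.of_card (n := 1) (by rw [Nat.card_zpowers, z3, pow_one])) (by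
      rw [← ((cens (zpowers z)).subgroupOf (nor (zpowers z))).card_mul_index,
        card_subgroupOf_of_le (cens_le_nor _)]
      exact mul_dvd_mul h4 h6)
  simp [zpowers_eq_bot.1 h9] at z3

theorem card_off {α : Type*} [Finite α] (a : α) :
    Nat.card {x : α × α // x.1 ≠ a ∧ x.2 ≠ a ∧ x.1 ≠ x.2} = (Nat.card α - 1) * (Nat.card α - 2) := by
  classical
  have := Fintype.ofFinite α
  rw [Nat.subtype_card (Finset.univ.erase a).offDiag (by simp), Finset.offDiag_card,
    Finset.card_erase_of_mem (Finset.mem_univ a), Finset.card_univ, Nat.card_eq_fintype_card,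
    ← Nat.mul_sub_one, Nat.sub_sub]

theorem card_pairs : Nat.card {x : M × M // Pair x.1 x.2} =
    Nat.card {V : Subgroup M // IsKleinFour V} * 6 := by
  let f : {x : M × M // Pair x.1 x.2} → {V : Subgroup M // IsKleinFour V} :=
    fun x => ⟨V4 x.1.1 x.1.2, x.2.klein⟩
  have := Fintype.ofFinite {V : Subgroup M // IsKleinFour V}
  rw [← Nat.card_congr (Equiv.sigmaFiberEquiv f), Nat.card_sigma, Nat.card_eq_fintype_card,
    ← Finset.card_univ, ← smul_eq_mul, ← Finset.sum_const]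
  refine Finset.sum_congr rfl fun ⟨V, hV⟩ _ => ?_
  have h1 := card_off (1 : V)
  rw [hV.card_four] at h1
  refine .trans (Nat.card_eq_of_bijective (fun x => ⟨(⟨x.1.1.1, (congrArg Subtype.val x.2).le
    (left_mem_V4 _ _)⟩, ⟨x.1.1.2, (congrArg Subtype.val x.2).le (right_mem_V4 _ _)⟩),
    fun e => ne_one_of_two x.1.2.ot (congrArg Subtype.val e),
    fun e => ne_one_of_two x.1.2.ou (congrArg Subtype.val e),
    fun e => x.1.2.ne (congrArg Subtype.val e)⟩) ⟨fun x y e => ?_, fun ⟨⟨a, b⟩, h2, h3, h4⟩ => ?_⟩) h1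
  · simp only [Subtype.mk.injEq, Prod.mk.injEq] at e
    exact Subtype.ext (Subtype.ext (Prod.ext e.1 e.2))
  · have s : ∀ x : V, x ≠ 1 → orderOf (x : M) = 2 := fun x hx => two_of_sq
      (congrArg Subtype.val (IsKleinFour.mul_self x)) fun e => hx (Subtype.ext e)
    have hp : Pair (a : M) b := ⟨s a h2, s b h3, fun e => h4 (Subtype.ext e),
      congrArg Subtype.val (IsKleinFour.isMulCommutative.is_comm.comm a b)⟩
    exact ⟨⟨⟨(a, b), hp⟩, Subtype.ext (eq_of_le_of_card_ge (V4_le a.2 b.2)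
      (hV.card_four.trans hp.card_V4.symm).le)⟩, rfl⟩

theorem arith {n : ℕ} (hn : 2 ≤ n) (h : 2 ^ n - 2 ∣ n * 6) : n = 2 ∨ n = 3 ∨ n = 5 := by
  have h1 : ∀ k, (k + 6) * 6 + 2 < 2 ^ (k + 6) := fun k => by
    induction k with
    | zero => norm_num
    | succ k ih => rw [add_right_comm, pow_succ]; omega
  have h2 := Nat.le_of_dvd (by omega) h
  rcases Nat.lt_or_ge n 6 with h3 | h3
  · interval_cases n <;> simp_all
  · obtain ⟨k, rfl⟩ := Nat.exists_eq_add_of_le' h3
    have := h1 k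
    omega

theorem AbT.exp (h : AbT M) {n : ℕ} (hn : 2 ≤ n) (hL : IsL2 M (2 ^ n)) :
    n = 2 ∨ n = 3 ∨ n = 5 := by
  have hE : IsL2E M := ⟨n, hn, hL⟩
  have fc := (H24.IsL2E.facts hE).1
  have := fc.simple
  have cM := hL.card_of_even (Nat.even_pow.2 ⟨even_two, by omega⟩)
  have h4 : 2 ^ 2 ≤ 2 ^ n := Nat.pow_le_pow_right two_pos hn
  have o1 : ¬ 2 ∣ (2 ^ n) ^ 2 - 1 := fun h => by
    have : 2 ∣ (2 ^ n) ^ 2 := dvd_pow (dvd_pow_self 2 (by omega)) two_ne_zero
    have : 0 < (2 ^ n) ^ 2 := by positivity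
    omega
  have cC : ∀ t : M, orderOf t = 2 → Nat.card (cen t) = 2 ^ n := fun t ht => by
    have h1 : IsPGroup 2 (cen t) := fun c =>
      ⟨1, Subtype.ext ((pow_two _).trans (H24.IsL2E.sq hE t c ht (mem_cen.1 c.2)))⟩
    obtain ⟨P, hP⟩ := h1.exists_le_sylow
    rw [le_antisymm hP fun x hx => mem_cen.2 (congrArg Subtype.val
      ((fc.ab2 P).is_comm.comm ⟨x, hx⟩ ⟨t, hP (self_mem_cen t)⟩)), P.card_eq_multiplicity, cM,
      Nat.factorization_mul (by positivity) (by rintro h; simp [h] at o1), Finsupp.add_apply,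
      Nat.factorization_eq_zero_of_not_dvd o1, Nat.prime_two.factorization_pow, add_zero,
      Finsupp.single_eq_same]
  obtain ⟨E, hK⟩ := Cfsg.Agent.S0204.result (G := M) fun _ => fc.nonab IsCyclic.isMulCommutative
  have : Nontrivial E := Finite.one_lt_card_iff_nontrivial.1 (by rw [hK.card_four]; omega)
  obtain ⟨⟨t, ht⟩, t1⟩ := exists_ne (1 : E)
  obtain ⟨u, hp, rfl⟩ := exists_pair_of_klein hK ht fun e => t1 (Subtype.ext e)
  have cI : Nat.card {s : M // orderOf s = 2} = (2 ^ n) ^ 2 - 1 := by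
    have h1 := (cen t).card_mul_index
    rw [cC t hp.ot, cM, mul_right_inj' (by positivity), ← H28.card_isConj_eq_index] at h1
    exact .trans (Nat.card_congr (Equiv.subtypeEquivRight fun s => ⟨fun hs =>
      isConj_iff.2 (H83.w6_one_class fc hs hp.ot), fun hs => by
        obtain ⟨g, rfl⟩ := isConj_iff.1 hs
        rw [orderOf_conj, hp.ot]⟩)) h1
  have cP : Nat.card {x : M × M // Pair x.1 x.2} = ((2 ^ n) ^ 2 - 1) * (2 ^ n - 2) := by
    let f : {x : M × M // Pair x.1 x.2} → {s : M // orderOf s = 2} := fun x => ⟨x.1.1, x.2.ot⟩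
    have := Fintype.ofFinite {s : M // orderOf s = 2}
    rw [← Nat.card_congr (Equiv.sigmaFiberEquiv f), Nat.card_sigma, ← cI, Nat.card_eq_fintype_card,
      ← Finset.card_univ, ← smul_eq_mul, ← Finset.sum_const]
    refine Finset.sum_congr rfl fun ⟨s, hs⟩ _ => ?_
    have h1 : Nat.card ((cen s : Set M) \ {s, 1} : Set M) = 2 ^ n - 2 := by
      rw [Nat.card_coe_set_eq, Set.ncard_diff (Set.pair_subset (self_mem_cen s) (one_mem _)),
        Set.ncard_pair (ne_one_of_two hs), ← Nat.card_coe_set_eq, ← cC s hs]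
      rfl
    rw [← h1]
    refine Nat.card_eq_of_bijective (fun x => ⟨x.1.1.2, by
      obtain ⟨⟨⟨a, b⟩, hx⟩, e⟩ := x
      obtain rfl : a = s := congrArg Subtype.val e
      exact ⟨mem_cen.2 hx.comm.symm, fun h => h.elim hx.ne.symm (ne_one_of_two hx.ou)⟩⟩)
      ⟨fun x y e => Subtype.ext (Subtype.ext (Prod.ext ((congrArg Subtype.val x.2).trans
        (congrArg Subtype.val y.2).symm) (congrArg Subtype.val e))), fun ⟨y, hy, hy'⟩ => ?_⟩
    exact ⟨⟨⟨(s, y), hs, two_of_sq (H24.IsL2E.sq hE s y hs (mem_cen.1 hy))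
      fun e => hy' (Or.inr e), fun e => hy' (Or.inl e.symm), (mem_cen.1 hy).symm⟩, rfl⟩, rfl⟩
  have cA : Nat.card (MulAut M) = n * (2 ^ n * ((2 ^ n) ^ 2 - 1)) := by
    obtain ⟨F, _, _, hF, ⟨e⟩⟩ := hL
    rw [Nat.card_congr (MulAut.congr e).toEquiv, H57.card_aut_psl_two,
      H57.card_ringAut_finite_field hF, H88.card_pgl_two, hF]
  have cK : Nat.card {V : Subgroup M // IsKleinFour V} =
      (MulAction.stabilizer (MulAut M) (V4 t u)).index := by
    rw [MulAction.index_stabilizer, ← Nat.card_coe_set_eq]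
    refine Nat.card_congr (Equiv.subtypeEquivRight fun V => ⟨fun hV => ?_, ?_⟩)
    · obtain ⟨α, e⟩ := h _ V hp.isMulCommutative_V4 IsKleinFour.isMulCommutative
        (hp.card_V4.trans hV.card_four.symm)
      exact ⟨α, e.symm⟩
    · rintro ⟨α, rfl⟩
      let e := (V4 t u).equivMapOfInjective α.toMonoidHom α.injective
      exact ⟨(Nat.card_congr e.toEquiv).symm.trans hK.card_four,
        (Monoid.exponent_eq_of_mulEquiv e).symm.trans hK.exponent_two⟩
  have cS : 2 ^ n ∣ Nat.card (MulAction.stabilizer (MulAut M) (V4 t u)) := by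
    rw [← cC t hp.ot, ← card_map_of_injective (f := MulAut.conj) (H24.conj_injective'
      ((center M).normal_of_characteristic.eq_bot_or_eq_top.resolve_right fun h => fc.nonab
        (center_eq_top_iff.1 h)))]
    refine card_dvd_of_le ?_
    rintro _ ⟨c, hc, rfl⟩
    refine cj_eq_self (cens_le_nor _ (mem_cens.2 fun v hv => ?_))
    have s : ∀ x ∈ cen t, x⁻¹ = x := fun x hx =>
      inv_eq_of_mul_eq_one_left (H24.IsL2E.sq hE t x hp.ot (mem_cen.1 hx))
    have hv' := hp.V4_le_cen (left_mem_V4 t u) hv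
    rw [← s _ (mul_mem hv' hc), mul_inv_rev, s _ hv', s _ hc]
  obtain ⟨k, hk⟩ := cS
  have h1 := (MulAction.stabilizer (MulAut M) (V4 t u)).card_mul_index
  rw [hk, cA, mul_assoc, mul_left_comm n, mul_right_inj' (by positivity), ← cK] at h1
  refine arith hn (Nat.dvd_of_mul_dvd_mul_left (k := (2 ^ n) ^ 2 - 1)
    (Nat.pos_of_ne_zero fun h => o1 (h ▸ dvd_zero 2)) ?_)
  rw [← cP, card_pairs, ← mul_assoc, mul_comm _ n, ← h1, mul_assoc]
  exact dvd_mul_left _ _

theorem AbT.cases [IsSimpleGroup M] (h : AbT M) (hna : ¬ IsMulCommutative M) :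
    (∃ (F : Type) (_ : Field F) (_ : Fintype F), (Fintype.card F = 2 ^ 2 ∨ Fintype.card F = 2 ^ 3 ∨
      Fintype.card F = 2 ^ 5) ∧ Nonempty (M ≃* Matrix.SpecialLinearGroup (Fin 2) F)) ∨
    (∃ (F : Type) (_ : Field F) (_ : Fintype F), 5 ≤ Fintype.card F ∧ (Fintype.card F % 8 = 3 ∨
      Fintype.card F % 8 = 5) ∧ Nonempty (M ≃* PSL2 F)) ∨ Spor.IsoJ1 M := by
  rcases H24.walterA M hna (h.ab2 hna) with ⟨n, hn, hL⟩ | ⟨q, hq, h8, F, _, _, rfl, e⟩ |
    ⟨t, E, L, q, j⟩
  · have h1 := h.exp hn hL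
    obtain ⟨F, _, _, hF, ⟨e⟩⟩ := hL
    refine Or.inl ⟨F, inferInstance, inferInstance, by rcases h1 with rfl | rfl | rfl <;> simp [hF],
      ⟨e.trans (H61.slEquivPslOfTwo (H61.two_eq_zero_iff_even.2 ?_)).symm⟩⟩
    rw [Nat.card_eq_fintype_card, hF]
    exact Nat.even_pow.2 ⟨even_two, by omega⟩
  · exact Or.inr (Or.inl ⟨F, _, _, by omega, h8, e⟩)
  · obtain ⟨rfl, ⟨rfl, -⟩ | ⟨m, hm, hq, -⟩⟩ := walterB M t E L q j
    · exact Or.inr (Or.inr (H24.JR.isoJ1 j))
    have : 3 ^ 2 ≤ 3 ^ (2 * m + 1) := Nat.pow_le_pow_right (by decide) (by omega)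
    exact (h.not_ree j (by omega)).elim

end H42.Ree
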