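import Cfsg.Agent.H51.GoldHub
import Cfsg.Agent.H14.Std
import Cfsg.Agent.H14.Local
import Cfsg.Agent.H84.Inv
import Cfsg.Agent.H21.DihedralMult
import Cfsg.Agent.H1.CoprimeGen
import Cfsg.Agent.H33.GLB

/-! Groups with central Sylow `2`-intersections: general lemmas. -/

set_option autoImplicit false

namespace H42.SI

open Cfsg Subgroup H14 H98 H1.Gold
open scoped commutatorElement

universe u

section Basic

variable {G : Type*} [Group G]

/-- Distinct Sylow `2`-subgroups intersect centrally. -/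
def CI (G : Type*) [Group G] : Prop :=
  ∀ S T : Subgroup G, IsSyl 2 S ⊤ → IsSyl 2 T ⊤ → S ≠ T → S ⊓ T ≤ cen S

theorem CI.mem_nor (h : CI G) {S : Subgroup G} (hS : IsSyl 2 S ⊤) {x g : G} (hx : x ∈ S)
    (hc : x ∉ cen S) (hg : g * x * g⁻¹ ∈ S) : g ∈ nor S := by
  by_contra hn
  refine hc (h S (H98.cj g⁻¹ S) hS (hS.cj_of_mem (mem_top _)) (fun e => hn ?_) ⟨hx, ?_⟩)
  · exact inv_mem_iff.1 (cj_eq_self_iff.1 e.symm)
  · exact mem_cj.2 (by simpa using hg)

theorem CI.nor_le (h : CI G) {S T : Subgroup G} (hS : IsSyl 2 S ⊤) (hT : T ≤ S)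
    (hc : ¬ T ≤ cen S) : nor T ≤ nor S := fun g hg => by
  obtain ⟨x, hx, hx'⟩ := SetLike.not_le_iff_exists.1 hc
  exact h.mem_nor hS (hT hx) hx' (hT (conj_mem_of_mem_normalizer hg hx))

variable [Finite G]

theorem CI.sc (h : CI G) {S : Subgroup G} (hS : IsSyl 2 S ⊤) : SC (S ⊓ cen S) := by
  obtain ⟨P, rfl⟩ := isSyl_top_iff.1 hS
  refine sc_of_stronglyClosed P ⟨inf_le_left, fun x hx g hg => ⟨hg, ?_⟩⟩
  by_contra hc
  have h1 := h.mem_nor hS hg hc (g := g⁻¹) (by simpa [mul_assoc] using (mem_inf.1 hx).1)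
  exact hc (conj_mem_of_mem_normalizer (normalizer_le_normalizer_centralizer _
    (inv_mem_iff.1 h1)) hx.2)

theorem exists_syl_map {H : Type*} [Group H] (f : G →* H) (hf : Function.Surjective f)
    {T : Subgroup H} (hT : IsSyl 2 T ⊤) {Q : Subgroup G} (hQ : IsPGroup 2 Q)
    (hle : Q ≤ T.comap f) : ∃ S : Subgroup G, IsSyl 2 S ⊤ ∧ Q ≤ S ∧ S.map f = T := by
  have := Finite.of_surjective f hf
  obtain ⟨S₀, hS₀⟩ := exists_isSyl 2 (⊤ : Subgroup G)
  have h1 := hS₀.map f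
  rw [map_top_of_surjective _ hf] at h1
  obtain ⟨g, -, rfl⟩ := h1.exists_cj_eq hT
  obtain ⟨g, rfl⟩ := hf g
  have h2 : IsSyl 2 (H98.cj g S₀) ⊤ := hS₀.cj_of_mem (mem_top _)
  rw [← map_cj] at hle hT ⊢
  obtain ⟨k, hk, h3⟩ := (h2.of_le (le_comap_map f _) le_top).exists_le_cj hQ hle
  refine ⟨_, h2.cj_of_mem (mem_top k), h3, ?_⟩
  rw [map_cj]
  exact cj_eq_self_of_mem hk

theorem CI.map (h : CI G) {H : Type*} [Group H] (f : G →* H) (hf : Function.Surjective f) :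
    CI H := by
  intro S T hS hT hne x hx
  obtain ⟨S', hS', -, rfl⟩ := exists_syl_map f hf hS IsPGroup.of_bot bot_le
  obtain ⟨y, hy, rfl⟩ := hx.1
  obtain ⟨T', hT', h1, rfl⟩ := exists_syl_map f hf hT (hS'.isPGroup.to_le (zpowers_le.2 hy))
    (zpowers_le.2 hx.2)
  exact map_le_centralizer_map f (inf_le_right (a := S')) (mem_map_of_mem f
    ⟨hy, h S' T' hS' hT' (fun e => hne (by rw [e])) ⟨hy, h1 (mem_zpowers y)⟩⟩)

/-- A `2`-group without four-group is generated by two elements. -/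
theorem two_gen {Γ : Subgroup G} (hΓ : IsPGroup 2 Γ)
    (hu : ∀ a ∈ Γ, ∀ b ∈ Γ, orderOf a = 2 → orderOf b = 2 → a = b) :
    ∃ p ∈ Γ, ∃ q ∈ Γ, Γ ≤ closure {p, q} := by
  rcases H84.isCyclic_or_quaternion_of_unique_involution hΓ hu with h | ⟨n, ⟨e⟩⟩
  · obtain ⟨g, hg⟩ := h.exists_generator
    refine ⟨g, g.2, g, g.2, fun x hx => ?_⟩
    obtain ⟨k, hk⟩ := hg ⟨x, hx⟩
    rw [show x = (g : G) ^ k from (congrArg Subtype.val hk).symm]
    exact zpow_mem (subset_closure (by simp)) k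
  · refine ⟨e.symm (.a 1), (e.symm _).2, e.symm (.xa 0), (e.symm _).2, fun x hx => ?_⟩
    have h1 : e ⟨x, hx⟩ ∈ closure {QuaternionGroup.a 1, QuaternionGroup.xa 0} := by
      rw [H21.quaternion_closure]; trivial
    have h2 := mem_map_of_mem (Γ.subtype.comp e.symm.toMonoidHom) h1
    rw [MonoidHom.map_closure, Set.image_pair] at h2
    simpa using h2

/-- If `S / Z(S)` needs three generators, and the noncentral elements of `S` fix only elements of
`C(S)` in the group `O` of odd order, then `S` centralises `O`. -/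
theorem cen_of_ng {S O : Subgroup G} (hS : IsPGroup 2 S) (hO : Odd (Nat.card O))
    (ha : ∀ x ∈ S, x ∉ cen S → O ⊓ cen1 x ≤ cen S)
    (hb : ∀ x ∈ S, ∀ y ∈ S, ¬ S ≤ closure {x, y} ⊔ (S ⊓ cen S)) (n : ℕ) :
    ∀ K ≤ O, Nat.card K = n → S ≤ nor K → K ≤ cen S := by
  induction n using Nat.strong_induction_on with
  | _ n ih =>
  intro K hKO hn hK
  let φ : S →* MulAut K := K.normalizerMonoidHom.comp (inclusion hK)
  have hφ : ∀ (s : S) (k : K), φ s k = k ↔ (k : G) ∈ cen1 (s : G) := fun s k => by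
    rw [mem_cen1, Subtype.ext_iff]
    show (s : G) * k * (s : G)⁻¹ = k ↔ _
    rw [mul_inv_eq_iff_eq_mul, eq_comm]
  have hΓ : IsPGroup 2 φ.range := hS.of_surjective φ.rangeRestrict φ.rangeRestrict_surjective
  by_cases hu : ∀ a ∈ φ.range, ∀ b ∈ φ.range, orderOf a = 2 → orderOf b = 2 → a = b
  · obtain ⟨_, ⟨x, rfl⟩, _, ⟨y, rfl⟩, h1⟩ := two_gen hΓ hu
    obtain ⟨s, hs, hs'⟩ := SetLike.not_le_iff_exists.1 (hb x x.2 y y.2)
    have h2 := h1 ⟨⟨s, hs⟩, rfl⟩
    rw [← Set.image_pair, ← MonoidHom.map_closure] at h2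
    obtain ⟨c, hc, e⟩ := h2
    have h3 : (c : G) ∈ closure {(x : G), (y : G)} := by
      have := mem_map_of_mem S.subtype hc
      rwa [MonoidHom.map_closure, Set.image_pair] at this
    have h4 : ((c⁻¹ * ⟨s, hs⟩ : S) : G) ∉ cen S := fun h5 => hs' (by
      have := mul_mem (mem_sup_left h3)
        (mem_sup_right (S := closure {(x : G), (y : G)}) (mem_inf.2 ⟨(c⁻¹ * ⟨s, hs⟩ : S).2, h5⟩))
      simpa using this)
    refine fun k hk => ha _ (c⁻¹ * ⟨s, hs⟩ : S).2 h4 ⟨hKO hk, (hφ _ ⟨k, hk⟩).1 ?_⟩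
    rw [map_mul, map_inv, e, inv_mul_cancel]
    rfl
  push Not at hu
  obtain ⟨a, ha1, b, hb1, ha2, hb2, hab⟩ := hu
  obtain ⟨z, hz1, hz2, hz3⟩ := exists_central_involution hΓ fun e => by
    rw [e, mem_bot] at ha1
    simp [ha1] at ha2
  obtain ⟨c, hc1, hc2, hcz⟩ : ∃ c ∈ φ.range, orderOf c = 2 ∧ c ≠ z := by
    by_cases e : a = z
    · exact ⟨b, hb1, hb2, fun e' => hab (e.trans e'.symm)⟩
    · exact ⟨a, ha1, ha2, e⟩
  obtain ⟨e1, e2⟩ := ea_four hc2 hz2 (hz3 c hc1) hcz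
  have hV : closure {c, z} ≤ φ.range := (closure_le _).2 (by
    rintro _ (rfl | rfl)
    exacts [hc1, hz1])
  have := e1.1
  have h5 : (⊤ : Subgroup K) ≤ (cen S).subgroupOf K := by
    refine H1.le_of_noncyclic_fixed (fun h => ?_) (closure {c, z}).subtype ⊤ (fun _ _ _ => trivial)
      ?_ _ fun v hv k _ hk => ?_
    · have := H15.elem_cyclic_card_dvd e1 h
      rw [e2] at this
      omega
    · rw [e2, card_top]
      exact (Nat.coprime_two_left.2 (hO.of_dvd_nat (card_dvd_of_le hKO))).pow_left 2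
    obtain ⟨s, hs⟩ := hV v.2
    have h6 : (k : G) ∈ cen1 (s : G) := (hφ s k).1 (by rw [hs]; exact hk)
    by_cases h7 : (s : G) ∈ cen S
    · have h8 : K ⊓ cen1 (s : G) < K := lt_of_le_of_ne inf_le_left fun e => hv (Subtype.ext (by
        rw [← hs]
        ext k
        exact congrArg Subtype.val ((hφ s k).2 (e.ge k.2).2)))
      exact ih _ (hn ▸ H7.card_lt_of_lt h8) _ (inf_le_left.trans hKO) rfl (le_normalizer_inf hK
        (le_normalizer_of_le fun t ht => mem_cen1.2 (h7 t ht))) ⟨k.2, h6⟩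
    · exact ha s s.2 h7 ⟨hKO k.2, h6⟩
  exact fun k hk => h5 (mem_top (⟨k, hk⟩ : K))

end Basic

section Aut

variable {X : Type*} [Group X] [Finite X]

theorem exists_fix (hz : center X = ⊥) {Γ : Subgroup (MulAut X)} (hΓ : IsPGroup 2 Γ)
    {U V : Subgroup X} (hV : IsPGroup 2 V) (hn : ∀ α ∈ Γ, ∀ x ∈ V, α x ∈ V) (h : ¬ V ≤ U) :
    ∃ v ∈ V, v ∉ U ∧ ∀ α ∈ Γ, α v * v⁻¹ ∈ U := by
  have hi : Function.Injective (MulAut.conj : X →* MulAut X) := by
    rw [← MonoidHom.ker_eq_bot_iff, eq_bot_iff, ← hz]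
    intro x hx
    rw [mem_center_iff]
    intro g
    have : x * g * x⁻¹ = g := congrArg (fun β : MulAut X => β g) hx
    rw [mul_inv_eq_iff_eq_mul] at this
    exact this.symm
  have hc : ∀ (α : MulAut X) (x : X), α * MulAut.conj x * α⁻¹ = MulAut.conj (α x) := fun α x => by
    ext y
    simp
  obtain ⟨_, ⟨v, hv, rfl⟩, h1, h2⟩ := exists_commutator_mem (V := V.map MulAut.conj)
    (W := U.map MulAut.conj) (hV.map _) hΓ (fun α hα => mem_normalizer_of_cj_le (by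
      rintro _ ⟨_, ⟨x, hx, rfl⟩, rfl⟩
      exact ⟨α x, hn α hα x hx, (hc α x).symm⟩)) (by rwa [map_le_map_iff_of_injective hi])
  refine ⟨v, hv, fun e => h1 (mem_map_of_mem _ e), fun α hα => ?_⟩
  have h3 := inv_mem (mem_inf.1 (h2 α hα)).2
  rw [commutatorElement_inv, commutatorElement_def, hc, ← map_inv, ← map_mul,
    mem_map_iff_mem hi] at h3
  exact h3

/-- A `2`-group of automorphisms of a Bender group that is normalised by the Borel subgroup
consists of inner automorphisms. -/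
theorem bd_aut (hz : center X = ⊥) {T Z D : Subgroup X} (h : BData T Z D)
    {Γ : Subgroup (MulAut X)} (hΓ : IsPGroup 2 Γ) (hT : ∀ α ∈ Γ, ∀ x ∈ T, α x ∈ T)
    (hD : ∀ d ∈ D, ∀ α ∈ Γ, (MulAut.conj d)⁻¹ * α * MulAut.conj d ∈ Γ) :
    ∀ α ∈ Γ, ∃ t ∈ T, α = MulAut.conj t := by
  have hZT := H33.GL.BD.zle h
  have hZ : ∀ α ∈ Γ, ∀ z ∈ Z, α z ∈ Z := fun α hα z hz => (h.mem_Z _).2
    ⟨hT α hα z (hZT hz), by rw [← map_pow, H33.GL.BD.zsq h hz, map_one]⟩
  have hnZ := H33.GL.BD.norT_le h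
  have hcj : ∀ (α : MulAut X) (d x : X), α (d * x * d⁻¹) * (d * x * d⁻¹)⁻¹ =
      d * (((MulAut.conj d)⁻¹ * α * MulAut.conj d) x * x⁻¹) * d⁻¹ := fun α d x => by
    simp [mul_assoc]
  have h1 : ∀ α ∈ Γ, ∀ z ∈ Z, α z = z := by
    obtain ⟨v, hv, h1, h2⟩ := exists_fix hz hΓ (U := ⊥) (h.syl.isPGroup.to_le hZT) hZ fun e => by
      obtain ⟨z, hz, h1⟩ := H33.GL.BD.exists_ne_one h
      exact h1 (e hz)
    intro α hα z hz
    by_cases e : z = 1
    · rw [e, map_one]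
    obtain ⟨d, hd, rfl⟩ := h.trans v hv z hz h1 e
    rw [← mul_inv_eq_one, hcj, mem_bot.1 (h2 _ (hD d hd α hα))]
    simp
  let Y : Subgroup X :=
    { carrier := {x | x ∈ T ∧ ∀ α ∈ Γ, α x * x⁻¹ ∈ Z}
      one_mem' := ⟨one_mem _, fun α _ => by simp⟩
      mul_mem' := by
        rintro x y ⟨hx, hx'⟩ ⟨hy, hy'⟩
        refine ⟨mul_mem hx hy, fun α hα => ?_⟩
        have := mul_mem (hx' α hα)
          (conj_mem_of_mem_normalizer (hnZ (le_normalizer hx)) (hy' α hα))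
        simpa [mul_assoc] using this
      inv_mem' := by
        rintro x ⟨hx, hx'⟩
        refine ⟨inv_mem hx, fun α hα => ?_⟩
        have := conj_mem_of_mem_normalizer' (hnZ (le_normalizer hx)) (inv_mem (hx' α hα))
        simpa [mul_assoc] using this }
  have h2 : T ≤ Y := by
    by_cases e : T ≤ Z
    · exact fun x hx => ⟨hx, fun α hα => e (mul_mem (hT α hα x hx) (inv_mem hx))⟩
    obtain ⟨v, hv, h3, h4⟩ := exists_fix hz hΓ h.syl.isPGroup hT e
    rcases h.irr Y (fun z hz => ⟨hZT hz, fun α hα => by rw [h1 α hα z hz]; simp⟩)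
      (fun x hx => hx.1) (fun d hd => mem_normalizer_of_cj_le (by
        rintro _ ⟨x, hx, rfl⟩
        refine ⟨conj_mem_of_mem_normalizer (H33.GL.BD.dle h hd) hx.1, fun α hα => ?_⟩
        show α (d * x * d⁻¹) * (d * x * d⁻¹)⁻¹ ∈ Z
        rw [hcj]
        exact conj_mem_of_mem_normalizer (hnZ (H33.GL.BD.dle h hd)) (hx.2 _ (hD d hd α hα))))
      with e' | e'
    · exact (h3 (e'.le ⟨hv, h4⟩)).elim
    · exact e'.ge
  exact fun α hα => h.aut α (two_of_mem hΓ hα) (fun x hx => (h2 hx).2 α hα) (h1 α hα)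

end Aut

end H42.SI
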