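import Cfsg.Agent.H5.ThompsonFpf
import Cfsg.Agent.H4.HallBasic

/-! Groups with a coprime group of operators all of whose proper invariant subgroups are nilpotent. -/

set_option autoImplicit false
open Cfsg Pointwise

namespace H42
open H5

universe u v
variable {A : Type v} [Group A] [Finite A]

theorem solvable_of_inv_nilpotent [hA : Group.IsSolvable A] (n : ℕ) :
    ∀ (G : Type u) [Group G] [Finite G] (φ : A →* MulAut G), Nat.card G = n →
      (Nat.card A).Coprime (Nat.card G) →
      (∀ K : Subgroup G, K ≠ ⊤ → (∀ a, ∀ x ∈ K, φ a x ∈ K) → Group.IsNilpotent K) →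
      Group.IsSolvable G := by
  induction n using Nat.strong_induction_on with
  | _ n ih =>
  intro G _ _ φ hn hcop hsub
  rcases subsingleton_or_nontrivial G with hG | hG
  · infer_instance
  obtain ⟨V, -, hVn, hV1, hVA, hmin⟩ :=
    exists_minimal_invariant_normal φ ⊤ top_ne_bot (fun _ _ _ => trivial)
  by_cases hV : V = ⊤
  swap
  · have := hsub V hV hVA
    have hs := QuotientGroup.mk'_surjective V
    have := ih _ (hn ▸ H4.card_quotient_lt V hV1) (G ⧸ V) (quotAut φ V hVA) rfl
      (hcop.coprime_dvd_right (Subgroup.card_quotient_dvd_card V)) fun K hK hKA => by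
        have := hsub (K.comap (QuotientGroup.mk' V))
          (fun e => hK (by rw [← Subgroup.map_comap_eq_self_of_surjective hs K, e,
            Subgroup.map_top_of_surjective _ hs])) fun a x hx => hKA a _ hx
        exact Group.nilpotent_of_surjective ((QuotientGroup.mk' V).subgroupComap K)
          (MonoidHom.subgroupComap_surjective_of_surjective _ _ hs)
    exact solvable_of_ker_le_range V.subtype (QuotientGroup.mk' V) (by simp)
  subst hV
  by_cases h2 : IsPGroup 2 G
  · have : Fact (Nat.Prime 2) := ⟨Nat.prime_two⟩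
    have := h2.isNilpotent
    infer_instance
  have : ∃ q : ℕ, q.Prime ∧ q ≠ 2 ∧ q ∣ Nat.card G := by
    by_contra h
    push Not at h
    apply h2
    apply IsPGroup.of_card (n := (Nat.card G).primeFactorsList.length)
    apply Nat.eq_prime_pow_of_unique_prime_dvd Nat.card_pos.ne'
    intro d hd hdd
    by_contra hd2
    exact h d hd hd2 hdd
  obtain ⟨q, hq, hq2, hqd⟩ := this
  have : Fact q.Prime := ⟨hq⟩
  obtain ⟨Q, hQA⟩ := H1.exists_invariant_sylow φ hcop (Or.inl hA) q
  by_cases hqG : IsPGroup q G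
  · have := hqG.isNilpotent
    infer_instance
  exfalso
  have hNPC : HasNormalPComplement q G := by
    apply weakThompsonNPC G q hq2 Q
    intro X hX hX1
    have hXA := invariant_map_subtype_of_characteristic φ hQA X
    have := hsub _ ?_ (H1.invariant_normalizer φ hXA)
    · exact hasNPC_of_isNilpotent q
    intro htop
    rcases hmin _ (Subgroup.normalizer_eq_top_iff.1 htop) hXA le_top with h | h
    · exact hX1 ((Subgroup.map_eq_bot_iff_of_injective X (Subgroup.subtype_injective _)).1 h)
    · apply hqG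
      have h3 : (Q : Subgroup G) = ⊤ := top_le_iff.1 (h.ge.trans (Subgroup.map_subtype_le X))
      exact (h3 ▸ Q.isPGroup').of_equiv Subgroup.topEquiv
  have := H7.pResidual_characteristic (p := q) (G := G)
  rcases hmin (pResidual q G) inferInstance (invariant_of_characteristic φ _) le_top with h | h
  · exact hqG (H7.isPGroup_iff_pResidual_eq_bot.2 h)
  · rw [H7.hasNPC_iff_not_dvd, h, Subgroup.card_top] at hNPC
    exact hNPC hqd

variable {G : Type u} [Group G] [Finite G]

theorem exists_pResidual_ne_top [Group.IsSolvable G] [Nontrivial G] :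
    ∃ q : ℕ, q.Prime ∧ pResidual q G ≠ ⊤ := by
  have hlt : commutator G < ⊤ := IsSolvable.commutator_lt_top_of_nontrivial G
  obtain ⟨M, hM, hle⟩ := (eq_top_or_exists_le_coatom (commutator G)).resolve_left hlt.ne
  haveI : M.Normal := Subgroup.Normal.of_commutator_le G hle
  have h1 : Nat.card (G ⧸ M) ≠ 1 := fun e => hM.1 (Subgroup.index_eq_one.1 e)
  obtain ⟨q, hq, hd⟩ := Nat.exists_prime_and_dvd h1
  haveI := Fact.mk hq
  refine ⟨q, hq, fun e => hM.1 (top_le_iff.1 (e.ge.trans ?_))⟩
  obtain ⟨x, hx⟩ := exists_prime_orderOf_dvd_card' q hd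
  refine H7.pResidual_le_of_isPGroup_quotient ?_
  have hs := QuotientGroup.mk'_surjective M
  have h2 : (Subgroup.zpowers x).comap (QuotientGroup.mk' M) = ⊤ := by
    refine hM.2 _ (lt_of_le_of_ne (QuotientGroup.le_comap_mk' M _) fun e => ?_)
    obtain ⟨y, rfl⟩ := hs x
    have : y ∈ M := e ▸ Subgroup.mem_zpowers _
    rw [QuotientGroup.mk'_apply, (QuotientGroup.eq_one_iff y).2 this, orderOf_one] at hx
    exact hq.ne_one hx.symm
  have h3 : Subgroup.zpowers x = ⊤ := by
    rw [← Subgroup.map_comap_eq_self_of_surjective hs (Subgroup.zpowers x), h2,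
      Subgroup.map_top_of_surjective _ hs]
  refine IsPGroup.of_card (n := 1) ?_
  rw [← Subgroup.card_top, ← h3, Nat.card_zpowers, hx, pow_one]

theorem le_normalizer_sylow_of_nilpotent {p : ℕ} [Fact p.Prime] (P : Sylow p G) {K : Subgroup G}
    (h : (P : Subgroup G) ≤ K) [Group.IsNilpotent K] :
    ((P : Subgroup G).subgroupOf K).Characteristic := by
  have h1 : (P.subtype h : Subgroup K).Normal := inferInstance
  exact Sylow.characteristic_of_normal (P.subtype h) h1

theorem inv_schmidt [hG : Group.IsSolvable G] (φ : A →* MulAut G)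
    (hcop : (Nat.card A).Coprime (Nat.card G))
    (hsub : ∀ K : Subgroup G, K ≠ ⊤ → (∀ a, ∀ x ∈ K, φ a x ∈ K) → Group.IsNilpotent K)
    (hn : ¬ Group.IsNilpotent G) :
    (∃ p q a b : ℕ, p.Prime ∧ q.Prime ∧ p ≠ q ∧ Nat.card G = p ^ a * q ^ b) ∧
      ∃ (p : ℕ) (P : Sylow p G), p.Prime ∧ p ∣ Nat.card G ∧ (P : Subgroup G).Normal ∧
        ∀ a, ∀ x ∈ (P : Subgroup G), φ a x ∈ (P : Subgroup G) := by
  rcases subsingleton_or_nontrivial G with h0 | h0
  · exact absurd (inferInstance : Group.IsNilpotent G) hn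
  obtain ⟨q, hq, hM⟩ := exists_pResidual_ne_top (G := G)
  haveI := Fact.mk hq
  haveI := H7.pResidual_characteristic (p := q) (G := G)
  haveI := hsub _ hM (invariant_of_characteristic φ _)
  have hnor : ∀ (s : ℕ) [Fact s.Prime], s ≠ q → ∀ S : Sylow s G, (S : Subgroup G).Normal := by
    intro s hs hsq S
    obtain ⟨k, hk⟩ := S.isPGroup'.exists_card_eq
    have hle : (S : Subgroup G) ≤ pResidual q G := H7.le_pResidual_of_coprime
      (hk ▸ ((Nat.coprime_primes hs.out hq).2 hsq).pow_left k)
    haveI := le_normalizer_sylow_of_nilpotent S hle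
    rw [← Subgroup.map_subgroupOf_eq_of_le hle]
    infer_instance
  have hinv : ∀ (s : ℕ) [Fact s.Prime], s ≠ q → ∀ S : Sylow s G,
      ∀ a, ∀ x ∈ (S : Subgroup G), φ a x ∈ (S : Subgroup G) := fun s _ hsq S =>
    haveI := Sylow.characteristic_of_normal S (hnor s hsq S)
    invariant_of_characteristic φ _
  obtain ⟨p, hp, hpq, hpd⟩ : ∃ p : ℕ, p.Prime ∧ p ≠ q ∧ p ∣ Nat.card G := by
    by_contra h
    push Not at h
    refine hn (IsPGroup.isNilpotent (p := q) (IsPGroup.of_card
      (n := (Nat.card G).primeFactorsList.length)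
      (Nat.eq_prime_pow_of_unique_prime_dvd Nat.card_pos.ne' fun {d} hd hdd => ?_)))
    by_contra hd2
    exact h d hd hd2 hdd
  haveI := Fact.mk hp
  refine ⟨?_, p, default, hp, hpd, hnor p hpq _, hinv p hpq _⟩
  obtain ⟨a, m, hm, e⟩ := Nat.exists_eq_pow_mul_and_not_dvd (Nat.card_pos (α := G)).ne' p hp.ne_one
  have hm0 : m ≠ 0 := by rintro rfl; simp at hm
  refine ⟨p, q, a, m.primeFactorsList.length, hp, hq, hpq, e.trans ?_⟩
  congr 1
  refine Nat.eq_prime_pow_of_unique_prime_dvd hm0 fun {r} hr hrm => ?_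
  by_contra hrq
  have hrp : r ≠ p := by rintro rfl; exact hm hrm
  have hrd : r ∣ Nat.card G := e ▸ hrm.mul_left _
  obtain ⟨Q, hQA⟩ := H1.exists_invariant_sylow φ hcop (Or.inr hG) q
  have hQ : (Q : Subgroup G).Normal := by
    rw [← Subgroup.normalizer_eq_top_iff, ← Subgroup.index_eq_one]
    refine Nat.eq_one_iff_not_exists_prime_dvd.2 fun s hs hd => ?_
    haveI := Fact.mk hs
    by_cases hsq : s = q
    · subst hsq
      exact Q.not_dvd_index (hd.trans (Subgroup.index_dvd_of_le Subgroup.le_normalizer))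
    obtain ⟨S⟩ : Nonempty (Sylow s G) := inferInstance
    haveI := hnor s hsq S
    have hne : (S : Subgroup G) ⊔ Q ≠ ⊤ := by
      intro e
      have h1 := H4.card_sup_mul_card_inf (S : Subgroup G) Q
      obtain ⟨k, hk⟩ := S.isPGroup'.exists_card_eq
      obtain ⟨l, hl⟩ := Q.isPGroup'.exists_card_eq
      rw [e, Subgroup.card_top, hk, hl] at h1
      have key : ∀ t : ℕ, t.Prime → t ∣ Nat.card G → t = s ∨ t = q := fun t ht hd => by
        have : t ∣ s ^ k * q ^ l := h1 ▸ hd.mul_right _
        exact ((Nat.Prime.dvd_mul ht).1 this).imp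
          (fun h => (Nat.prime_dvd_prime_iff_eq ht hs).1 (ht.dvd_of_dvd_pow h))
          fun h => (Nat.prime_dvd_prime_iff_eq ht hq).1 (ht.dvd_of_dvd_pow h)
      exact hrp (((key r hr hrd).resolve_right hrq).trans ((key p hp hpd).resolve_right hpq).symm)
    haveI := hsub _ hne fun a x hx => by
      obtain ⟨y, hy, z, hz, rfl⟩ := Subgroup.mem_sup_of_normal_left.1 hx
      rw [map_mul]
      exact Subgroup.mul_mem_sup (hinv s hsq S a y hy) (hQA a z hz)
    haveI := le_normalizer_sylow_of_nilpotent Q (le_sup_right : _ ≤ (S : Subgroup G) ⊔ Q)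
    have h2 := (Subgroup.normal_subgroupOf_iff_le_normalizer
      (le_sup_right : _ ≤ (S : Subgroup G) ⊔ Q)).1 inferInstance
    exact S.not_dvd_index (hd.trans (Subgroup.index_dvd_of_le (le_sup_left.trans h2)))
  have hall : ∀ (s : ℕ) (_ : Fact s.Prime) (S : Sylow s G), (S : Subgroup G).Normal := ?_
  · exact hn (((isNilpotent_of_finite_tfae (G := G)).out 0 3).2 hall)
  intro s hs S
  by_cases hsq : s = q
  · subst hsq
    haveI := Sylow.unique_of_normal Q hQ
    rwa [Subsingleton.elim S Q]
  · exact hnor s hsq S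

end H42
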