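import Cfsg.Agent.H42.L3AP1
import Cfsg.Agent.H42.OddOrder
import Cfsg.Agent.H84.ZCons1
import Cfsg.Agent.H84.ZCons7

/-! `blueprints/LOCAL3.md` 1.3: `Job12P`. -/

set_option autoImplicit false
set_option maxRecDepth 100000
set_option synthInstance.maxSize 2048

namespace H42.L3

open Cfsg Subgroup H14 H98 H44 H56.L3
open scoped commutatorElement

universe u

/-- `GL₂(3) → S₃` -/
def σ3 : L48 →* Equiv.Perm (Fin 3) := MonoidHom.mk' (fun g =>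
  Equiv.swap 0 1 ^ (lk 0x41872994951b2a8b05b582a12a4758454610 3 g.val % 2) *
    (Equiv.swap 0 1 * Equiv.swap 1 2) ^ (lk 0x41872994951b2a8b05b582a12a4758454610 3 g.val / 2))
  (by decide +kernel)

theorem Ce_k {K G : Type*} [Group K] [DistribMulAction K J3] [Group G] {φ : SD J3 K →* G}
    (hi : Function.Injective φ) {m b : SD J3 K} (hb : b.k = 1) (h : φ m ∈ Ce (φ b)) :
    m.k • b.j = b.j := by
  simpa [hb, add_comm] using congrArg SD.j ((map_mem_Ce hi).1 h)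

theorem comm_j {K : Type*} [Group K] [DistribMulAction K J3] {j m : SD J3 K} (hj : j.k = 1) :
    ⁅j, m⁆ = ⟨j.j - m.k • j.j, 1⟩ := by
  ext : 1 <;> simp [commutatorElement_def, hj, sub_eq_add_neg]
  abel

section

variable {G : Type u} [Group G] [Finite G] {φ : SD J3 K12 →* G}

theorem Ce_c_inf (h : Loc φ) {b : SD J3 K12} (hb : b ∈ DD) (h1 : b ≠ 1) :
    Ce (φ (vc 1 2 0)) ⊓ Ce (φ b) ≤ JI φ :=
  l1 wk12 h (le_inf (JI_le_Ce rfl) (JI_le_Ce hb.1)) fun m hm => (by decide +kernel : ∀ b ∈ DD,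
    b ≠ 1 → ∀ k : K12, k • (vc 1 2 0 : SD J3 K12).j = (vc 1 2 0 : SD J3 K12).j →
    k • b.j = b.j → k = 1) b hb h1 m.k (Ce_k h.inj rfl hm.1) (Ce_k h.inj hb.1 hm.2)

theorem Ce_b (h : Loc φ) {b : SD J3 K12} (hb : b ∈ DD) (h1 : b.j.1 ≠ b.j.2.2) :
    Ce (φ b) ≤ φ.range := by
  have h2 := fun m (hm : φ m ∈ Ce (φ b)) => (by decide +kernel : ∀ b : SD J3 K12, b ∈ DD →
    b.j.1 ≠ b.j.2.2 → ∀ k : K12, k • b.j = b.j → (k ^ 3 = 1 → k = 1) ∧ ∀ j : J3, ∃ i < 3,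
      vc 1 2 0 ^ i = (⟨j - k • j, 1⟩ : SD J3 K12)) b hb h1 m.k (Ce_k h.inj hb.1 hm)
  refine l2 h (isSyl_J wk12 h (JI_le_Ce hb.1) fun m hm => (h2 m hm).1) (c := vc 1 2 0) rfl
    (by decide +kernel) (fun m hm j hj => ?_)
    ((inf_comm _ _).le.trans (Ce_c_inf h hb (by rintro rfl; exact h1 rfl)))
  obtain ⟨i, -, e⟩ := (h2 m hm).2 j.j
  rw [comm_j hj, ← e]
  exact pow_mem (mem_zpowers _) i

theorem Ce_c (h : Loc φ) : Ce (φ (vc 1 2 0)) ≤ φ.range := by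
  have h2 := fun m (hm : φ m ∈ Ce (φ (vc 1 2 0))) => (by decide +kernel : ∀ k : K12,
    k • (vc 1 2 0 : SD J3 K12).j = (vc 1 2 0 : SD J3 K12).j → (k ^ 3 = 1 → k = 1) ∧
      ∀ j : J3, (⟨j - k • j, 1⟩ : SD J3 K12) ∈ DD) m.k (Ce_k h.inj rfl hm)
  have hS := isSyl_J wk12 h (JI_le_Ce rfl) fun m hm => (h2 m hm).1
  have h3 : JI φ ⊓ ⁅Ce (φ (vc 1 2 0)), Ce (φ (vc 1 2 0))⁆ = DD.map φ := by
    refine le_antisymm (comm_inf h hS fun m hm j hj => comm_j hj ▸ (h2 m hm).2 _)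
      (le_inf D_le_J ?_)
    rintro _ ⟨m, hm, rfl⟩
    rw [← (by decide +kernel : ∀ m ∈ DD, ⁅m ^ 2, K12.i * K12.t⁆ = m) m hm, map_commutatorElement]
    exact commutator_mem_commutator (hS.le ⟨_, (pow_mem hm 2).1, rfl⟩)
      ((map_mem_Ce h.inj).2 (by decide +kernel))
  refine l9 h hS (h3 ▸ card_D h.inj) ?_ (dvd_of_eq ?_)
  · rw [h3]
    rintro _ ⟨m, hm, rfl⟩ h4
    exact Ce_c_inf h hm (by rintro rfl; exact h4 φ.map_one)
  · rw [inf_comm, ← map_comap_eq, card_map_of_injective h.inj]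
    refine (Nat.card_congr (β := {m : SD J3 K12 // m * vc 1 2 0 = vc 1 2 0 * m})
      (Equiv.subtypeEquivRight fun _ => map_mem_Ce h.inj)).trans ?_
    rw [Nat.card_eq_fintype_card]
    decide +kernel

end

theorem job12P : Job12P.{u} := fun G _ _ φ ψ h => by
  have hc : ∀ m, φ m = ψ (ιK12 m) := fun m => (h.rcmp m).symm
  have hM : φ.range ≤ ψ.range := by
    rintro _ ⟨m, rfl⟩
    exact ⟨_, h.rcmp m⟩
  have ha : φ (vc 1 1 1) = ψ aH := (hc _).trans (congrArg ψ (by decide +kernel))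
  have ht : φ K12.t = ψ tH := (hc _).trans (congrArg ψ (by decide +kernel))
  have h1 : ∀ x : SD J3 K12, x.k = 1 → x ≠ 1 → Ce (φ x) ≤ ψ.range := fun x hx hx1 => by
    obtain ⟨k, e⟩ := (by decide +kernel : ∀ x : SD J3 K12, x.k = 1 → x ≠ 1 → ∃ k : K12,
      ⟨0, k⟩ * x * (⟨0, k⟩ : SD J3 K12)⁻¹ = vc 1 1 1 ∨ ⟨0, k⟩ * x * (⟨0, k⟩ : SD J3 K12)⁻¹ =
        vc 1 2 0 ∨ ⟨0, k⟩ * x * (⟨0, k⟩ : SD J3 K12)⁻¹ ∈ DD ∧
        (⟨0, k⟩ * x * (⟨0, k⟩ : SD J3 K12)⁻¹).j.1 ≠ (⟨0, k⟩ * x * (⟨0, k⟩ : SD J3 K12)⁻¹).j.2.2)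
      x hx hx1
    have h2 : Ce (φ (⟨0, k⟩ * x * (⟨0, k⟩ : SD J3 K12)⁻¹)) ≤ ψ.range := by
      rcases e with e | e | e
      exacts [e ▸ Ce_le_nr.trans h.rnor.le, e ▸ (Ce_c h.toLoc).trans hM,
        (Ce_b h.toLoc e.1 e.2).trans hM]
    rw [map_mul, map_mul, map_inv, ← cj_Ce, cj_le_iff] at h2
    exact h2.trans (cj_eq_self_of_mem (inv_mem (hM ⟨_, rfl⟩))).le
  have hse : ∀ x ∈ ψ.range, orderOf x = 3 → ∀ g, g * x * g⁻¹ ∈ ψ.range → g ∈ ψ.range :=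
    fun x hx ho => se_J wk12 h.toLoc hM h1 (by
      rintro _ ⟨n, rfl⟩ ho
      obtain ⟨k, e⟩ := (by decide +kernel : ∀ n : HS L48, n ^ 3 = 1 → ∃ k : L48,
        (∃ i < 3, k * n.g * k⁻¹ = L48.mk 1 ^ i) ∧ (gl k * n * (gl k)⁻¹).v.2 = 0) n
        (h.rinj (by rw [map_pow, ← ho, pow_orderOf_eq_one, map_one]))
      obtain ⟨j, hj⟩ := (by decide +kernel : ∀ n : HS L48, (∃ i < 3, n.g = L48.mk 1 ^ i) →
        n.v.2 = 0 → ∃ j, ιK12 ⟨j, 1⟩ = n) (gl k * n * (gl k)⁻¹) e.1 e.2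
      exact ⟨ψ (gl k), ⟨_, rfl⟩, ⟨j, 1⟩, rfl, by simp [hc, hj]⟩) hx ho
  let π : ψ.range →* Equiv.Perm (Fin 3) :=
    (σ3.comp HS.π).comp (MonoidHom.ofInjective h.rinj).symm.toMonoidHom
  have hπ : ∀ n, π ⟨ψ n, n, rfl⟩ = σ3 n.g := fun n =>
    congrArg (fun m : HS L48 => σ3 m.g) (h.rinj (MonoidHom.apply_ofInjective_symm h.rinj _))
  have hit : ∀ g, g * φ K12.t * g⁻¹ ≠ φ (K12.i * K12.t) := by
    refine not_conj wk12 h.toLoc (isSyl_zpowers (x := φ (vc 1 2 0))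
      ((map_mem_Ce h.inj).2 (by decide +kernel)) (orderOf_eq_prime (JI_cube ⟨_, rfl, rfl⟩)
        fun e => absurd (h.inj (e.trans φ.map_one.symm)) (by decide +kernel)) fun x hx ⟨n, hn⟩ => ?_)
      (zpowers_le.2 ⟨_, rfl, rfl⟩) (a := vc 1 1 1) (b := vc 1 1 1) rfl rfl
      ((map_mem_Ce h.inj).2 (by decide +kernel)) ((map_mem_Ce h.inj).2 (by decide +kernel))
      fun n h2 _ => ?_
    · obtain ⟨m, rfl⟩ := Ce_c h.toLoc hx.2
      rw [← map_pow, ← φ.map_one, h.inj.eq_iff] at hn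
      obtain ⟨i, -, rfl⟩ := (by decide +kernel : ∀ m : SD J3 K12, m.k ^ 3 = 1 →
        m * (K12.i * K12.t) = K12.i * K12.t * m → ∃ i < 3, vc 1 2 0 ^ i = m) m
        (wk12.cube (n := n) ((map_pow SD.π m _).symm.trans (congrArg SD.k hn)))
        ((map_mem_Ce h.inj).1 hx.1)
      exact map_pow φ _ i ▸ pow_mem (mem_zpowers _) i
    · obtain ⟨i, hi, e⟩ := (mem_zp3 (JI_cube ⟨_, rfl, rfl⟩)).1 h2
      exact (by decide +kernel : ∀ n : SD J3 K12, ∀ i < 3, vc 1 2 0 ^ i ≠ n * vc 1 1 1 * n⁻¹) n i hi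
        (h.inj ((map_pow φ _ i).trans e))
  obtain ⟨N, -, hN, htN, h3⟩ := bs_sub (le_top (a := ψ.range)) π (fun s => by
      obtain ⟨k, rfl⟩ := (by decide +kernel : Function.Surjective σ3) s
      exact ⟨_, hπ (gl k)⟩) (fun x hx ho g _ => hse x hx ho g) (mem_top (ψ tH))
    (by rw [tH_sq, one_mul]) (fun g _ => by rw [tH_sq, mem_Ce, mul_one, one_mul]) (by
      rintro g - ⟨_, n, rfl⟩ e ho
      obtain ⟨l, -, z, v, e'⟩ := (by decide +kernel : ∀ n : HS L48, n * n = 1 → σ3 n.g ≠ 1 →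
        ∃ l, l * n.g * l⁻¹ = L48.mk 21 ∧ ∃ z v, ⟨z, v, l⟩ * n * (⟨z, v, l⟩ : HS L48)⁻¹ =
          ιK12 (K12.i * K12.t)) n (h.rinj (by
            rw [map_mul, ← show _ = ψ n from e, conj_mul, tH_sq, mul_one, mul_inv_cancel, map_one]))
        (fun e' => by simp [hπ, e'] at ho)
      refine hit (ψ ⟨z, v, l⟩ * g) ?_
      rw [hc (_ * _), ← e', ht, map_mul, map_mul, map_inv, ← show _ = ψ n from e]
      group)
  have := normal_of_top_le_normalizer hN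
  have hQ : ∀ n, ψ n ∈ N → n.g ∈ Q8 := fun n hn => by
    rcases (by decide +kernel : ∀ k, k ∈ Q8 ∨ (σ3 k ^ 3 = 1 ∧ σ3 k ≠ 1) ∨
      σ3 ⁅L48.mk 1, k⁆ ^ 3 = 1 ∧ σ3 ⁅L48.mk 1, k⁆ ≠ 1) n.g with e | e | e
    · exact e
    · exact absurd hn (h3 ⟨_, n, rfl⟩ (hπ n ▸ orderOf_eq_prime e.1 e.2))
    · refine absurd ?_ (h3 ⟨_, ⁅gl (L48.mk 1), n⁆, rfl⟩
        ((congrArg orderOf (hπ _)).trans (orderOf_eq_prime e.1 e.2)))
      exact (map_commutatorElement ψ _ _).symm.subst (motive := (· ∈ N))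
        (N.mul_mem (this.conj_mem _ hn _) (N.inv_mem hn))
  have hx : ∀ n, ψ ⁅n, tH⁆ ∈ N := fun n => by
    rw [map_commutatorElement]
    exact N.mul_mem (this.conj_mem _ htN _) (N.inv_mem htN)
  have haN : ψ aH ∈ N := by
    obtain ⟨v, w, e⟩ : ∃ v w : V2, ⁅(⟨0, w, 1⟩ : HS L48), ⁅(⟨0, v, 1⟩ : HS L48), tH⁆⁆ = aH := by
      decide +kernel
    rw [← e, commutatorElement_def, map_mul, map_mul, map_mul, map_inv, map_inv]
    exact N.mul_mem (this.conj_mem _ (hx _) _) (N.inv_mem (hx _))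
  have hB := (H87.burnside_dec (isSyl_zpowers (X := N ⊓ Ce (ψ tH))
    ⟨haN, (map_mem_Ce h.rinj).2 (by decide +kernel)⟩ (ha ▸ orderOf_eq_prime (JI_cube ⟨_, rfl, rfl⟩)
      fun e => absurd (h.inj (e.trans φ.map_one.symm)) (by decide +kernel)) (fun g hg ⟨k, hk⟩ => by
      obtain ⟨n, rfl⟩ := h1 (vc 1 1 1) rfl (by decide +kernel) (ha ▸ hg.2)
      rw [← map_pow, ← ψ.map_one, h.rinj.eq_iff] at hk
      have h4 := pow_gcd_eq_one.2 ⟨(hQ n hg.1.1).1,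
        (map_pow HS.π n _).symm.trans (congrArg HS.g hk)⟩
      rw [Nat.Coprime.pow_right k (by decide), pow_one] at h4
      obtain ⟨i, -, rfl⟩ := (by decide +kernel : ∀ n : HS L48, n.g = 1 → n * tH = tH * n →
        ∃ i < 3, aH ^ i = n) n h4 ((map_mem_Ce h.rinj).1 hg.1.2)
      exact map_pow ψ _ i ▸ pow_mem (mem_zpowers _) i)) fun g hg => by
      obtain ⟨n, rfl⟩ := h.rnor.le (ha ▸ hg.2)
      rintro _ ⟨k, rfl⟩
      exact (Commute.zpow_left (Commute.map ((by decide +kernel : ∀ n : HS L48, n.g ∈ Q8 →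
        aH * n = n * aH) n (hQ n hg.1.1)) ψ) k).eq).1
  have hO : opp 3 (N ⊓ Ce (ψ tH)) ≤ ψ.range := by
    refine gen_D h.inj (coprime_card_opp _) (le_trans (le_normalizer_inf le_normalizer_of_normal
      (le_normalizer_of_le ?_)) (normalizer_le_normalizer_opp _)) ?_
    · rintro _ ⟨m, hm, rfl⟩
      exact ht ▸ (map_mem_Ce h.inj).2 ((by decide +kernel : ∀ m ∈ DD, m * K12.t = K12.t * m) m hm)
    · rintro _ ⟨m, hm, rfl⟩ e
      exact inf_le_right.trans (h1 m hm.1 (by rintro rfl; exact e φ.map_one))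
  have hz := H84.zstar_rank_one H84.zstarThm (z := (⟨_, htN⟩ : N)) (by
    rw [← orderOf_coe]
    exact orderOf_eq_prime ((sq _).trans tH_sq) (t_ne h.rinj)) (fun w hw e => by
      have h4 : (w : G) ∈ Ce (ψ tH) := mem_Ce.2 (congrArg Subtype.val e).symm
      rw [← orderOf_coe] at hw
      obtain ⟨n, hn⟩ := hO (hB w ⟨w.2, h4⟩ (by rw [hw]; decide))
      rw [← hn] at h4 hw
      refine Subtype.ext (hn.symm.trans (congrArg ψ ((by decide +kernel : ∀ n : HS L48,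
        n.g ∈ Q8 → n * tH = tH * n → n ^ 2 = 1 → n ≠ 1 → n = tH) n (hQ n (hn ▸ w.2))
        ((map_mem_Ce h.rinj).1 h4) (h.rinj (by rw [map_pow, ← hw, pow_orderOf_eq_one, map_one]))
        (by rintro rfl; simp at hw))))) ⟨_, hx ⟨0, (1, 0), 1⟩⟩
  have : (opp 2 N).Normal := normal_of_top_le_normalizer
    (le_normalizer_of_normal.trans (normalizer_le_normalizer_opp N))
  have := odd_order (Nat.coprime_two_right.1 (coprime_card_opp (p := 2) N))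
  refine eq_top_of_solvable h.toLoc hM hse (N := opp 2 N) fun e => ?_
  rw [oddCore, opp_eq_bot_iff.1 e, mem_bot, Subtype.ext_iff] at hz
  exact absurd (h.rinj (by simpa using hz : ψ (tH * ⁅(⟨0, (1, 0), 1⟩ : HS L48), tH⁆ * tH⁻¹ *
    ⁅(⟨0, (1, 0), 1⟩ : HS L48), tH⁆⁻¹) = ψ 1)) (by decide +kernel)

end H42.L3
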