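import Cfsg.Agent.H42.L43K
import Cfsg.Agent.H42.G2B
import Cfsg.Agent.H83.LCSE
import Cfsg.Agent.H9.R2Mod

/-! Tower `L₄(3)` (row S3373): job I3. -/

set_option autoImplicit false

namespace H42.L43

open Cfsg Subgroup H98 H14 H56.L3 H42.L3 H42.G23 H47.L43 Matrix

universe u

theorem neg_self : ∀ x : F3, -x = x → x = 0 := by decide

theorem self_neg : ∀ x : F3, x = -x → x = 0 := by decide

theorem nor_D {g : PP} (h1 : g * t2 = t2 * g) {i j : F3}
    (h2 : g * uP 0 0 0 1 0 0 = uP 0 0 i j 0 0 * g) :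
    ∃ c d τ, (τ = 1 ∨ τ = t2 ∨ τ = t3 ∨ τ = t2 * t3) ∧ g = uP 0 0 c d 0 0 * τ := by
  obtain ⟨v, A, rfl⟩ := exists_mk g
  have e := ent h1
  have e' := ent h2 2 2
  have hd := A.2
  rw [val_mul, val_mul, mk_val, t2_val] at e
  rw [val_mul, val_mul, mk_val, uP_val, uP_val] at e'
  have e1 := e 0 1; have e2 := e 0 2; have e3 := e 1 3; have e4 := e 2 3; have e5 := e 3 1
  have e6 := e 3 2
  simp only [Matrix.mul_apply, Fin.sum_univ_four, of_apply, cons_val', cons_val_zero, cons_val_one,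
    cons_val, mul_zero, zero_mul, mul_one, one_mul, add_zero, zero_add, mul_neg, neg_mul,
    cons_val_fin_one, add_eq_right] at e1 e2 e3 e4 e5 e6 e'
  replace e1 := neg_self _ e1; replace e2 := neg_self _ e2; replace e3 := self_neg _ e3
  replace e4 := self_neg _ e4; replace e5 := neg_self _ e5; replace e6 := neg_self _ e6
  rw [det_fin_three] at hd
  simp only [e3, e4, e5, e6, e', mul_zero, zero_mul,
    sub_zero, add_zero] at hd
  have key : ∀ x y z : F3, x * y * z = 1 → x = 1 ∧ y = 1 ∧ z = 1 ∨ x = -1 ∧ y = -1 ∧ z = 1 ∨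
      x = 1 ∧ y = -1 ∧ z = -1 ∨ x = -1 ∧ y = 1 ∧ z = -1 := by decide
  refine ⟨v 2 * A 2 2, A 0 1 * A 1 1, ?_⟩
  rcases key _ _ _ hd with ⟨a, b, c⟩ | ⟨a, b, c⟩ | ⟨a, b, c⟩ | ⟨a, b, c⟩
  · refine ⟨_, .inl rfl, PP_ext ?_⟩
    rw [val_mul, mk_val, uP_val, val_one]
    simp [*]
  · refine ⟨_, .inr (.inl rfl), PP_ext ?_⟩
    rw [val_mul, mk_val, uP_val, t2_val]
    ext i j
    fin_cases i <;> fin_cases j <;> simp [Matrix.mul_apply, Fin.sum_univ_four, *]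
  · refine ⟨_, .inr (.inr (.inl rfl)), PP_ext ?_⟩
    rw [val_mul, mk_val, uP_val, t3_val]
    ext i j
    fin_cases i <;> fin_cases j <;> simp [Matrix.mul_apply, Fin.sum_univ_four, *]
  · refine ⟨_, .inr (.inr (.inr rfl)), PP_ext ?_⟩
    rw [val_mul, val_mul, mk_val, uP_val, t2_val, t3_val]
    ext i j
    fin_cases i <;> fin_cases j <;> simp [Matrix.mul_apply, Fin.sum_univ_four, *]

theorem emb_lev_t2 : emb (lev t2) = t2 := by
  apply PP_ext
  rw [emb_apply, mk_val, t2_val]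
  decide

/-- `PP` has one class of involutions -/
theorem inv_conj {g : PP} (h : orderOf g = 2) : ∃ k, k * g * k⁻¹ = t2 := by
  obtain ⟨v, A, rfl⟩ := exists_mk g
  have h2 : mk v A * mk v A = 1 := by rw [← pow_two, ← h, pow_orderOf_eq_one]
  rw [mk_mul, ← mk_one, mk_inj] at h2
  have h3 : ∀ x : F3, x + x = -x := by decide
  have hA : orderOf A = 2 := orderOf_eq_prime (by rw [pow_two, h2.2]) fun e => by
    have : v = 0 := by
      have := h2.1
      rw [e, show (1 : SL3).1 = 1 from rfl, vecMul_one] at this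
      ext i
      simpa [h3] using congrFun this i
    rw [e, this, mk_one] at h
    simp at h
  have ht : orderOf (lev t2) = 2 := orderOf_eq_prime (by rw [pow_two, ← map_mul, t2_sq, map_one])
    fun e => t2_ne (by rw [← emb_lev_t2, e, map_one])
  obtain ⟨B, hB⟩ := isConj_iff.1 (H9.sl3_isConj (K := F3) (by decide) hA ht)
  have e : mk (-v) 1 * mk v A * (mk (-v) 1)⁻¹ = emb A := by
    rw [mul_inv_eq_iff_eq_mul, emb_apply, mk_mul, mk_mul, mul_one, one_mul, zero_vecMul, add_zero,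
      neg_vecMul, eq_neg_of_add_eq_zero_right h2.1, neg_neg]
    congr 1
    ext i
    exact h3 _
  refine ⟨emb B * mk (-v) 1, ?_⟩
  rw [← emb_lev_t2, ← hB, map_mul, map_mul, map_inv, ← e]
  group

theorem t2_n3 : t2 * n3 * (t2 * n3) = 1 := by
  apply PP_ext; rw [val_mul, val_mul, t2_val, n3_val, val_one]; decide

section Gen

variable {G : Type u} [Group G]

/-- a proper subgroup with one class of involutions that contains their centralisers is strongly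
embedded -/
theorem se_of_class [Finite G] {M : Subgroup G} {a : G} (hK : M ≠ ⊤) (ha : a ∈ M)
    (h2 : orderOf a = 2) (hc : ∀ v ∈ M, orderOf v = 2 → ∃ m ∈ M, m * v * m⁻¹ = a)
    (hC : Ce a ≤ M) : IsStronglyEmbedded M := by
  refine ⟨hK, ?_, fun g hg => ?_⟩
  · rw [even_iff_two_dvd, ← h2]
    exact M.orderOf_dvd_natCard ha
  · rw [← Nat.not_even_iff_odd, even_iff_two_dvd]
    intro hd
    obtain ⟨⟨v, hv, w, hw, rfl⟩, ho⟩ := exists_prime_orderOf_dvd_card' 2 hd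
    have ho' : orderOf (g * w * g⁻¹) = 2 := by rw [← ho, ← orderOf_coe]; rfl
    obtain ⟨m, hm, e1⟩ := hc _ hv ho'
    obtain ⟨n, hn, e2⟩ := hc w hw (by
      rw [← ho']; exact (SemiconjBy.orderOf_eq g (by simp [SemiconjBy])))
    have h3 := hC (mem_Ce.2 (show m * g * n⁻¹ * a = a * (m * g * n⁻¹) by
      have e1' : m * (g * w * g⁻¹) * m⁻¹ = a := e1
      calc m * g * n⁻¹ * a = m * g * n⁻¹ * (n * w * n⁻¹) := by rw [e2]
        _ = m * (g * w * g⁻¹) * m⁻¹ * (m * g * n⁻¹) := by group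
        _ = _ := by rw [e1']))
    exact hg (by simpa [mul_assoc] using mul_mem (mul_mem (inv_mem hm) h3) hn)

theorem Ce_conj_le {H : Subgroup G} {x h : G} (h1 : Ce x ≤ H) (hh : h ∈ H) :
    Ce (h * x * h⁻¹) ≤ H := fun g hg => by
  have := h1 (show h⁻¹ * g * h⁻¹⁻¹ ∈ Ce x by simpa [mul_assoc] using conj_mem_Ce hg h⁻¹)
  simpa [mul_assoc] using mul_mem (mul_mem hh this) (inv_mem hh)

theorem Ce_inv (x : G) : Ce x⁻¹ = Ce x := by
  ext g; rw [mem_Ce, mem_Ce]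
  exact ⟨fun h => by simpa using (Commute.inv_right h).eq, fun h => (Commute.inv_right h).eq⟩

variable (φ : PP →* G)

/-- `D = ⟨z, p⟩` -/
def DD : Subgroup G where
  carrier := {g | ∃ c d, g = s φ 0 0 c d 0 0}
  one_mem' := ⟨0, 0, (s_zero φ).symm⟩
  mul_mem' := by
    rintro _ _ ⟨a, b, rfl⟩ ⟨a', b', rfl⟩
    exact ⟨a + a', b + b', by rw [s_mul]; simp⟩
  inv_mem' := by rintro _ ⟨a, b, rfl⟩; exact ⟨-a, -b, by rw [s_inv]; simp⟩

variable {φ}

theorem DD_cube {x : G} (h : x ∈ DD φ) : x ^ 3 = 1 := by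
  obtain ⟨c, d, rfl⟩ := h
  rw [s_cube, ← s_zero φ]; simp

theorem DD_ab : DD φ ≤ cn (DD φ) := by
  rintro _ ⟨c, d, rfl⟩
  refine mem_centralizer_iff.2 ?_
  rintro _ ⟨c', d', rfl⟩
  rw [s_mul, s_mul]; simp [add_comm]

theorem DD_t2 {x : G} (h : x ∈ DD φ) : φ t2 * x * (φ t2)⁻¹ = x := by
  obtain ⟨c, d, rfl⟩ := h
  rw [s_t2]; simp

theorem DD_t3 {x : G} (h : x ∈ DD φ) : φ t3 * x * (φ t3)⁻¹ = x⁻¹ := by
  obtain ⟨c, d, rfl⟩ := h
  rw [s_t3, s_inv]; simp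

theorem DD_nc (hi : Function.Injective φ) {P : Subgroup G} (h1 : DD φ ≤ P) (h2 : P ≤ DD φ) :
    ¬ IsCyclic P := by
  refine not_cyc (a := zz φ) (b := s φ 0 0 0 1 0 0) (fun x hx => DD_cube (h2 hx)) (h1 ⟨1, 0, rfl⟩)
    (h1 ⟨0, 1, rfl⟩) (by rw [Ne, s_eq_one hi]; decide) fun h => ?_
  have : zpowers (zz φ) ≤ E1 φ := zpowers_le.2 ⟨0, 0, 1, rfl⟩
  obtain ⟨a, b, c, e⟩ := this h
  rw [s_inj hi] at e
  exact absurd e.2.2.2.1 (by decide)

theorem DD_cen (hl : HL φ) (cu : CU φ φ.range) (hf : Ce (f0 φ) ≤ φ.range) {x : G} (h : x ∈ DD φ)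
    (h1 : x ≠ 1) : Ce x ≤ φ.range := by
  obtain ⟨c, d, rfl⟩ := h
  have key : ∀ c d : F3, (0 * 0 - c * d ≠ 0) ∨ (c = 0 ∧ d = 0) ∨ (c = 1 ∧ d = 0) ∨
    (c = -1 ∧ d = 0) ∨ (c = 0 ∧ d = 1) ∨ (c = 0 ∧ d = -1) := by decide
  have hp : Ce (s φ 0 0 0 1 0 0) ≤ φ.range := by
    have := Ce_conj_le hf (⟨n3, rfl⟩ : φ n3 ∈ φ.range)
    rwa [s_n3, neg_zero] at this
  rcases key c d with h | ⟨rfl, rfl⟩ | ⟨rfl, rfl⟩ | ⟨rfl, rfl⟩ | ⟨rfl, rfl⟩ | ⟨rfl, rfl⟩
  · exact cu _ _ _ _ h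
  · exact absurd (s_zero φ) h1
  · exact hl.cen
  · have := Ce_inv (zz φ) ▸ hl.cen
    rw [s_inv] at this
    simpa using this
  · exact hp
  · have := Ce_inv (s φ 0 0 0 1 0 0) ▸ hp
    rw [s_inv] at this
    simpa using this

end Gen

theorem jobI3 : JobI3.{u} := by
  intro G _ _ φ hl _ sc cu hf
  have hi := hl.inj
  set Y := Ce (φ t2) with hY
  have hDY : DD φ ≤ Y := fun x hx => mem_Ce.2 (mul_inv_eq_iff_eq_mul.1 (DD_t2 hx)).symm
  have hDP : DD φ ≤ φ.range := by rintro _ ⟨c, d, rfl⟩; exact s_mem ..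
  have c2 : φ t2 ∈ cn (DD φ) := mem_centralizer_iff.2 fun x hx => mem_Ce.1 (hDY hx)
  have t3Y : φ t3 ∈ Y := mem_Ce.2 (by rw [← map_mul, ← map_mul, t2_t3])
  have t3N : φ t3 ∈ nr (DD φ) := mem_normalizer_of_cj_le (by
    rintro _ ⟨x, hx, rfl⟩
    change φ t3 * x * (φ t3)⁻¹ ∈ _
    rw [DD_t3 hx]; exact inv_mem hx)
  have hN : ∀ n ∈ Y ⊓ nr (DD φ), ∃ x ∈ DD φ, ∃ τ, (τ = 1 ∨ τ = t2 ∨ τ = t3 ∨ τ = t2 * t3) ∧
      n = x * φ τ := by
    intro n hn
    obtain ⟨g, rfl⟩ := sc n (hDP (conj_mem_of_mem_normalizer hn.2 ⟨1, 0, rfl⟩))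
    obtain ⟨i, j, e⟩ := conj_mem_of_mem_normalizer hn.2 (⟨0, 1, rfl⟩ : s φ 0 0 0 1 0 0 ∈ DD φ)
    obtain ⟨c, d, τ, hτ, rfl⟩ := nor_D (g := g) (i := i) (j := j)
      (hi (by rw [map_mul, map_mul]; exact mem_Ce.1 hn.1))
      (hi (by rw [map_mul, map_mul]; exact mul_inv_eq_iff_eq_mul.1 e))
    exact ⟨_, ⟨c, d, rfl⟩, τ, hτ, map_mul ..⟩
  have pD : IsPGroup 3 (DD φ) := isPGroup_iff_forall.2 fun x hx => ⟨1, by simpa using DD_cube hx⟩
  have hsyl : IsSyl 3 (DD φ) Y := by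
    refine isSyl_of_isSyl_normalizer ⟨le_inf hDY le_normalizer, pD, fun Q hQ h1 h2 => ?_⟩
    refine le_antisymm (fun g hg => ?_) h1
    obtain ⟨k, hk⟩ := isPGroup_iff_forall.1 hQ g hg
    obtain ⟨x, hx, τ, hτ, rfl⟩ := hN g (h2 hg)
    refine mem_of_sq ?_ hk
    have hτ' : τ * τ = 1 ∧ φ τ ∈ nr (DD φ) := by
      rcases hτ with rfl | rfl | rfl | rfl
      · exact ⟨mul_one _, by rw [map_one]; exact one_mem _⟩
      · exact ⟨t2_sq, centralizer_le_normalizer _ c2⟩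
      · exact ⟨t3_sq, t3N⟩
      · refine ⟨?_, by rw [map_mul]; exact mul_mem (centralizer_le_normalizer _ c2) t3N⟩
        rw [show t2 * t3 * (t2 * t3) = t2 * (t3 * t2) * t3 by group, ← t2_t3,
          show t2 * (t2 * t3) * t3 = t2 * t2 * (t3 * t3) by group, t2_sq, t3_sq, one_mul]
    have := mul_mem hx (conj_mem_of_mem_normalizer hτ'.2 hx)
    rwa [← map_inv, inv_eq_of_mul_eq_one_right hτ'.1, ← mul_assoc, ← mul_assoc, mul_assoc] at this
  have hst := H56.ST.st (by decide) hsyl DD_ab (t := φ t3) ⟨t3Y, t3N⟩ (fun n hn => by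
    obtain ⟨x, hx, τ, hτ, rfl⟩ := hN n hn
    have hx' : (φ t3)⁻¹ * x⁻¹ * φ t3 ∈ cn (DD φ) :=
      DD_ab (conj_mem_of_mem_normalizer' t3N (inv_mem hx))
    rcases hτ with rfl | rfl | rfl | rfl
    · exact .inl (by simpa using DD_ab hx)
    · exact .inl (mul_mem (DD_ab hx) c2)
    · exact .inr (by simpa [mul_assoc] using hx')
    · refine .inr ?_
      have := mul_mem hx' (inv_mem c2)
      rw [t2_t3, map_mul]
      have e : φ t3 * (φ t2)⁻¹ = (φ t2)⁻¹ * φ t3 := (Commute.inv_right (mem_Ce.1 t3Y)).eq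
      have e' : (φ t2)⁻¹ * ((φ t3)⁻¹ * x⁻¹ * φ t3) ∈ cn (DD φ) := mul_mem (inv_mem c2) hx'
      simpa [mul_assoc] using e')
    (DD_nc hi (le_inf le_rfl fun x hx => mem_comm t3Y (hDY hx) (DD_cube hx) (DD_t3 hx)) inf_le_left)
  have hYP : Y ≤ φ.range := by
    refine hst.trans (sup_le ?_ fun n hn => ?_)
    · have : IsMulCommutative (DD φ) := le_centralizer_iff_isMulCommutative.1 DD_ab
      obtain ⟨k, hk⟩ := pD.exists_card_eq
      refine H1.le_of_noncyclic_centralizer_le (DD_nc hi le_rfl le_rfl)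
        ((hDY.trans le_normalizer).trans (normalizer_le_normalizer_opp Y))
        (hk ▸ (coprime_card_opp Y).symm.pow_left k) _
        fun a ha h1 => inf_le_right.trans (DD_cen hl cu hf ha h1)
    · obtain ⟨x, hx, τ, -, rfl⟩ := hN n hn
      exact mul_mem (hDP hx) ⟨τ, rfl⟩
  by_contra hne
  have o2 : ∀ {g : PP}, g ≠ 1 → g * g = 1 → orderOf (φ g) = 2 := fun h1 h2 => by
    rw [orderOf_injective φ hi]; exact orderOf_eq_prime (by rw [pow_two, h2]) h1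
  have hse := se_of_class hne ⟨t2, rfl⟩ (o2 t2_ne t2_sq) (by
    rintro _ ⟨g, rfl⟩ ho
    obtain ⟨k, hk⟩ := inv_conj (by rwa [orderOf_injective φ hi] at ho)
    exact ⟨φ k, ⟨k, rfl⟩, by rw [← hk]; simp⟩) hYP
  have e1 : t2 * n3 * t2⁻¹ = n3⁻¹ := by
    rw [t2_inv, eq_inv_iff_mul_eq_one, mul_assoc, t2_n3]
  have hP : IsPGroup 2 ↥(zpowers (φ t2) ⊔ zpowers (φ n3)) := IsPGroup.to_sup_of_normal_right'
    (isPGroup_zpowers (k := 1) (by rw [pow_one, pow_two, ← map_mul, t2_sq, map_one]))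
    (isPGroup_zpowers (k := 2) (by
      rw [← map_pow, show n3 ^ 2 ^ 2 = n3 * n3 * (n3 * n3) by simp [pow_succ, mul_assoc], n3_sq,
        t3_sq, map_one]))
    (zpowers_le.2 (mem_Nz.2 (by
      rw [← map_inv, ← map_mul, ← map_mul, e1, map_inv]; exact inv_mem (mem_zpowers _))))
  have hn1 : t2 * n3 ≠ 1 := fun e => by
    have := ent e 1 1
    rw [val_mul, t2_val, n3_val, val_one] at this
    revert this; decide
  have := H83.hubSE G _ hse _ _ (o2 t2_ne t2_sq) (o2 hn1 t2_n3) (hP.to_le ((closure_le _).2 (by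
    rintro _ (rfl | rfl)
    · exact mem_sup_left (mem_zpowers _)
    · rw [map_mul]; exact mul_mem (mem_sup_left (mem_zpowers _)) (mem_sup_right (mem_zpowers _)))))
  rw [← map_mul, ← map_mul] at this
  have := ent (hi this) 2 3
  rw [val_mul, val_mul, val_mul, t2_val, n3_val] at this
  revert this; decide

end H42.L43
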