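import Cfsg.Agent.H47.L43Sp
import Cfsg.Agent.H9.R2GL

/-! Tower `L₄(3)` (row S3373): a kit for the model `PP = 3³ : SL₃(3)`. -/

set_option autoImplicit false

namespace H42.L43

open Cfsg Subgroup H47.L43 Matrix

abbrev SL3 := Matrix.SpecialLinearGroup (Fin 3) F3

/-- the block matrix `[[1, v], [0, A]]` -/
def mk (v : Fin 3 → F3) (A : SL3) : PP :=
  ⟨⟨!![1, v 0, v 1, v 2; 0, A 0 0, A 0 1, A 0 2; 0, A 1 0, A 1 1, A 1 2; 0, A 2 0, A 2 1, A 2 2], by
    have := A.2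
    rw [det_fin_three] at this
    simp [det_succ_column_zero, Fin.sum_univ_succ]
    linear_combination this⟩, by
    change Matrix.mulVec _ (Pi.single 0 1) = Pi.single 0 1
    ext i; fin_cases i <;> simp⟩

/-- the matrix of an element of `PP` -/
def M (g : PP) : Matrix (Fin 4) (Fin 4) F3 := g.1.1

theorem mk_val (v : Fin 3 → F3) (A : SL3) : M (mk v A) =
    !![1, v 0, v 1, v 2; 0, A 0 0, A 0 1, A 0 2; 0, A 1 0, A 1 1, A 1 2; 0, A 2 0, A 2 1, A 2 2] :=
  rfl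

theorem PP_ext {g h : PP} (e : M g = M h) : g = h := Subtype.ext (Subtype.ext e)

theorem val_mul (g h : PP) : M (g * h) = M g * M h := rfl

theorem val_one : M 1 = 1 := rfl

theorem det_M (g : PP) : (M g).det = 1 := g.1.2

theorem ent {g h : PP} (e : g = h) (i j : Fin 4) : M g i j = M h i j := by rw [e]

theorem mk_mul (v w : Fin 3 → F3) (A B : SL3) :
    mk v A * mk w B = mk (w + v ᵥ* B.1) (A * B) := by
  apply PP_ext
  rw [val_mul, mk_val, mk_val, mk_val]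
  have e : ∀ i j, (A * B) i j = A i 0 * B 0 j + A i 1 * B 1 j + A i 2 * B 2 j := fun i j => by
    change (A.1 * B.1) i j = _
    rw [Matrix.mul_apply, Fin.sum_univ_three]
  have e' : ∀ j, (w + v ᵥ* B.1) j = w j + v 0 * B 0 j + v 1 * B 1 j + v 2 * B 2 j := fun j => by
    simp only [Pi.add_apply, vecMul, dotProduct, Fin.sum_univ_three, add_assoc]
  simp only [e, e']
  ext i j
  fin_cases i <;> fin_cases j <;> simp [Matrix.mul_apply, Fin.sum_univ_four]

theorem mk_one : mk 0 1 = 1 := by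
  apply PP_ext
  rw [mk_val, val_one]
  ext i j
  fin_cases i <;> fin_cases j <;> simp

theorem col0 (g : PP) (i : Fin 4) : M g i 0 = (Pi.single 0 1 : Fin 4 → F3) i := by
  have := congrFun (show (M g).mulVec (Pi.single 0 1) = Pi.single 0 1 from g.2) i
  simpa using this

/-- the lower right block -/
def lv (g : PP) : SL3 := ⟨(M g).submatrix Fin.succ Fin.succ, by
  have := det_M g
  rw [det_succ_column_zero] at this
  simpa [Fin.sum_univ_succ, col0] using this⟩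

theorem mk_lv (g : PP) : mk (fun j => M g 0 j.succ) (lv g) = g := by
  apply PP_ext
  rw [mk_val]
  ext i j
  fin_cases i <;> fin_cases j <;> first | rfl | simp [col0]

theorem exists_mk (g : PP) : ∃ v A, g = mk v A := ⟨_, _, (mk_lv g).symm⟩

theorem lv_mk (v : Fin 3 → F3) (A : SL3) : lv (mk v A) = A := by
  ext i j
  fin_cases i <;> fin_cases j <;> rfl

theorem mk_inj {v w : Fin 3 → F3} {A B : SL3} : mk v A = mk w B ↔ v = w ∧ A = B := by
  refine ⟨fun h => ⟨?_, by rw [← lv_mk v A, h, lv_mk]⟩, fun h => by rw [h.1, h.2]⟩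
  ext j
  have := ent h 0 j.succ
  fin_cases j <;> exact this

/-- the projection onto the Levi factor -/
def lev : PP →* SL3 := MonoidHom.mk' lv fun g h => by
  obtain ⟨v, A, rfl⟩ := exists_mk g
  obtain ⟨w, B, rfl⟩ := exists_mk h
  rw [mk_mul, lv_mk, lv_mk, lv_mk]

theorem lev_mk (v : Fin 3 → F3) (A : SL3) : lev (mk v A) = A := lv_mk v A

/-- the Levi factor -/
def emb : SL3 →* PP := MonoidHom.mk' (mk 0) fun A B => by rw [mk_mul]; simp

theorem emb_apply (A : SL3) : emb A = mk 0 A := rfl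

theorem lev_emb (A : SL3) : lev (emb A) = A := lv_mk 0 A

theorem lev_surj : Function.Surjective lev := fun A => ⟨emb A, lev_emb A⟩

theorem mk_inv (v : Fin 3 → F3) (A : SL3) : (mk v A)⁻¹ = mk (-(v ᵥ* (A⁻¹).1)) A⁻¹ := by
  rw [inv_eq_iff_mul_eq_one, mk_mul, ← mk_one]; simp

theorem uP_val (a b c d e f : F3) :
    M (uP a b c d e f) = !![1, a, b, c; 0, 1, d, e; 0, 0, 1, f; 0, 0, 0, 1] := rfl

theorem uP_eq_mk (a b c : F3) : uP a b c 0 0 0 = mk ![a, b, c] 1 := by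
  apply PP_ext
  rw [mk_val, uP_val]
  ext i j
  fin_cases i <;> fin_cases j <;> simp

theorem mk_eq_uP (v : Fin 3 → F3) : mk v 1 = uP (v 0) (v 1) (v 2) 0 0 0 := by
  rw [uP_eq_mk]; congr 1; ext i; fin_cases i <;> rfl

theorem mem_ker_lev {g : PP} : g ∈ lev.ker ↔ ∃ a b c, g = uP a b c 0 0 0 := by
  obtain ⟨v, A, rfl⟩ := exists_mk g
  rw [MonoidHom.mem_ker, lev_mk]
  refine ⟨fun h => ⟨_, _, _, by rw [h, mk_eq_uP]⟩, fun ⟨a, b, c, h⟩ => ?_⟩
  rw [uP_eq_mk] at h
  exact (mk_inj.1 h).2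

theorem uP_inj {a b c d e f a' b' c' d' e' f' : F3} : uP a b c d e f = uP a' b' c' d' e' f' ↔
    a = a' ∧ b = b' ∧ c = c' ∧ d = d' ∧ e = e' ∧ f = f' := by
  refine ⟨fun h => ?_, fun ⟨h1, h2, h3, h4, h5, h6⟩ => by rw [h1, h2, h3, h4, h5, h6]⟩
  have := ent h
  exact ⟨this 0 1, this 0 2, this 0 3, this 1 2, this 1 3, this 2 3⟩

theorem card_ker_lev : Nat.card lev.ker = 27 := by
  have : Nat.card (Fin 3 → F3) = Nat.card lev.ker := by
    refine Nat.card_eq_of_bijective (fun v => ⟨mk v 1, lev_mk v 1⟩)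
      ⟨fun v w h => (mk_inj.1 (congrArg Subtype.val h)).1, fun ⟨g, hg⟩ => ?_⟩
    obtain ⟨a, b, c, rfl⟩ := mem_ker_lev.1 hg
    exact ⟨![a, b, c], Subtype.ext (uP_eq_mk a b c).symm⟩
  rw [← this]; simp

theorem card_SL3 : Nat.card SL3 = 5616 := by
  rw [H9.card_sl_three]; simp

theorem card_PP : Nat.card PP = 27 * 5616 := by
  rw [← card_mul_index lev.ker, index_ker, MonoidHom.range_eq_top.2 lev_surj, card_top,
    card_ker_lev, card_SL3]

theorem t2_val : M t2 = !![1, 0, 0, 0; 0, -1, 0, 0; 0, 0, -1, 0; 0, 0, 0, 1] := rfl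

theorem t3_val : M t3 = !![1, 0, 0, 0; 0, 1, 0, 0; 0, 0, -1, 0; 0, 0, 0, -1] := rfl

theorem t2_sq : t2 * t2 = 1 := by
  apply PP_ext; rw [val_mul, t2_val, val_one]; decide

theorem t3_sq : t3 * t3 = 1 := by
  apply PP_ext; rw [val_mul, t3_val, val_one]; decide

theorem t2_t3 : t2 * t3 = t3 * t2 := by
  apply PP_ext; rw [val_mul, val_mul, t2_val, t3_val]; decide

theorem t2_inv : t2⁻¹ = t2 := inv_eq_of_mul_eq_one_right t2_sq

theorem t3_inv : t3⁻¹ = t3 := inv_eq_of_mul_eq_one_right t3_sq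

theorem t2_ne : t2 ≠ 1 := fun h => by
  have := ent h 1 1
  revert this; decide

theorem t3_ne : t3 ≠ 1 := fun h => by
  have := ent h 2 2
  revert this; decide

theorem t2_conj (a b c d e f : F3) :
    t2 * uP a b c d e f * t2⁻¹ = uP (-a) (-b) c d (-e) (-f) := by
  rw [t2_inv]; apply PP_ext; rw [val_mul, val_mul, t2_val, uP_val, uP_val]
  ext i j
  fin_cases i <;> fin_cases j <;> simp [Matrix.mul_apply, Fin.sum_univ_four]

theorem t3_conj (a b c d e f : F3) :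
    t3 * uP a b c d e f * t3⁻¹ = uP a (-b) (-c) (-d) (-e) f := by
  rw [t3_inv]; apply PP_ext; rw [val_mul, val_mul, t3_val, uP_val, uP_val]
  ext i j
  fin_cases i <;> fin_cases j <;> simp [Matrix.mul_apply, Fin.sum_univ_four]

/-- the Weyl element of `L₃`, acting on the coordinates `3, 4` -/
def n3 : PP := mk 0 ⟨!![1, 0, 0; 0, 0, 1; 0, -1, 0], by decide⟩

/-- the Weyl element of `L₂`, acting on the coordinates `2, 3` -/
def n2 : PP := mk 0 ⟨!![0, 1, 0; -1, 0, 0; 0, 0, 1], by decide⟩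

theorem n3_val : M n3 = !![1, 0, 0, 0; 0, 1, 0, 0; 0, 0, 0, 1; 0, 0, -1, 0] := rfl

theorem n2_val : M n2 = !![1, 0, 0, 0; 0, 0, 1, 0; 0, -1, 0, 0; 0, 0, 0, 1] := rfl

theorem n3_conj (a b c d e : F3) : n3 * uP a b c d e 0 * n3⁻¹ = uP a c (-b) e (-d) 0 := by
  rw [mul_inv_eq_iff_eq_mul]; apply PP_ext; rw [val_mul, val_mul, n3_val, uP_val, uP_val]
  ext i j
  fin_cases i <;> fin_cases j <;> simp [Matrix.mul_apply, Fin.sum_univ_four]

theorem n2_conj (a b c e f : F3) : n2 * uP a b c 0 e f * n2⁻¹ = uP b (-a) c 0 f (-e) := by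
  rw [mul_inv_eq_iff_eq_mul]; apply PP_ext; rw [val_mul, val_mul, n2_val, uP_val, uP_val]
  ext i j
  fin_cases i <;> fin_cases j <;> simp [Matrix.mul_apply, Fin.sum_univ_four]

theorem n3_sq : n3 * n3 = t3 := by
  apply PP_ext; rw [val_mul, t3_val, n3_val]; decide

theorem n2_sq : n2 * n2 = t2 := by
  apply PP_ext; rw [val_mul, t2_val, n2_val]; decide

/-- conjugation of `E₁` -/
theorem mk_conj (v w : Fin 3 → F3) (A : SL3) :
    mk v A * mk w 1 * (mk v A)⁻¹ = mk (w ᵥ* (A⁻¹).1) 1 := by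
  have e : (A⁻¹).1 * A.1 = 1 := congrArg Subtype.val (inv_mul_cancel A)
  rw [mul_inv_eq_iff_eq_mul, mk_mul, mk_mul, vecMul_vecMul, e, mul_one, one_mul, vecMul_one,
    show (1 : SL3).1 = 1 from rfl, vecMul_one, add_comm]

section

variable {G : Type*} [Group G] {φ : PP →* G}

theorem s_mem (a b c d e f : F3) : s φ a b c d e f ∈ φ.range := ⟨_, rfl⟩

theorem s_inj (h : Function.Injective φ) {a b c d e f a' b' c' d' e' f' : F3} :
    s φ a b c d e f = s φ a' b' c' d' e' f' ↔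
      a = a' ∧ b = b' ∧ c = c' ∧ d = d' ∧ e = e' ∧ f = f' := h.eq_iff.trans uP_inj

theorem s_eq_one (h : Function.Injective φ) {a b c d e f : F3} :
    s φ a b c d e f = 1 ↔ a = 0 ∧ b = 0 ∧ c = 0 ∧ d = 0 ∧ e = 0 ∧ f = 0 := by
  rw [← s_zero φ, s_inj h]

theorem s_t2 (a b c d e f : F3) :
    φ t2 * s φ a b c d e f * (φ t2)⁻¹ = s φ (-a) (-b) c d (-e) (-f) := by
  rw [s, ← map_inv, ← map_mul, ← map_mul, t2_conj, s]

theorem s_t3 (a b c d e f : F3) :
    φ t3 * s φ a b c d e f * (φ t3)⁻¹ = s φ a (-b) (-c) (-d) (-e) f := by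
  rw [s, ← map_inv, ← map_mul, ← map_mul, t3_conj, s]

theorem s_n3 (a b c d e : F3) :
    φ n3 * s φ a b c d e 0 * (φ n3)⁻¹ = s φ a c (-b) e (-d) 0 := by
  rw [s, ← map_inv, ← map_mul, ← map_mul, n3_conj, s]

theorem s_n2 (a b c e f : F3) :
    φ n2 * s φ a b c 0 e f * (φ n2)⁻¹ = s φ b (-a) c 0 f (-e) := by
  rw [s, ← map_inv, ← map_mul, ← map_mul, n2_conj, s]

theorem s_cube (a b c d e f : F3) : s φ a b c d e f ^ 3 = s φ 0 0 (a * d * f) 0 0 0 := by
  have h3 : (3 : F3) = 0 := rfl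
  rw [pow_succ, pow_two, s_mul, s_mul]
  congr 1
  · linear_combination a * h3
  · linear_combination (b + a * d) * h3
  · linear_combination (c + a * e + b * f) * h3
  · linear_combination d * h3
  · linear_combination (e + d * f) * h3
  · linear_combination f * h3

theorem E1_eq : E1 φ = lev.ker.map φ := by
  ext g
  constructor
  · rintro ⟨a, b, c, rfl⟩
    exact ⟨_, mem_ker_lev.2 ⟨a, b, c, rfl⟩, rfl⟩
  · rintro ⟨x, hx, rfl⟩
    obtain ⟨a, b, c, rfl⟩ := mem_ker_lev.1 hx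
    exact ⟨a, b, c, rfl⟩

theorem conj_E1 {g x : G} (hg : g ∈ φ.range) (hx : x ∈ E1 φ) : g * x * g⁻¹ ∈ E1 φ := by
  obtain ⟨g, rfl⟩ := hg
  rw [E1_eq] at hx ⊢
  obtain ⟨x, hx, rfl⟩ := hx
  exact ⟨_, (MonoidHom.normal_ker lev).conj_mem x hx g, by simp⟩

theorem card_E1 (h : Function.Injective φ) : Nat.card (E1 φ) = 27 := by
  rw [E1_eq, card_map_of_injective h, card_ker_lev]

theorem card_range (h : Function.Injective φ) : Nat.card φ.range = 27 * 5616 := by
  rw [← card_PP]; exact (Nat.card_congr (MonoidHom.ofInjective h).toEquiv).symm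

end

end H42.L43
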