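import Cfsg.Agent.H42.L43K
import Cfsg.Agent.H57.SLGen
import Cfsg.Agent.H98.Core

/-! Tower `L₄(3)` (row S3373): job P. -/

set_option autoImplicit false

namespace H42.L43

open Cfsg Subgroup H47.L43 Matrix MulAction

theorem cen_SL3 : center SL3 = ⊥ := by
  refine eq_bot_iff.2 fun A hA => ?_
  obtain ⟨r, h1, h2⟩ := Matrix.SpecialLinearGroup.mem_center_iff.1 hA
  have : ∀ r : F3, r ^ Fintype.card (Fin 3) = 1 → r = 1 := by decide
  rw [this r h1, map_one] at h2
  exact Subtype.ext h2.symm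

instance simple_SL3 : IsSimpleGroup SL3 :=
  haveI := H57.psl_isSimpleGroup_of_three_le (ι := Fin 3) (F := F3) (by simp)
  ((QuotientGroup.quotientMulEquivOfEq cen_SL3).trans QuotientGroup.quotientBot).symm.isSimpleGroup

theorem eq_bot_SL3 {N : Subgroup SL3} (hN : N.Normal) (h : IsPGroup 3 N) : N = ⊥ := by
  refine (hN.eq_bot_or_eq_top).resolve_right fun e => ?_
  have : Fact (Nat.Prime 3) := ⟨Nat.prime_three⟩
  obtain ⟨k, hk⟩ := h.exists_card_eq
  rw [e, card_top, card_SL3] at hk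
  have : (2 : ℕ) ∣ 3 ^ k := hk ▸ by norm_num
  exact absurd (Nat.prime_two.dvd_of_dvd_pow this) (by norm_num)

/-- the image of `PP` in `PSL₄(3)` -/
def kap : PP →* PSL4 := (QuotientGroup.mk' _).comp PP.subtype

theorem kap_inj : Function.Injective kap := by
  refine (injective_iff_map_eq_one _).2 fun g hg => ?_
  obtain ⟨r, -, h2⟩ := Matrix.SpecialLinearGroup.mem_center_iff.1 ((QuotientGroup.eq_one_iff g.1).1 hg)
  have h3 : M g = scalar (Fin 4) r := h2.symm
  have h4 := col0 g 0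
  rw [h3] at h4
  refine PP_ext ?_
  rw [h3, show r = 1 by simpa using h4, map_one, val_one]

theorem e0_ne : (Pi.single 0 1 : Fin 4 → F3) ≠ 0 := by decide

theorem kap_range : kap.range = stabilizer PSL4 (Projectivization.mk F3 _ e0_ne) := by
  ext x
  obtain ⟨g, rfl⟩ := QuotientGroup.mk_surjective x
  rw [mem_stabilizer_iff, ProjectiveSpecialLinearGroup.smul_proj_mk, Projectivization.smul_mk,
    Projectivization.mk_eq_mk_iff']
  let m : SL4 := ⟨scalar (Fin 4) (-1), by simp; rfl⟩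
  have hm : m ∈ center SL4 := Matrix.SpecialLinearGroup.mem_center_iff.2 ⟨-1, by decide, rfl⟩
  have hv : ∀ (r : F3) (v : Fin 4 → F3), (scalar (Fin 4) r) *ᵥ v = r • v := fun r v => by
    ext i; simp [mulVec_diagonal]
  constructor
  · rintro ⟨p, hp⟩
    obtain ⟨r, -, h2⟩ := Matrix.SpecialLinearGroup.mem_center_iff.1 
      ((QuotientGroup.eq (a := p.1) (b := g)).1 hp)
    refine ⟨r, ?_⟩
    have e : g.1 = p.1.1 * (p.1⁻¹ * g).1 := congrArg Subtype.val (mul_inv_cancel_left p.1 g).symm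
    change _ = g.1 *ᵥ _
    rw [e, ← mulVec_mulVec, ← h2, hv, mulVec_smul, show p.1.1 *ᵥ (Pi.single 0 1) = Pi.single 0 1 from p.2]
  · rintro ⟨a, ha⟩
    change _ = g.1 *ᵥ _ at ha
    have key : ∀ a : F3, a = 0 ∨ a = 1 ∨ a = -1 := by decide
    rcases key a with rfl | rfl | rfl
    · refine absurd ?_ e0_ne
      have e : (g⁻¹).1 * g.1 = 1 := congrArg Subtype.val (inv_mul_cancel g)
      rw [← one_mulVec (Pi.single 0 1 : Fin 4 → F3), ← e, ← mulVec_mulVec, ← ha]
      simp
    · exact ⟨⟨g, ha.symm.trans (one_smul _ _)⟩, rfl⟩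
    · refine ⟨⟨g * m, ?_⟩, (QuotientGroup.eq (a := g * m) (b := g)).2 (by simpa using hm)⟩
      change (g.1 * scalar (Fin 4) (-1)) *ᵥ _ = _
      rw [← mulVec_mulVec, hv, mulVec_smul, ← ha]
      simp

theorem jobP : JobP := by
  have : Nontrivial (Projectivization F3 (Fin 4 → F3)) := by
    refine ⟨Projectivization.mk F3 _ e0_ne, Projectivization.mk F3 (Pi.single 1 1) (by decide), ?_⟩
    rw [Ne, Projectivization.mk_eq_mk_iff']
    decide
  let e := (MonoidHom.ofInjective kap_inj).trans (MulEquiv.subgroupCongr kap_range)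
  let ρ := lev.comp e.symm.toMonoidHom
  have hs : Function.Surjective ρ := lev_surj.comp e.symm.surjective
  have hc : Nat.card ρ.ker = 27 := by
    rw [← card_ker_lev, ← MonoidHom.comap_ker, 
      ← card_map_of_injective (f := e.symm.toMonoidHom) e.symm.injective,
      map_comap_eq_self_of_surjective e.symm.surjective]
  have hk : pCore 3 _ = ρ.ker := by
    refine le_antisymm ((Subgroup.map_eq_bot_iff _).1 (eq_bot_SL3 (Normal.map inferInstance _ hs)
      ((H98.isPGroup_pCore 3 _).map ρ))) (le_sSup ⟨inferInstance, ?_⟩)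
    exact IsPGroup.of_card (n := 3) hc
  exact ⟨_, (isCoatom_stabilizer_iff_preprimitive _ _).2 inferInstance, by rw [hk, hc],
    ⟨(QuotientGroup.quotientMulEquivOfEq hk).trans
      (QuotientGroup.quotientKerEquivOfSurjective ρ hs)⟩, ⟨e⟩⟩

end H42.L43
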