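import Cfsg.Agent.H42.L43P
import Cfsg.Agent.H42.L43I3
import Cfsg.Prelude.Def_Transfer

/-! Tower `L₄(3)` (row S3373): from the hypotheses of the row to `H0`. -/

set_option autoImplicit false

namespace H42.L43

open Cfsg Subgroup H98 H56.L3 H47.L43 Matrix

universe u

abbrev SL2 := Matrix.SpecialLinearGroup (Fin 2) F3

def mm : SL2 := ⟨!![-1, 0; 0, -1], by decide⟩
def qi : SL2 := ⟨!![0, -1; 1, 0], by decide⟩
def qj : SL2 := ⟨!![1, 1; 1, -1], by decide⟩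
def qs : SL2 := ⟨!![1, 1; 0, 1], by decide⟩

theorem mm_sq : mm * mm = 1 := by decide
theorem qi_sq : qi * qi = mm := by decide
theorem qj_sq : qj * qj = mm := by decide
theorem qj_qi : qj * qi = mm * (qi * qj) := by decide
theorem qs_qi : qs * qi = qj * qs := by decide
theorem qs_qj : qs * qj = qi * qj * qs := by decide

theorem mm_comm (g : SL2) : mm * g = g * mm := by
  apply Subtype.ext
  change !![-1, 0; 0, -1] * g.1 = g.1 * !![-1, 0; 0, -1]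
  ext i j
  fin_cases i <;> fin_cases j <;> simp [Matrix.mul_apply, Fin.sum_univ_two]

theorem cube_mem (g : SL2) : ∃ x ∈ [1, qi, qj, qi * qj], g * g * g = x ∨ g * g * g = mm * x := by
  have key : ∀ a b c d : F3, ∀ h : (!![a, b; c, d]).det = 1, ∃ x ∈ [1, qi, qj, qi * qj],
      (⟨_, h⟩ * ⟨_, h⟩ * ⟨_, h⟩ : SL2) = x ∨ (⟨_, h⟩ * ⟨_, h⟩ * ⟨_, h⟩ : SL2) = mm * x := by
    decide +kernel
  obtain ⟨A, hA⟩ := g
  obtain ⟨a, b, c, d, rfl⟩ : ∃ a b c d, A = !![a, b; c, d] := ⟨_, _, _, _, eta_fin_two A⟩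
  exact key a b c d hA

theorem res_SL2 : pResidual 2 SL2 = ⊤ := by
  refine eq_top_iff.2 fun A _ => Matrix.SL2.transvection_induction (· ∈ pResidual 2 SL2)
    (fun i j hij c => subset_closure ?_) (fun A B => mul_mem) A
  refine Nat.Coprime.coprime_dvd_left (orderOf_dvd_of_pow_eq_one (n := 3) ?_) (by norm_num)
  have : ∀ c : F3, c + c + c = 0 := by decide
  rw [pow_succ, pow_two, ← Matrix.SpecialLinearGroup.transvection_add,
    ← Matrix.SpecialLinearGroup.transvection_add, this,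
    Matrix.SpecialLinearGroup.transvection_coeff_zero]

theorem sq_ne : ∀ x : ZMod 3, x * x + 1 ≠ 0 := by decide

theorem three_mul_le {G : Type*} [Group G] [Finite G] {X Y : Subgroup G} (hY : IsPGroup 3 Y)
    (h : X < Y) : 3 * Nat.card X ≤ Nat.card Y := by
  have : Fact (Nat.Prime 3) := ⟨Nat.prime_three⟩
  obtain ⟨n, hn⟩ := hY.exists_card_eq
  obtain ⟨m, hm⟩ := (hY.to_le h.le).exists_card_eq
  have h1 : Nat.card X < Nat.card Y :=
    lt_of_not_ge fun e => h.ne (eq_of_le_of_card_ge h.le e)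
  rw [hn, hm] at h1 ⊢
  rw [← pow_succ']
  exact Nat.pow_le_pow_right (by norm_num) ((Nat.pow_lt_pow_iff_right (by norm_num)).1 h1)

section Rep

variable {V : Type*} [CommGroup V]

/-- fixed vectors -/
def Fxv (α : MulAut V) : Subgroup V := α.toMonoidHom.eqLocus (MonoidHom.id V)

/-- inverted vectors -/
def Ivv (α : MulAut V) : Subgroup V := α.toMonoidHom.eqLocus invMonoidHom

theorem mem_Fxv {α : MulAut V} {v : V} : v ∈ Fxv α ↔ α v = v := Iff.rfl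

theorem mem_Ivv {α : MulAut V} {v : V} : v ∈ Ivv α ↔ α v = v⁻¹ := Iff.rfl

theorem one_of_inv (h3 : ∀ v : V, v ^ 3 = 1) {v : V} (h : v = v⁻¹) : v = 1 := by
  have := h3 v
  rwa [pow_succ, pow_two, mul_eq_one_iff_eq_inv.2 h, one_mul] at this

theorem three_eig [Finite V] (h3 : ∀ v : V, v ^ 3 = 1) {α β γ : MulAut V} (h1 : ∀ v, α (α v) = v)
    (h2 : ∀ v, β (β v) = v) (hc : ∀ v, β (α v) = α (β v)) (e1 : ∀ v, γ (α v) = β (γ v))
    (e2 : ∀ v, γ (β v) = α (β (γ v))) (hn : ∃ v, α v ≠ v) : 27 ≤ Nat.card V := by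
  have e3 : ∀ v, α (γ v) = γ (α (β v)) := fun v => by rw [e1, e2, hc, h2]
  obtain ⟨u, hu, hα, hβ⟩ : ∃ u, u ≠ 1 ∧ α u = u⁻¹ ∧ β u = u⁻¹ := by
    obtain ⟨v, hv⟩ := hn
    have ha : α (α v * v⁻¹) = (α v * v⁻¹)⁻¹ := by simp [h1]
    have ha1 : α v * v⁻¹ ≠ 1 := fun e => hv (mul_inv_eq_one.1 e)
    generalize α v * v⁻¹ = a at ha ha1
    by_cases hb : β a = a
    · exact ⟨γ a, by simpa using ha1, by rw [e3, hb, ha, map_inv], by rw [← e1, ha, map_inv]⟩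
    · exact ⟨β a * a⁻¹, fun e => hb (mul_inv_eq_one.1 e), by simp [← hc, ha, mul_comm],
        by simp [h2]⟩
  have a1 : α (γ u) = γ u := by rw [e3, hβ, map_inv α, hα, inv_inv]
  have b1 : β (γ u) = (γ u)⁻¹ := by rw [← e1, hα, map_inv]
  have a2 : α (γ (γ u)) = (γ (γ u))⁻¹ := by rw [e3, b1, map_inv α, a1, map_inv]
  have b2 : β (γ (γ u)) = γ (γ u) := by rw [← e1, a1]
  have hP : ∀ X : Subgroup V, IsPGroup 3 X := fun X x => ⟨1, Subtype.ext (by simpa using h3 x)⟩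
  have c1 := three_mul_le (hP _) (show (⊥ : Subgroup V) < Ivv α ⊓ Fxv β from
    bot_lt_iff_ne_bot.2 fun e => hu (by simpa using mem_bot.1 (e.le (mem_inf.2 ⟨a2, b2⟩))))
  have c2 := three_mul_le (hP _) (show Ivv α ⊓ Fxv β < Ivv α from lt_of_le_of_ne inf_le_left
    fun e => hu (one_of_inv h3 ((mem_Fxv.1 (mem_inf.1 (e.ge hα)).2).symm.trans hβ)))
  have c3 := three_mul_le (hP _) (show Ivv α < ⊤ from lt_top_iff_ne_top.2 fun e =>
    hu (by simpa using one_of_inv h3 (a1.symm.trans (mem_Ivv.1 (e.ge (mem_top (γ u)))))))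
  rw [card_bot] at c1
  rw [card_top] at c3
  omega

theorem rep [Finite V] (h3 : ∀ v : V, v ^ 3 = 1) (ρ : SL2 →* MulAut V)
    (hmin : ∀ X : Subgroup V, (∀ g, ∀ v ∈ X, ρ g v ∈ X) → X = ⊥ ∨ X = ⊤)
    (hnt : ∃ g v, ρ g v ≠ v) :
    ((∀ v, ρ mm v = v⁻¹) ∧ 9 ≤ Nat.card V) ∨ 27 ≤ Nat.card V := by
  have : Fact (Nat.Prime 3) := ⟨Nat.prime_three⟩
  have ap : ∀ g h v, ρ g (ρ h v) = ρ (g * h) v := fun g h v => by rw [map_mul]; rfl
  have hP : ∀ X : Subgroup V, IsPGroup 3 X := fun X x => ⟨1, Subtype.ext (by simpa using h3 x)⟩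
  obtain ⟨g0, v0, h0⟩ := hnt
  have v1 : v0 ≠ 1 := fun e => h0 (by simp [e])
  have c1 := three_mul_le (hP _) (show (⊥ : Subgroup V) < zpowers v0 from
    bot_lt_iff_ne_bot.2 (by simpa using v1))
  rw [card_bot] at c1
  rcases hmin (Ivv (ρ mm)) fun g v hv => mem_Ivv.2 (by
    rw [ap, mm_comm, ← ap, mem_Ivv.1 hv, map_inv]) with h | h
  · right
    have hm : ∀ v, ρ mm v = v := fun v => mul_inv_eq_one.1 (mem_bot.1 (h ▸ mem_Ivv.2 (by
      simp [ap, mm_sq])))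
    by_cases hi : ∃ v, ρ qi v ≠ v
    · exact three_eig h3 (α := ρ qi) (β := ρ qj) (γ := ρ qs) (fun v => by rw [ap, qi_sq, hm])
        (fun v => by rw [ap, qj_sq, hm]) (fun v => by rw [ap, qj_qi, ← ap, hm, ap])
        (fun v => by rw [ap, ap, qs_qi]) (fun v => by rw [ap, ap, ap, qs_qj]) hi
    · exfalso
      push Not at hi
      have hj : ∀ v, ρ qj v = v := fun v => by
        obtain ⟨w, rfl⟩ := (ρ qs).surjective v
        rw [ap, ← qs_qi, ← ap, hi]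
      have hp : IsPGroup 3 ρ.range := by
        rintro ⟨_, g, rfl⟩
        refine ⟨1, Subtype.ext (MulEquiv.ext fun v => ?_)⟩
        have e : ρ (g * g * g) v = v := by
          obtain ⟨x, hx, e⟩ := cube_mem g
          have : ρ x v = v := by
            simp only [List.mem_cons, List.not_mem_nil, or_false] at hx
            rcases hx with rfl | rfl | rfl | rfl
            · simp
            · exact hi v
            · exact hj v
            · rw [← ap, hi, hj]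
          rcases e with e | e
          · rw [e, this]
          · rw [e, ← ap, hm, this]
        simpa [pow_succ] using e
      obtain ⟨k, hk⟩ := (hP ⊤).exists_card_eq
      rw [card_top] at hk
      obtain ⟨b, hb, hb1⟩ := hp.exists_fixed_point_of_prime_dvd_card_of_fixed_point V (a := 1)
        (hk ▸ dvd_pow_self 3 (by
          rintro rfl
          have := card_le_card_group (zpowers v0)
          omega)) fun g => map_one g.1
      rcases hmin (⨅ g, Fxv (ρ g)) fun g v hv => by rwa [mem_Fxv.1 (mem_iInf.1 hv g)] with h | h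
      · exact hb1 (mem_bot.1 (h ▸ mem_iInf.2 fun g => hb ⟨_, g, rfl⟩)).symm
      · exact h0 (mem_iInf.1 (h.ge (mem_top v0)) g0)
  · have hm : ∀ v, ρ mm v = v⁻¹ := fun v => h.ge (mem_top v)
    refine .inl ⟨hm, ?_⟩
    have c2 := three_mul_le (hP _) (show zpowers v0 < ⊤ from lt_top_iff_ne_top.2 fun e => by
      obtain ⟨n, hn⟩ := mem_zpowers_iff.1 (e.ge (mem_top (ρ qi v0)))
      have e1 : v0 ^ (n * n + 1) = 1 := by
        rw [_root_.zpow_add_one, mul_eq_one_iff_eq_inv, ← hm, ← qi_sq, ← ap, ← hn, map_zpow, ← hn,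
          ← _root_.zpow_mul]
      have e2 := orderOf_dvd_iff_zpow_eq_one.2 e1
      rw [orderOf_eq_prime (h3 v0) v1] at e2
      exact sq_ne n (by exact_mod_cast (ZMod.intCast_zmod_eq_zero_iff_dvd _ 3).2 e2))
    rw [card_top] at c2
    omega

end Rep

/-- a non-central chief factor -/
theorem chief {Γ : Type*} [Group Γ] [Finite Γ] {B B' : Subgroup Γ} [hB : B.Normal] [hB' : B'.Normal]
    (hle : B ≤ B') (π : Γ →* SL2) (hs : Function.Surjective π)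
    (hk : ∀ g, π g = 1 → ∀ a ∈ B', g * a * g⁻¹ * a⁻¹ ∈ B) (hQ : ∀ a ∈ B', π a = 1)
    (h3 : ∀ a ∈ B', a ^ 3 = 1) (hmin : ∀ X : Subgroup Γ, X.Normal → B < X → X < B' → False)
    (hnt : ∃ k, ∃ a ∈ B', k * a * k⁻¹ * a⁻¹ ∉ B) {t : Γ} (ht : π t = mm) :
    ((∀ a ∈ B', t * a * t⁻¹ * a ∈ B) ∧ 9 * Nat.card B ≤ Nat.card B') ∨
      27 * Nat.card B ≤ Nat.card B' := by
  let f := QuotientGroup.mk' B
  have fs : Function.Surjective f := QuotientGroup.mk'_surjective B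
  have f1 : ∀ {g}, f g = 1 ↔ g ∈ B := QuotientGroup.eq_one_iff _
  let V := B'.map f
  have hV : V.Normal := hB'.map f fs
  let σ : Γ →* MulAut V := (MulAut.conjNormal (H := V)).comp f
  have σ_ap : ∀ g a (ha : a ∈ B'), (σ g ⟨f a, a, ha, rfl⟩ : Γ ⧸ B) = f (g * a * g⁻¹) :=
    fun g a ha => by simp [σ]
  have hker : π.ker ≤ σ.ker := fun g hg => MulEquiv.ext fun ⟨_, a, ha, rfl⟩ => Subtype.ext (by
    rw [σ_ap g a ha, ← mul_inv_eq_one]
    exact (map_mul f _ a⁻¹).symm.trans (f1.2 (hk g hg a ha)))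
  let ρ : SL2 →* MulAut V := π.liftOfSurjective hs ⟨σ, hker⟩
  have hρ : ∀ g, ρ (π g) = σ g := fun g => π.liftOfRightInverse_comp_apply _ _ ⟨σ, hker⟩ g
  have hc : IsMulCommutative V := ⟨⟨fun ⟨_, a, ha, rfl⟩ ⟨_, b, hb, rfl⟩ => Subtype.ext (by
    change f a * f b = f b * f a
    rw [← mul_inv_eq_one, ← f1.2 (hk a (hQ a ha) b hb)]
    simp [mul_assoc])⟩⟩
  have hcard : Nat.card B * Nat.card V = Nat.card B' := by
    rw [← relIndex_ker, QuotientGroup.ker_mk', relIndex, ← card_mul_index (B.subgroupOf B'),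
      Nat.card_congr (subgroupOfEquivOfLe hle).toEquiv]
  open scoped IsMulCommutative in
  have key := rep (V := V) (fun ⟨_, a, ha, rfl⟩ => Subtype.ext (by
      change f a ^ 3 = 1
      rw [← map_pow, h3 a ha, map_one])) ρ (fun X hX => by
    let Y := (X.map V.subtype).comap f
    have h1 : B ≤ Y := fun b hb => by simp [Y, f1.2 hb]
    have h2 : Y ≤ B' := fun y hy => by
      have : y ∈ V.comap f := map_subtype_le X hy
      rwa [comap_map_eq, QuotientGroup.ker_mk', sup_eq_left.2 hle] at this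
    have hY : Y.Normal := ⟨fun y hy g => by
      obtain ⟨x, hx, e⟩ := hy
      refine ⟨_, hX (π g) x hx, ?_⟩
      rw [hρ, show x = ⟨f y, y, h2 ⟨x, hx, e⟩, rfl⟩ from Subtype.ext e]
      exact σ_ap g y (h2 ⟨x, hx, e⟩)⟩
    by_cases e1 : Y = B
    · refine .inl (eq_bot_iff.2 fun ⟨_, a, ha, rfl⟩ hx => Subtype.ext (f1.2 ?_))
      exact e1 ▸ (⟨_, hx, rfl⟩ : a ∈ Y)
    · refine .inr (eq_top_iff.2 fun ⟨_, a, ha, rfl⟩ _ => ?_)
      have e2 : Y = B' := by_contra fun e2 =>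
        hmin Y hY (lt_of_le_of_ne h1 (Ne.symm e1)) (lt_of_le_of_ne h2 e2)
      obtain ⟨x, hx, e⟩ : a ∈ Y := e2 ▸ ha
      exact (show x = ⟨f a, a, ha, rfl⟩ from Subtype.ext e) ▸ hx) (by
    obtain ⟨k, a, ha, hn⟩ := hnt
    refine ⟨π k, ⟨f a, a, ha, rfl⟩, fun e => hn (f1.1 ?_)⟩
    have := congrArg Subtype.val e
    rw [hρ, σ_ap _ _ ha] at this
    rw [map_mul, this, map_inv, mul_inv_cancel])
  rw [← hcard]
  rcases key with ⟨h1, h2⟩ | h
  · refine .inl ⟨fun a ha => f1.1 ?_, by nlinarith⟩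
    have := congrArg Subtype.val (h1 ⟨f a, a, ha, rfl⟩)
    rw [← ht, hρ, σ_ap _ _ ha] at this
    rw [map_mul, this]
    exact inv_mul_cancel _
  · exact .inr (by nlinarith)

theorem chief' {G : Type*} [Group G] [Finite G] {C Q Z B B' : Subgroup G} (π : C →* SL2)
    (hs : Function.Surjective π) (hk : ∀ g, π g = 1 ↔ (g : G) ∈ Q) (hQ : Q ≤ C) (hZ : Z ≤ B)
    (hle : B ≤ B') (hB : B' ≤ Q) (n1 : ∀ k ∈ C, ∀ a ∈ B, k * a * k⁻¹ ∈ B)
    (n2 : ∀ k ∈ C, ∀ a ∈ B', k * a * k⁻¹ ∈ B') (hc : ∀ a ∈ Q, ∀ b ∈ Q, a * b * a⁻¹ * b⁻¹ ∈ Z)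
    (h3 : ∀ a ∈ Q, a ^ 3 = 1)
    (hmin : ∀ X : Subgroup G, B < X → X < B' → ∃ k ∈ C, ∃ b ∈ X, k * b * k⁻¹ ∉ X)
    (hnt : ∃ k ∈ C, ∃ a ∈ B', k * a * k⁻¹ * a⁻¹ ∉ B) {t : C} (ht : π t = mm) :
    ((∀ a ∈ B', t * a * (t : G)⁻¹ * a ∈ B) ∧ 9 * Nat.card B ≤ Nat.card B') ∨
      27 * Nat.card B ≤ Nat.card B' := by
  have hC := hB.trans hQ
  have : (B.subgroupOf C).Normal := ⟨fun a ha k => n1 k k.2 a ha⟩
  have : (B'.subgroupOf C).Normal := ⟨fun a ha k => n2 k k.2 a ha⟩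
  have inj := C.subtype_injective
  have key := chief (B := B.subgroupOf C) (B' := B'.subgroupOf C) (comap_mono hle) π hs
    (fun g hg a ha => hZ (hc _ ((hk g).1 hg) _ (hB ha))) (fun a ha => (hk a).2 (hB ha))
    (fun a ha => Subtype.ext (h3 _ (hB ha))) (fun X hX h1 h2 => by
      rw [← map_lt_map_iff_of_injective inj, subgroupOf_map_subtype] at h1 h2
      rw [inf_eq_left.2 (hle.trans hC)] at h1
      rw [inf_eq_left.2 hC] at h2
      obtain ⟨k, hk, _, ⟨b, hb, rfl⟩, hn⟩ := hmin _ h1 h2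
      exact hn ⟨_, hX.conj_mem b hb ⟨k, hk⟩, rfl⟩)
    (by obtain ⟨k, hk, a, ha, hn⟩ := hnt; exact ⟨⟨k, hk⟩, ⟨a, hC ha⟩, ha, hn⟩) ht
  rw [Nat.card_congr (subgroupOfEquivOfLe hC).toEquiv,
    Nat.card_congr (subgroupOfEquivOfLe (hle.trans hC)).toEquiv] at key
  exact key.imp_left fun h => ⟨fun a ha => h.1 ⟨a, hC ha⟩ ha, h.2⟩

theorem inv_of {G : Type*} [Group G] [Finite G] {C Q Z : Subgroup G} (π : C →* SL2)
    (hs : Function.Surjective π) (hk : ∀ g, π g = 1 ↔ (g : G) ∈ Q) (hQ : Q ≤ C)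
    (cZ : Nat.card Z = 3) (cQ : Nat.card Q = 243) (hc : ∀ a ∈ Q, ∀ b ∈ Q, a * b * a⁻¹ * b⁻¹ ∈ Z)
    (h3 : ∀ a ∈ Q, a ^ 3 = 1) {r : ℕ} {A : Fin (r + 1) → Subgroup G} (hA0 : A 0 = Z)
    (hAr : A (Fin.last r) = Q) (hmono : ∀ i : Fin r, A i.castSucc < A i.succ)
    (hinv : ∀ i, ∀ k ∈ C, ∀ a ∈ A i, k * a * k⁻¹ ∈ A i)
    (hmax : ∀ i : Fin r, ∀ B, A i.castSucc < B → B < A i.succ → ∃ k ∈ C, ∃ b ∈ B, k * b * k⁻¹ ∉ B)
    {i j : Fin r} (hij : i < j) (hi : ∃ k ∈ C, ∃ a ∈ A i.succ, k * a * k⁻¹ * a⁻¹ ∉ A i.castSucc)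
    (hj : ∃ k ∈ C, ∃ a ∈ A j.succ, k * a * k⁻¹ * a⁻¹ ∉ A j.castSucc) :
    ∃ t ∈ C, t * t = 1 ∧ ∀ a ∈ Q, t * a * t⁻¹ * a ∈ Z := by
  have mo := (Fin.strictMono_iff_lt_succ.2 hmono).monotone
  have lZ : ∀ l, Z ≤ A l := fun l => hA0 ▸ mo (Fin.zero_le l)
  have lQ : ∀ l, A l ≤ Q := fun l => hAr ▸ mo (Fin.le_last l)
  obtain ⟨g, hg⟩ := hs mm
  have g2 := h3 _ ((hk (g * g)).1 (by rw [map_mul, hg, mm_sq]))
  have ht : π (g * g * g) = mm := by rw [map_mul, map_mul, hg, mm_sq, one_mul]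
  have tt : ((g * g * g : C) : G) * (g * g * g : C) = 1 := by
    rw [← g2]; simp [pow_succ, mul_assoc]
  generalize g * g * g = t at ht tt
  have ch := fun l : Fin r => chief' π hs hk hQ (lZ l.castSucc) (hmono l).le (lQ l.succ) (hinv _)
    (hinv _) hc h3 (hmax l) (t := t)
  have l2 : A i.succ ≤ A j.castSucc := mo (Fin.succ_le_castSucc_iff.2 hij)
  have c1 := card_le_of_le (lZ i.castSucc)
  have c2 := card_le_of_le l2
  have c3 := card_le_of_le (lQ j.succ)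
  obtain ⟨k1, d1⟩ | d1 := ch i hi ht <;> obtain ⟨k2, d2⟩ | d2 := ch j hj ht <;> try omega
  rw [← eq_of_le_of_card_ge (lZ i.castSucc) (by omega)] at k1
  rw [← eq_of_le_of_card_ge l2 (by omega), eq_of_le_of_card_ge (lQ j.succ) (by omega)] at k2
  refine ⟨t, t.2, tt, fun a ha => ?_⟩
  have hb : t * a * (t : G)⁻¹ ∈ Q := hAr ▸ hinv _ t t.2 a (hAr ▸ ha)
  have e1 := mul_mem (inv_mem (hc a ha _ hb)) (k1 _ (k2 a ha))
  have e2 := h3 _ (mul_mem hb ha)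
  have e3 : (t : G)⁻¹ = t := inv_eq_of_mul_eq_one_right tt
  have e4 : ∀ x : G, t * (t * x) = x := fun x => by rw [← mul_assoc, tt, one_mul]
  rw [pow_succ, mul_eq_one_iff_inv_eq] at e2
  rw [← e2]
  refine inv_mem ?_
  simpa [e3, e4, tt, pow_two, mul_assoc] using e1

/-- S3373 from the jobs -/
theorem s3373_of (k9 : JobK9.{u}) (ab : JobAB.{u}) (sl : JobSL3.{u}) (m : JobM.{u}) (jx : JobX.{u})
    (i0 : JobI0.{u}) (i1 : JobI1.{u}) (i2 : JobI2.{u}) (ii : JobII.{u}) (ju : JobU.{u})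
    (jf : JobF.{u}) {G : Type u} [Group G] [Finite G]
    (S : Sylow 3 G) (Z : Subgroup G) (hZ : Z = (S : Subgroup G) ⊓ centralizer ((S : Subgroup G) : Set G))
    (C : Subgroup G) (hCZ : C = centralizer (Z : Set G))
    (Q : Subgroup G) (hQ : Q = (pCore 3 C).map C.subtype)
    (hQex : IsExtraspecial 3 Q) (hQcard : Nat.card Q = 3 ^ 5) (hQexp : ∀ a ∈ Q, a ^ 3 = 1)
    (hCQ : centralizer (Q : Set G) ≤ Q)
    (hZQ : ∃ x : G, Z.map (MulAut.conj x).toMonoidHom ≤ Q ∧ Z.map (MulAut.conj x).toMonoidHom ≠ Z)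
    (K : Subgroup G) (hK : K = ((pResidual 2 (C ⧸ pCore 3 C)).comap
      (QuotientGroup.mk' (pCore 3 C))).map C.subtype)
    (r : ℕ) (A : Fin (r + 1) → Subgroup G) (hA0 : A 0 = Z) (hAr : A (Fin.last r) = Q)
    (hmono : ∀ i : Fin r, A i.castSucc < A i.succ)
    (hinv : ∀ i : Fin (r + 1), ∀ k ∈ K, ∀ a ∈ A i, k * a * k⁻¹ ∈ A i)
    (hmax : ∀ i : Fin r, ∀ B : Subgroup G, A i.castSucc < B → B < A i.succ →
      ∃ k ∈ K, ∃ b ∈ B, k * b * k⁻¹ ∉ B)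
    (e : C ⧸ pCore 3 C ≃* SL2)
    (htwo : ∃ i j : Fin r, i ≠ j ∧ (∃ k ∈ K, ∃ a ∈ A i.succ, k * a * k⁻¹ * a⁻¹ ∉ A i.castSucc) ∧
      (∃ k ∈ K, ∃ a ∈ A j.succ, k * a * k⁻¹ * a⁻¹ ∉ A j.castSucc) ∧ ∀ l : Fin r,
      (∃ k ∈ K, ∃ a ∈ A l.succ, k * a * k⁻¹ * a⁻¹ ∉ A l.castSucc) → l = i ∨ l = j) :
    Nonempty (G ≃* PSL4) ∨ ∃ P : Subgroup PSL4, IsCoatom P ∧ Nat.card (pCore 3 P) = 27 ∧
      Nonempty (P ⧸ pCore 3 P ≃* Matrix.SpecialLinearGroup (Fin 3) F3) ∧ Nonempty (G ≃* P) := by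
  have : Fact (Nat.Prime 3) := ⟨Nat.prime_three⟩
  obtain ⟨x, hx1, hx2⟩ := hZQ
  have QC : Q ≤ C := hQ ▸ map_subtype_le _
  have SC : (S : Subgroup G) ≤ C := by
    rw [hCZ, ← le_centralizer_iff, hZ]; exact inf_le_right
  have QS : Q ≤ S := hQ ▸ (isSyl_sylow_of_le S SC).pCoreOf_le
  have ZC : Z ≤ centralizer (Q : Set G) := hZ ▸ inf_le_right.trans (centralizer_le QS)
  have cen : centralizer (Q : Set G) ≤ (center Q).map Q.subtype := fun a ha =>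
    ⟨⟨a, hCQ ha⟩, mem_center_iff.2 fun b => Subtype.ext (ha b b.2), rfl⟩
  have cc : Nat.card ((center Q).map Q.subtype) = 3 := (card_subtype _ _).trans hQex.2
  obtain ⟨⟨z, hz⟩, z1⟩ := ne_bot_iff_exists_ne_one.1 (show Z ≠ ⊥ by rintro rfl; simp at hx2)
  have oz : orderOf z = 3 := orderOf_eq_prime (hQexp z (hCQ (ZC hz))) fun e => z1 (Subtype.ext e)
  have zz : zpowers z = (center Q).map Q.subtype := eq_of_le_of_card_ge
    (zpowers_le.2 (cen (ZC hz))) (by rw [cc, Nat.card_zpowers, oz])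
  have eZ : Z = zpowers z := le_antisymm (zz ▸ ZC.trans cen) (zpowers_le.2 hz)
  clear hZ
  subst eZ
  obtain rfl : C = Ce z := by rw [hCZ, zpowers_eq_closure, centralizer_closure]
  have eK : K = Ce z := by
    have : pResidual 2 (Ce z ⧸ pCore 3 (Ce z)) = ⊤ := by
      refine eq_top_iff.2 fun a _ => ?_
      obtain ⟨b, rfl⟩ := e.symm.surjective a
      refine (closure_le ((pResidual 2 _).comap e.symm.toMonoidHom)).2 (fun c hc => subset_closure ?_)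
        (res_SL2.ge (mem_top b))
      exact (congrArg (Nat.Coprime · 2) (e.symm.orderOf_eq c)).mpr hc
    rw [hK, this, comap_top, ← MonoidHom.range_eq_map, range_subtype]
  subst eK
  let π : Ce z →* SL2 := e.toMonoidHom.comp (QuotientGroup.mk' _)
  have hs : Function.Surjective π := e.surjective.comp (QuotientGroup.mk'_surjective _)
  have hk : ∀ g, π g = 1 ↔ (g : G) ∈ Q := fun g => e.map_eq_one_iff.trans
    ((QuotientGroup.eq_one_iff g).trans (hQ ▸ (mem_map_iff_mem (subtype_injective _)).symm))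
  have hc : ∀ a ∈ Q, ∀ b ∈ Q, a * b * a⁻¹ * b⁻¹ ∈ zpowers z := fun a ha b hb =>
    zz.ge ⟨_, hQex.1.2.2.le (commutator_mem_commutator (mem_top ⟨a, ha⟩)
      (mem_top ⟨b, hb⟩)), rfl⟩
  have cz : Nat.card (zpowers z) = 3 := zz ▸ cc
  obtain ⟨t, tC, tt, ti⟩ : ∃ t ∈ Ce z, t * t = 1 ∧ ∀ a ∈ Q, t * a * t⁻¹ * a ∈ zpowers z := by
    obtain ⟨i, j, hij, hi, hj, -⟩ := htwo
    rcases hij.lt_or_gt with h | h
    · exact inv_of π hs hk QC cz hQcard hc hQexp hA0 hAr hmono hinv hmax h hi hj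
    · exact inv_of π hs hk QC cz hQcard hc hQexp hA0 hAr hmono hinv hmax h hj hi
  have h0 : H0 z t Q π := ⟨oz, hCQ (ZC hz), QC, hQcard, hQexp, hc, zz ▸ cen, hs, hk, tC, tt, ti⟩
  refine (main k9 ab sl m jx i0 i1 i2 jobI3 ii ju jf (y := x) h0 (hx1 ⟨z, hz, rfl⟩) fun h => hx2
    (eq_of_le_of_card_ge ?_ (card_map_of_injective (MulAut.conj x).injective).ge)).imp_right
    fun ⟨f⟩ => ?_
  · rw [MonoidHom.map_zpowers]; exact zpowers_le.2 h
  · obtain ⟨P, h1, h2, h3, ⟨f'⟩⟩ := jobP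
    exact ⟨P, h1, h2, h3, ⟨f.trans f'⟩⟩

end H42.L43
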