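import Cfsg.Agent.H42.MLSpec
import Cfsg.Agent.H77.WrC
import Cfsg.Agent.H81.WrA7f
import Cfsg.Agent.H81.WrOA

/-! Tower MCLY (`blueprints/MCLY.md`): a group inducing `A₇` on `2⁴`. -/

set_option autoImplicit false
set_option linter.unusedSectionVars false

namespace H42.ML

open Subgroup Cfsg H98 H1.Gold H99.Wr H81 H81.A7 H77.Wr

universe u

variable {G : Type u} [Group G] [Finite G] {N M K A B P S : Subgroup G} {a b c d s f : G}

/-- `N` induces `A₇` on `A`. -/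
structure A7 (N A : Subgroup G) : Prop where
  el : El A
  card : Nat.card A = 16
  nor : N ≤ nor A
  idx : (cen A).relIndex N = 2520

theorem relIndex_sup_cen (h : N ≤ nor A) : (cen A).relIndex (N ⊔ cen A) = (cen A).relIndex N := by
  have h1 : N ⊔ cen A ≤ nor A := sup_le h (le_normalizer_of_le_centralizer le_rfl)
  rw [← H77.Wr.card_autOf h, ← H77.Wr.card_autOf h1]
  refine congrArg (fun X : Subgroup (MulAut A) => Nat.card X) (le_antisymm ?_
    fun α ⟨n, hn, e⟩ => ⟨n, mem_sup_left hn, e⟩)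
  rintro α ⟨x, hx, e⟩
  obtain ⟨n, hn, c, hc, rfl⟩ := (mem_sup_left_norm (le_normalizer_centralizer h)).1 hx
  refine ⟨n, hn, fun a => ?_⟩
  rw [e, show n * c * a * (n * c)⁻¹ = n * (c * a * c⁻¹) * n⁻¹ by group,
    cj_of_comm (mem_cen.1 hc a a.2).symm]

namespace A7

variable (h : A7 N A)
include h

theorem aut : Nat.card (autOf N A) = 2520 := (H77.Wr.card_autOf h.nor).trans h.idx

theorem std : ∃ F, Std F (autOf N A) :=
  exists_std (fun x => Subtype.ext (h.el x x.2)) h.card h.aut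

theorem norC : N ≤ H1.Gold.nor (cen A) := le_normalizer_centralizer h.nor

/-- A group with the same action. -/
theorem congr (h1 : N ≤ M ⊔ cen A) (h2 : M ≤ N ⊔ cen A) : A7 M A := by
  have h3 : M ≤ H1.Gold.nor A := h2.trans (sup_le h.nor (le_normalizer_of_le_centralizer le_rfl))
  refine ⟨h.el, h.card, h3, ?_⟩
  rw [← relIndex_sup_cen h3, le_antisymm (sup_le h2 le_sup_right) (sup_le h1 le_sup_right),
    relIndex_sup_cen h.nor, h.idx]

theorem of_le (h1 : M ≤ N) (h2 : N ≤ M ⊔ cen A) : A7 M A := h.congr h2 (h1.trans le_sup_left)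

protected theorem cj (g : G) : A7 (cj g N) (cj g A) :=
  ⟨h.el.cj g, (card_cj _ _).trans h.card, (cj_mono g h.nor).trans (cj_normalizer _ _).le, by
    rw [← h.idx, cen, ← cj_centralizer]
    exact relIndex_map_map_of_injective _ _ (MulAut.conj g).injective⟩

/-- `x ∈ N C(A)` acts as an element of `N`. -/
theorem dec {x : G} (hx : x ∈ N ⊔ cen A) : ∃ n ∈ N, n⁻¹ * x ∈ cen A := by
  obtain ⟨n, hn, c, hc, rfl⟩ := (mem_sup_left_norm h.norC).1 hx
  exact ⟨n, hn, by simpa using hc⟩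

theorem tr2 (ha : a ∈ A) (hb : b ∈ A) (hc : c ∈ A) (hd : d ∈ A) (a1 : a ≠ 1) (b1 : b ≠ 1)
    (ab : a ≠ b) (c1 : c ≠ 1) (d1 : d ≠ 1) (cd : c ≠ d) :
    ∃ n ∈ N, n * a * n⁻¹ = c ∧ n * b * n⁻¹ = d := by
  obtain ⟨F, hF⟩ := h.std
  obtain ⟨n, hn, rfl, rfl⟩ := hF.two ha hb a1 b1 ab
  obtain ⟨m, hm, rfl, rfl⟩ := hF.two hc hd c1 d1 cd
  exact ⟨m * n⁻¹, mul_mem hm (inv_mem hn), by group, by group⟩

theorem tr (ha : a ∈ A) (hb : b ∈ A) (a1 : a ≠ 1) (b1 : b ≠ 1) : ∃ n ∈ N, n * a * n⁻¹ = b := by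
  obtain ⟨F, hF⟩ := h.std
  obtain ⟨n, hn, rfl⟩ := hF.one ha a1
  obtain ⟨m, hm, rfl⟩ := hF.one hb b1
  exact ⟨m * n⁻¹, mul_mem hm (inv_mem hn), by group⟩

theorem irr (hB : B ≤ A) (hn : N ≤ H1.Gold.nor B) : B = ⊥ ∨ B = A := by
  refine or_iff_not_imp_left.2 fun h1 => le_antisymm hB fun e he => ?_
  obtain ⟨a, ha, h2⟩ := (bot_or_exists_ne_one B).resolve_left h1
  by_cases h3 : e = 1
  · exact h3 ▸ one_mem _
  obtain ⟨n, h4, rfl⟩ := h.tr (hB ha) he h2 h3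
  exact conj_mem_of_mem_normalizer (hn h4) ha

theorem fix (ha : a ∈ A) (hc : ∀ n ∈ N, n * a = a * n) : a = 1 := by
  by_contra h1
  have h2 : A ≤ zpowers a := fun e he => by
    by_cases h3 : e = 1
    · exact h3 ▸ one_mem _
    obtain ⟨n, h4, rfl⟩ := h.tr ha he h1 h3
    rw [cj_of_comm (hc n h4)]
    exact mem_zpowers a
  have := card_le_of_le h2
  rw [h.card, Nat.card_zpowers, H14.orderOf_two_of_mul_self (h.el a ha) h1] at this
  omega

theorem not_le : ¬ N ≤ cen A := fun e => by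
  have := h.idx
  rw [relIndex_eq_one.2 e] at this
  omega

/-- One class of involutions. -/
theorem inv (hs : s ∈ N) (h2 : s * s ∈ cen A) (h1 : s ∉ cen A) (hf : f ∈ N) (h4 : f * f ∈ cen A)
    (h3 : f ∉ cen A) : ∃ n ∈ N, f⁻¹ * (n * s * n⁻¹) ∈ cen A := by
  obtain ⟨F, hF⟩ := h.std
  have k : ∀ {s}, s ∈ N → s * s ∈ cen A → s ∉ cen A → ∃ n ∈ N, RN N F (n⁻¹ * s * n) 8580 := by
    intro s hs h2 h1
    obtain ⟨t, ht, h3⟩ := hF.rn_code h.nor hs
    rcases involA ht (rn_uniq (h3.mul h3) (rn_of_cen1 (mul_mem hs hs) h2) (m4_lt F _ _)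
      (by norm_num)) with rfl | ⟨k, hk, h4⟩
    · exact (h1 (rn_cen h3)).elim
    · obtain ⟨n, hn⟩ := hF.rn hk
      obtain ⟨m, hm⟩ := hF.rn (mem_LA (c := 8580) (by simp [LC]))
      exact ⟨n, hn.1, (rn_cj h.nor hn hm h3 h4).2⟩
  obtain ⟨n, hn, h5⟩ := k hs h2 h1
  obtain ⟨m, hm, h6⟩ := k hf h4 h3
  refine ⟨_, mul_mem hm (inv_mem hn), ?_⟩
  have := conj_mem_of_mem_normalizer (h.norC hm) (h5.cen h6)
  convert this using 1; group

theorem simp (hK : K ≤ N) (hn : N ≤ H1.Gold.nor K) : K ≤ cen A ∨ N ≤ K ⊔ (N ⊓ cen A) := by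
  obtain ⟨F, hF⟩ := h.std
  refine or_iff_not_imp_left.2 fun h0 => ?_
  obtain ⟨k, hk, h1⟩ := SetLike.not_le_iff_exists.1 h0
  have hn' : N ≤ H1.Gold.nor (K ⊔ (N ⊓ cen A)) :=
    le_normalizer_sup hn (le_normalizer_inf le_normalizer h.norC)
  have hc : N ⊓ cen A ≤ K ⊔ (N ⊓ cen A) := le_sup_right
  have hk' : k ∈ K ⊔ (N ⊓ cen A) := mem_sup_left hk
  generalize K ⊔ (N ⊓ cen A) = M at hn' hc hk'
  let P : ℕ → Prop := fun c => ∃ n ∈ M, RN N F n c
  have Pm : ∀ a b, P a → P b → P (m4 a b) := fun a b ⟨x, hx, h⟩ ⟨y, hy, h'⟩ =>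
    ⟨_, mul_mem hx hy, h.mul h'⟩
  have Pa : ∀ {n c}, P c → RN N F n c → n ∈ M := fun ⟨m, hm, h1⟩ h2 => by
    simpa using mul_mem hm (hc ⟨N.mul_mem (N.inv_mem h1.1) h2.1, h2.cen h1⟩)
  obtain ⟨c, hc1, hc2⟩ := hF.rn_code h.nor (hK hk)
  obtain ⟨p, hp, h2⟩ := simpA hc1 (by rintro rfl; exact h1 (rn_cen hc2))
  obtain ⟨g, hg⟩ := hF.rn (mem_LA' (c := p.1) (List.mem_append_left _
    (List.mem_append_right _ (List.mem_map_of_mem hp))))
  obtain ⟨a, b, ⟨s, hs, h3⟩, h4, h5⟩ := ev_spec Pm ⟨_, mul_mem hk' (conj_mem_of_mem_normalizer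
    (hn' hg.1) hk'), hc2.mul ((hg.mul hc2).mul (rn_inv hg (invG0 p hp)))⟩ h2
  have Pi : ∀ t ∈ LA, t ≠ 33825 → m4 t t = 33825 → P t := fun t ht t1 t2 => by
    obtain ⟨f, hf⟩ := hF.rn ht
    obtain ⟨n, hn, h6⟩ := h.inv h3.1 (rn_cen (h5 ▸ h3.mul h3)) (fun e => h4 (rn_uniq h3
      (rn_of_cen1 h3.1 e) (m4_lt F _ _) (by norm_num))) hf.1 (rn_cen (t2 ▸ hf.mul hf))
      fun e => t1 (rn_uniq hf (rn_of_cen1 hf.1 e) (lt_of_mem ht) (by norm_num))
    exact ⟨_, conj_mem_of_mem_normalizer (hn' hn) hs,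
      rn_of_cen hf (mul_mem (mul_mem hn h3.1) (inv_mem hn)) h6⟩
  have Px : P 4764 := (by decide +kernel : m4 28538 (m4 62017 47070) = 4764) ▸
    Pm _ _ (Pi _ (mem_LA' (by simp)) (by norm_num) (by decide +kernel))
      (Pm _ _ (Pi _ (mem_LA' (by simp [LD])) (by norm_num) (by decide +kernel))
        (Pi _ (mem_LA' (by simp)) (by norm_num) (by decide +kernel)))
  have Py : P 4713 := (by decide +kernel : m4 38369 7864 = 4713) ▸
    Pm _ _ (Pi _ (mem_LA' (by simp)) (by norm_num) (by decide +kernel))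
      (Pi _ (mem_LA' (by simp)) (by norm_num) (by decide +kernel))
  have P1 : P 33825 := ⟨1, one_mem _, rn_one⟩
  have hall := (bfs_sound (P := P) (fun c => Pm _ c Px) (fun c => Pm _ c Py) bfsA fun c hc =>
    bit_shift hc ▸ P1).1
  intro n hn
  obtain ⟨d, hd, h6⟩ := hF.rn_code h.nor hn
  rcases List.mem_cons.1 hd with rfl | hd
  exacts [Pa P1 h6, Pa (hall d hd).1 h6]

/-- A normal subgroup that acts nontrivially induces `A₇`. -/
theorem normal (hK : K ≤ N) (hn : N ≤ H1.Gold.nor K) (h1 : ¬ K ≤ cen A) : A7 K A :=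
  h.of_le hK (((h.simp hK hn).resolve_left h1).trans (sup_le_sup_left inf_le_right _))

theorem perf : N ≤ ⁅N, N⁆ ⊔ (N ⊓ cen A) := by
  obtain ⟨F, hF⟩ := h.std
  refine (h.simp (commutator_le_of_le le_rfl le_rfl) (le_normalizer_commutator le_normalizer
    le_normalizer)).resolve_left fun e => ?_
  obtain ⟨x, hx⟩ := hF.rn (mem_LA (c := 4764) (by simp))
  obtain ⟨y, hy⟩ := hF.rn (mem_LA (c := 4713) (by simp))
  have := e (commutator_mem_commutator (inv_mem hx.1) (inv_mem hy.1))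
  exact absurd (rn_uniq (hx.mul hy) (rn_of_cen (hy.mul hx) (mul_mem hx.1 hy.1) (by
    convert this using 1; rw [commutatorElement_def]; group)) (m4_lt F _ _) (m4_lt F _ _))
    (by decide +kernel)

protected theorem comm : A7 ⁅N, N⁆ A := h.of_le (commutator_le_of_le le_rfl le_rfl)
  (h.perf.trans (sup_le_sup_left inf_le_right _))

protected theorem res : A7 (H98.res 2 N) A := h.normal (res_le N) (self_le_normalizer_res N) fun e => by
  obtain ⟨k, hk⟩ := exists_relIndex_res_eq_pow (p := 2) N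
  have := relIndex_dvd_of_le_left N e
  rw [h.idx, hk] at this
  have := (Nat.prime_three.dvd_of_dvd_pow (Dvd.dvd.trans (by norm_num) this))
  omega

theorem not_solvable : ¬ Group.IsSolvable N := fun ⟨⟨n, hn⟩⟩ => by
  have k : ∀ n, A7 ((derivedSeries N n).map N.subtype) A := fun n => by
    induction n with
    | zero => rwa [derivedSeries_zero, ← MonoidHom.range_eq_map, range_subtype]
    | succ n ih => rw [derivedSeries_succ, map_commutator]; exact ih.comm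
  exact (k n).not_le (by rw [hn, Subgroup.map_bot]; exact bot_le)

/-- An overgroup of the action is not solvable. -/
theorem ns (hM : M ≤ H1.Gold.nor A) (h1 : N ≤ M ⊔ cen A) : ¬ Group.IsSolvable M := fun k => by
  have h2 : A7 (M ⊓ (N ⊔ cen A)) A := h.congr (fun n hn => by
    obtain ⟨m, hm, c, hc, rfl⟩ := (mem_sup_left_norm (le_normalizer_centralizer hM)).1 (h1 hn)
    exact mul_mem (mem_sup_left ⟨hm, by
      simpa using mul_mem (mem_sup_left hn) (mem_sup_right (S := N) (inv_mem hc))⟩)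
      (mem_sup_right hc)) inf_le_right
  exact h2.not_solvable (Group.isSolvable_of_isSolvable_injective (inclusion_injective inf_le_left))

theorem max (h1 : N ≤ M) (h2 : M ≤ H1.Gold.nor A) : M ≤ N ⊔ cen A ∨ 64 ∣ (cen A).relIndex M :=
  jobA7Max G N M A h.el h.card h1 h2 h.idx

/-- A `2`-group induces a group of order `≤ 8`. -/
theorem two_le (hP : IsPGroup 2 P) (h1 : P ≤ N ⊔ cen A) : (cen A).relIndex P ≤ 8 := by
  have h2 : N ⊔ cen A ≤ H1.Gold.nor A := sup_le h.nor (le_normalizer_of_le_centralizer le_rfl)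
  have h3 : (cen A).relIndex P ∣ 2520 := by
    rw [← h.idx, ← relIndex_sup_cen h.nor, ← H77.Wr.card_autOf h2,
      ← H77.Wr.card_autOf (h1.trans h2)]
    exact card_dvd_of_le fun α ⟨n, hn, e⟩ => ⟨n, h1 hn, e⟩
  obtain ⟨k, hk⟩ := hP.index ((cen A).subgroupOf P)
  rw [relIndex, hk] at h3 ⊢
  by_contra h4
  have : 4 ≤ k := by
    by_contra h5
    interval_cases k <;> omega
  have := (pow_dvd_pow 2 this).trans h3
  omega

theorem job (hc : IsSyl 2 A (M ⊓ cen A)) (hN : N ≤ M) : TRHp N A ∧ MODp N A ∧ ORBp (autOf N A) ∧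
    ∀ α ∈ autOf N A, α ≠ 1 → α * α = 1 → WRp (autOf N A) α :=
  jobA7 G N A h.el h.card h.nor h.aut fun n hn h1 => by
    obtain ⟨h2, h3⟩ := dec_of_central hc fun a ha =>
      mem_cen.2 fun x hx => (mem_cen.1 hx.2 a ha).symm
    obtain ⟨w, hw, o, ho, e⟩ := h3 n ⟨hN hn, h1⟩
    refine ⟨w, hw, ?_⟩
    rw [← mem_cen.1 h1 w hw, e, ← mul_assoc, h.el w hw, one_mul]
    exact odd_of_mem h2 ho

end A7

theorem Sy.sylC (y : Sy S A B) (h : IsSyl 2 S N) : IsSyl 2 A (N ⊓ cen A) := by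
  have := h.inf_centralizer y.SN
  rwa [show S ⊓ centralizer (A : Set G) = A from le_antisymm (fun x hx => y.cen_S hx.1 hx.2)
    (le_inf y.ES y.el.le_cen)] at this

/-- An element of `S` with square in `A` is conjugate into `A B`. -/
theorem A7.sq (h : A7 N A) (y : Sy S A B) (hS : IsSyl 2 S N) (hs : s ∈ S) (h2 : s * s ∈ A) :
    ∃ n ∈ N, n * s * n⁻¹ ∈ A ⊔ B := by
  by_cases h1 : s ∈ cen A
  · exact ⟨1, one_mem _, by simpa using mem_sup_left (y.cen_S hs h1)⟩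
  obtain ⟨f, hf, h3⟩ := y.symm.exists_not
  have fN := hS.le (y.E'S hf)
  obtain ⟨n, hn, h4⟩ := h.inv (hS.le hs) (y.el.le_cen h2) h1 fN (y.el' f hf ▸ one_mem _)
    fun e => h3 (y.cen_S (y.E'S hf) e)
  have xN := mul_mem (mul_mem hn (hS.le hs)) (inv_mem hn)
  have nC : N ≤ H1.Gold.nor (N ⊓ cen A) := le_normalizer_inf le_normalizer h.norC
  have BN := y.E'S.trans hS.le
  have HN : B ⊔ N ⊓ cen A ≤ N := sup_le BN inf_le_left
  have h5 := hS.inf_of_le_normalizer HN (le_normalizer_sup y.SN' (hS.le.trans nC))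
  obtain ⟨k, hk⟩ := isPGroup_iff_forall.1 y.two s hs
  obtain ⟨c, hc, h6⟩ := h5.exists_cj_le (isPGroup_zpowers (x := n * s * n⁻¹) (k := k)
    (by rw [conj_pow, hk]; group)) (zpowers_le.2 (by
      simpa using mul_mem (mem_sup_left hf)
        (mem_sup_right (S := B) (mem_inf.2 ⟨mul_mem (inv_mem fN) xN, h4⟩))))
  obtain ⟨h7, h8⟩ := h6 (conj_mem_cj (mem_zpowers _))
  refine ⟨c * n, mul_mem (HN hc) hn, ?_⟩
  rw [show c * n * s * (c * n)⁻¹ = c * (n * s * n⁻¹) * c⁻¹ by group]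
  obtain ⟨g, hg, e, he, e1⟩ := (mem_sup_left_norm (BN.trans nC)).1 h8
  rw [e1] at h7 ⊢
  exact mul_mem (mem_sup_right hg) (mem_sup_left (y.cen_S
    (by simpa using mul_mem (inv_mem (y.E'S hg)) h7) he.2))

end H42.ML
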