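import Cfsg.Agent.H42.MLJ4

/-! Tower MCLY (`blueprints/MCLY.md`): AB1, AB2, CY, Coc. -/

set_option autoImplicit false
set_option linter.unusedSectionVars false

namespace H42.ML

open Subgroup Cfsg H98 H1.Gold H99.Wr
open H53.Wr (UU th)
open scoped commutatorElement

universe u

variable {G : Type u} [Group G] [Finite G] {t z ρ a b c e f g k l n o v w x y τ σ : G}
  {L S E E' E₁ F₁ Y Y₁ S₁ T P Q A B D K M N W : Subgroup G}

theorem exists_odd (y : G) : ∃ k, Odd (orderOf (y ^ 2 ^ k)) := by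
  obtain ⟨k, m, hm, e⟩ := Nat.exists_eq_two_pow_mul_odd (orderOf_pos y).ne'
  exact ⟨k, Odd.of_dvd_nat hm (orderOf_dvd_of_pow_eq_one (by rw [← pow_mul, ← e, pow_orderOf_eq_one]))⟩

theorem comm_of_pow (h : Odd (orderOf x)) {k : ℕ} (e : x ^ 2 ^ k * a = a * x ^ 2 ^ k) :
    x * a = a * x :=
  mem_cen1.1 (mem_of_pow_mem_of_coprime (mem_cen1.2 e) ((Nat.coprime_two_right.2 h).pow_right k))

theorem pow_act (hc : c ∈ nor A) (h : ∀ a ∈ A, y * a * y⁻¹ = c * a * c⁻¹) (m : ℕ) :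
    ∀ a ∈ A, y ^ m * a * (y ^ m)⁻¹ = c ^ m * a * (c ^ m)⁻¹ := by
  induction m with
  | zero => simp
  | succ m ih =>
    intro a ha
    calc _ = y ^ m * (y * a * y⁻¹) * (y ^ m)⁻¹ := by rw [pow_succ]; group
      _ = _ := by rw [h a ha, ih _ (conj_mem_of_mem_normalizer hc ha), pow_succ]; group

theorem nor_of_act (hc : c ∈ nor A) (h : ∀ a ∈ A, y * a * y⁻¹ = c * a * c⁻¹) : y ∈ nor A :=
  mem_normalizer_of_cj_le (by
    rintro _ ⟨a, ha, rfl⟩
    show y * a * y⁻¹ ∈ A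
    rw [h a ha]; exact conj_mem_of_mem_normalizer hc ha)

theorem cen_sup : c ∈ cen (A ⊔ B) ↔ c ∈ cen A ∧ c ∈ cen B := by
  show c ∈ centralizer _ ↔ _
  rw [centralizer_sup]; rfl

theorem nor_sup (h1 : c ∈ nor A) (h2 : c ∈ nor B) : c ∈ nor (A ⊔ B) :=
  cj_eq_self_iff.1 (by rw [cj_sup, cj_eq_self h1, cj_eq_self h2])

theorem nor_inf (h1 : c ∈ nor A) (h2 : c ∈ nor B) : c ∈ nor (A ⊓ B) :=
  cj_eq_self_iff.1 (by rw [cj_inf, cj_eq_self h1, cj_eq_self h2])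

theorem cen_nor (h : c ∈ cen A) : c ∈ nor A := le_normalizer_of_le_centralizer le_rfl h

namespace S2

variable (s : S2 t L S E E₁)
include s

theorem le_W (h : cj g (WW t E₁) ≤ WW t E₁ ⊔ zpowers t) : g ∈ nor (WW t E₁) :=
  mem_normalizer_of_cj_le fun x hx => by
    by_contra h2
    obtain ⟨a, -, e⟩ := inv_Wt s.w (h hx) h2 (s.elW.cj _ x hx)
    refine s.tnW (g⁻¹ * a) ?_
    have := mem_cj.1 hx
    rw [← e] at this
    convert this using 1; group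

theorem nor_or (hc : c * t = t * c) (hn : c ∈ nor (WW t E₁)) : c ∈ nor E₁ ∨ c * t ∈ nor E₁ := by
  obtain ⟨n, h1, o, ho, rfl | rfl⟩ := s.norF c ⟨mem_cen1.2 hc, hn⟩
  · exact Or.inl (mul_mem (s.norN h1) (s.C_NN (s.O_cen ho.2)).1)
  · refine Or.inr ?_
    rw [mul_assoc _ o, mem_cen1.1 ho.1, ← mul_assoc, mul_assoc n, s.tt, mul_one]
    exact mul_mem (s.norN h1) (s.C_NN (s.O_cen ho.2)).1

end S2

theorem jobAB1 : JobAB1.{u} := by
  intro G _ _ t L S E E' E₁ Y₁ S₁ D h s s4 d e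
  have y := h.sy
  have w' := s4.w.half_wp y.E'S
  have FS : half t S₁ E' ≤ S₁ := inf_le_left
  have nF := s4.w.nor_half y.E'S y.SN'
  have eF := s4.w.el_half' y.E'S y.el'
  generalize half t S₁ E' = F₁ at *
  have elW : El (WW t F₁) := (dbl_of w' eF).elW
  have cW : Nat.card (WW t F₁) = 256 := by rw [w'.card_pair le_rfl le_rfl, w'.card_eq, y.cE']
  have e0 : WW t D = WW t F₁ := (eq_of_le_of_card_ge (fun x hx => by
    by_contra h2
    obtain ⟨a, -, e1⟩ := inv_Wt d.w (e ▸ mem_sup_left hx) h2 (elW x hx)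
    have := h.rank elW (e1 ▸ hx)
    omega) (by rw [cW, d.cW h.symm])).symm
  refine ⟨e0, fun b hb => ?_⟩
  have SX := d.S_N h.symm
  have XN := d.N_le h.symm
  obtain ⟨b', hb', hc⟩ := d.a7.dec (d.cov ⟨hb.1.1, hb.2⟩)
  rw [e0] at SX XN hb'
  have cL := L.mul_mem (L.inv_mem hb'.1) hb.1.1
  have e1 : cj (b'⁻¹ * b) E ≤ L ⊓ nor (WW t F₁) := by
    rw [← cj_cj, cj_eq_self hb.1.2]
    exact cj_le_of_le_of_mem (y.ES.trans SX) (inv_mem hb')
  have nC : S ≤ nor (L ⊓ nor (WW t F₁) ⊓ cen E') := le_normalizer_inf (SX.trans le_normalizer)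
    (y.SN'.trans (normalizer_le_normalizer_centralizer _))
  obtain ⟨k', hk', h1⟩ := ((h.syl'.of_le SX XN).inf_of_le_normalizer
    (sup_le (y.ES.trans SX) inf_le_left) (le_normalizer_sup y.SN nC)).exists_cj_le
    (y.el.cj (b'⁻¹ * b)).two (by
      rintro _ ⟨x, hx, rfl⟩
      have h2 := mul_mem (inv_mem (SX (y.ES hx))) (e1 (conj_mem_cj hx))
      have h3 := mul_mem (conj_mem_of_mem_normalizer'
        (normalizer_le_normalizer_centralizer _ (y.SN' (y.ES hx))) hc) (inv_mem hc)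
      have := mul_mem (mem_sup_left hx) (mem_sup_right (S := E) (mem_inf.2 ⟨h2, by
        convert h3 using 1; group⟩))
      rwa [mul_inv_cancel_left] at this)
  obtain ⟨x, hx, k, hk, rfl⟩ := (mem_sup_left_norm (y.ES.trans nC)).1 hk'
  have h2 : cj (k * (b'⁻¹ * b)) E ≤ S := by
    have := h1.trans inf_le_left
    rwa [← cj_cj, cj_le_iff, cj_eq_self (le_normalizer (inv_mem (y.ES hx))), cj_cj] at this
  have kc := mul_mem hk.2 hc
  have h3 : k * (b'⁻¹ * b) ∈ nor E := cj_eq_self_iff.1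
    ((h.two _ h2 (y.el.cj _) (by rw [card_cj, y.cE])).resolve_right fun e2 =>
      y.ne (cj_inj.1 (e2.trans (cj_eq_self (cen_nor kc)).symm)))
  obtain ⟨e', he', o, ho, oo, e2⟩ := h.symm.decC ⟨mul_mem hk.1.1 cL, kc⟩
  have oE := h.quad oo (((nor E).mul_mem_cancel_left (y.SN (y.E'S he'))).1 (e2 ▸ h3)) ho.2
  have b2X : b * o⁻¹ ∈ L ⊓ nor (WW t F₁) := by
    convert mul_mem (mul_mem hb' (inv_mem hk.1)) (SX (y.E'S he')) using 1
    rw [show e' = k * (b'⁻¹ * b) * o⁻¹ by rw [e2]; group]; group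
  have b2E : b * o⁻¹ ∈ nor E := mul_mem hb.1.2 (inv_mem (cen_nor oE))
  have TW : WW t S₁ ≤ nor (WW t F₁) := s4.w.nor_pair FS FS nF nF
  have WT : WW t E₁ ≤ WW t S₁ := sup_le_sup s4.ES (cj_mono t s4.ES)
  have QW : WW t E₁ ⊔ zpowers t ≤ nor (WW t F₁) :=
    sup_le (WT.trans TW) (zpowers_le.2 (t_mem_nor h.tt _))
  obtain ⟨u, hu, h4⟩ := (s.sylU.of_le (le_inf s.sylU.le QW) inf_le_left).exists_cj_le
    (s.elW.cj (b * o⁻¹)).two (le_inf (cj_le_of_le (le_sup_left.trans s.sylU.le)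
      (nor_UU (h.cL b2X.1) b2E)) (cj_le_of_le_of_mem (WT.trans TW) b2X.2))
  obtain ⟨q, hq, c, hc', rfl⟩ := decU y.el s.sylU hu.1
  obtain ⟨f, hf, o', ho', oo', rfl⟩ := h.decF hc'
  have fQ := mul_mem hq (sup_le_sup_right s.EW _ hf)
  rw [← mul_assoc] at hu h4
  have oW := ((nor _).mul_mem_cancel_left (QW fQ)).1 hu.2
  have ot := mem_cen1.1 ho'.1
  have oE' := h.symm.quad oo' (nor_diag w' ot oW) ho'.2
  rw [← cj_cj, cj_le_iff, cj_eq_self (le_normalizer (inv_mem fQ)), cj_cj] at h4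
  have ct : Commute (o' * (b * o⁻¹)) t := Commute.mul_left ot (h.cL b2X.1)
  have cJ : b⁻¹ * (o' * (b * o⁻¹)) ∈ cen (E ⊔ E') := by
    convert mul_mem (conj_mem_of_mem_normalizer' (normalizer_le_normalizer_centralizer _
      (nor_sup hb.1.2 hb.2)) (cen_sup.2 ⟨ho'.2, oE'⟩)) (inv_mem (cen_sup.2 ⟨oE, ho.2⟩)) using 1
    group
  have fin : ∀ c, c * t = t * c → c ∈ nor E₁ → c ∈ nor (WW t F₁) → c ∈ cen1 t ⊓ nor E₁ ⊓ nor F₁ :=
    fun c h1 h2 h3 => ⟨⟨mem_cen1.2 h1, h2⟩, mem_normalizer_of_cj_le (by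
      rintro _ ⟨a, ha, rfl⟩
      have h5 := conj_mem_of_mem_normalizer h3 (mem_sup_left ha)
      have h6 := s4.pur c ⟨h2, mem_nor_cj h1 h2⟩ a (FS ha) (sup_le_sup FS (cj_mono t FS) h5)
      exact ((s4.w.pair_mem FS FS h6 (one_mem _)).1 (by simpa using h5)).1)⟩
  rcases s.nor_or ct (s.le_W h4) with e3 | e3
  · exact ⟨_, fin _ ct e3 (mul_mem oW b2X.2), cJ⟩
  · exact ⟨_, fin _ (ct.mul_left (Commute.refl t)) e3 (mul_mem (mul_mem oW b2X.2)
      (t_mem_nor h.tt _)), mul_assoc b⁻¹ _ t ▸ mul_mem cJ (cen_sup.2 ⟨h.tE, h.symm.tE⟩)⟩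

theorem jobAB2 : JobAB2.{u} := by
  intro G _ _ t L S E E' E₁ F₁ D h en d w SF e bb
  have elW := d.elW
  have FW : F₁ ≤ WW t D := e ▸ le_sup_left
  have DW : D ≤ WW t D := le_sup_left
  have sec : ∀ {A : Subgroup G}, Wp t A E' → ∃ σ : G → G, (∀ r ∈ E', σ r ∈ A) ∧
      (∀ r ∈ E', dg t (σ r) = r) ∧ (∀ a ∈ A, σ (dg t a) = a) ∧
      (∀ r ∈ E', ∀ s ∈ E', σ (r * s) = σ r * σ s) ∧ ∀ c ∈ nor A, c * t = t * c → ∀ r ∈ E',
        σ (c * r * c⁻¹) = c * σ r * c⁻¹ := fun w => by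
    choose! σ h1 h2 using fun r => (w.diag r).1
    have h3 : ∀ a ∈ _, σ (dg t a) = a := fun a ha =>
      w.dg_inj (h1 _ (w.dg_mem ha)) ha (h2 _ (w.dg_mem ha))
    exact ⟨σ, h1, h2, h3, fun r hr s hs => by
      rw [← h3 _ (mul_mem (h1 r hr) (h1 s hs)), w.dg_mul (h1 r hr) (h1 s hs), h2 r hr, h2 s hs],
      fun c hc ct r hr => by
        rw [← h3 _ (conj_mem_of_mem_normalizer hc (h1 r hr)), dg_conj ct, h2 r hr]⟩
  obtain ⟨σ, a1, a2, a3, a4, a5⟩ := sec w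
  obtain ⟨τ, b1, b2, -, b4, b5⟩ := sec d.w
  have m : ∀ r ∈ E', σ r * τ r ∈ E' := fun r hr => H53.Wr.mem_of_dg_eq_one h.tt d.dbl
    (mul_mem (FW (a1 r hr)) (DW (b1 r hr))) (by
      rw [dg_mul (elW.comm (DW (b1 r hr)) (conj_mem_of_mem_normalizer d.tW (FW (a1 r hr)))),
        a2 r hr, b2 r hr, h.sy.el' r hr])
  have tτ : ∀ r ∈ E', t * τ r * t⁻¹ = τ r * r := fun r hr => by
    have := congrArg (τ r * ·) (b2 r hr)
    simpa only [dg, ttc (elW _ (DW (b1 r hr)))] using this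
  have key : ∀ b ∈ L ⊓ nor E' ⊓ nor E, (∀ r ∈ E', σ (b * r * b⁻¹) * τ (b * r * b⁻¹) =
      b * (σ r * τ r) * b⁻¹) ∨ ∀ r ∈ E', σ (b * r * b⁻¹) * τ (b * r * b⁻¹) =
      b * (σ r * τ r * r) * b⁻¹ := fun b hb => by
    obtain ⟨c, hc, e1⟩ := bb b ⟨⟨hb.1.1, hb.2⟩, hb.1.2⟩
    have ct := mem_cen1.1 hc.1.1
    have ac := fun {r} (hr : r ∈ E') => act_eq (cen_sup.1 e1).2 hr
    refine (d.nor_or ct (e ▸ nor_WW ct hc.2)).imp (fun k r hr => ?_) fun k r hr => ?_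
    · rw [← ac hr, ← ac (m r hr), a5 c hc.2 ct r hr, b5 c k ct r hr]; group
    · have := b5 _ k (by rw [mul_assoc, ← mul_assoc t, ← ct, mul_assoc]) r hr
      rw [show c * t * r * (c * t)⁻¹ = c * (t * r * t⁻¹) * c⁻¹ by group,
        cj_of_comm (h.cL (h.symm.EL hr)).symm] at this
      rw [← ac hr, ← ac (mul_mem (m r hr) hr), a5 c hc.2 ct r hr, this, mul_assoc (σ r), ← tτ r hr]
      group
  let B : Subgroup G :=
    { carrier := {b | b ∈ nor E' ∧ ∀ r ∈ E', σ (b * r * b⁻¹) * τ (b * r * b⁻¹) =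
        b * (σ r * τ r) * b⁻¹}
      one_mem' := ⟨one_mem _, by simp⟩
      mul_mem' := fun {x y} hx hy => ⟨mul_mem hx.1 hy.1, fun r hr => by
        rw [show x * y * r * (x * y)⁻¹ = x * (y * r * y⁻¹) * x⁻¹ by group,
          hx.2 _ (conj_mem_of_mem_normalizer hy.1 hr), hy.2 r hr]; group⟩
      inv_mem' := fun {x} hx => ⟨inv_mem hx.1, fun r hr => by
        have := hx.2 _ (conj_mem_of_mem_normalizer (inv_mem hx.1) hr)
        rw [show x * (x⁻¹ * r * x⁻¹⁻¹) * x⁻¹ = r by group] at this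
        rw [this]; group⟩ }
  have hB : L ⊓ nor E' ⊓ nor E ≤ B := by
    refine (h.syl'.of_le (le_inf h.syl'.le h.sy.SN) inf_le_left).sup_res.ge.trans (sup_le
      (fun x hx => ⟨h.sy.SN' hx, fun r hr => ?_⟩) (res_le_of_forall_pow fun x hx => ⟨1, ?_⟩))
    · rw [a5 x (SF hx) (h.cL (h.SL hx)) r hr, b5 x (d.SN hx) (h.cL (h.SL hx)) r hr]; group
    rw [pow_one, pow_two]
    rcases key x hx with k | k
    · exact B.mul_mem ⟨hx.1.2, k⟩ ⟨hx.1.2, k⟩
    refine ⟨mul_mem hx.1.2 hx.1.2, fun r hr => ?_⟩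
    rw [show x * x * r * (x * x)⁻¹ = x * (x * r * x⁻¹) * x⁻¹ by group,
      k _ (conj_mem_of_mem_normalizer hx.1.2 hr), k r hr]
    calc _ = x * x * (σ r * τ r * (r * r)) * (x * x)⁻¹ := by group
      _ = _ := by rw [h.sy.el' r hr, mul_one]
  have cF : Nat.card D ≤ Nat.card F₁ := (d.w.card_eq.trans w.card_eq.symm).le
  refine (en (fun r => σ r * τ r) m (fun r hr s hs => ?_) fun b hb => (hB hb).2).imp
    (fun k => eq_of_le_of_card_ge (fun a ha => ?_) cF)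
    fun k => eq_of_le_of_card_ge (fun a ha => ?_) (by rwa [card_cj])
  · simp only [a4 r hr s hs, b4 r hr s hs]
    rw [mul_assoc, ← mul_assoc (σ s), elW.comm (FW (a1 s hs)) (DW (b1 r hr))]; group
  · have := k _ (w.dg_mem ha)
    simp only [a3 a ha] at this
    exact eq_inv_of_mul_eq_one_left this ▸ inv_mem (b1 _ (w.dg_mem ha))
  · have h1 := w.dg_mem ha
    have := k _ h1
    simp only [a3 a ha] at this
    have e1 : a = t * τ (dg t a) * t⁻¹ := by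
      rw [tτ _ h1, elW.comm (DW (b1 _ h1)) (d.EW h1)]
      have e2 := congrArg (· * τ (dg t a)) this
      simpa only [mul_assoc a, elW _ (DW (b1 _ h1)), mul_one] using e2
    exact e1 ▸ conj_mem_cj (b1 _ h1)

theorem half_eq (w : Wp t S₁ S) (w' : Wp t A B) (h1 : A ≤ S₁) (h2 : B ≤ S) : half t S₁ B = A := by
  ext x
  rw [w.mem_half h2]
  refine ⟨fun ⟨h3, h4⟩ => ?_, fun hx => ⟨h1 hx, w'.dg_mem hx⟩⟩
  obtain ⟨y, hy, e⟩ := (w'.diag _).1 h4
  exact w.dg_inj (h1 hy) h3 e ▸ hy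

theorem jobCY : JobCY.{u} := by
  intro G _ _ t L S E E' E₁ Y₁ S₁ D h s s4 d e bb
  have y := h.sy
  have w := s4.w
  have hE := half_eq w s.w s4.ES y.ES
  have y1 : Sy S₁ E₁ (half t S₁ E') := hE ▸ w.sy s4.syl.isPGroup y
  have eX : L ⊓ nor (WW t D) = L ⊓ nor D := le_antisymm (le_inf inf_le_left d.norN)
    fun x hx => ⟨hx.1, nor_WW (h.cL hx.1) hx.2⟩
  refine ⟨h, w, y1, s.w, w.half_wp y.E'S, fun K hK he hc => ?_, s4.syl, s4.cenS, s4.a7, s4.resY, ?_,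
    ?_, s.cenW⟩
  · obtain ⟨R, hR, rfl, h2⟩ := w.exists_diag hK
    rw [(w.half_wp hR).card_eq] at hc
    rcases h.two R hR (fun s hs => by
      obtain ⟨a, ha, rfl⟩ := (h2 s).1 hs
      rw [← w.dg_mul (hK ha) (hK ha), he a ha, dg_one]) hc with rfl | rfl
    exacts [Or.inl hE, Or.inr rfl]
  · have := eX ▸ d.a7'
    rcases e with e | e <;> rw [e]
    · exact this
    · have := this.cj t
      rwa [cj_inf, cj_eq_self (cen_nor h.tL), cj_normalizer] at this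
  · obtain ⟨ρ, hρ, o, f⟩ := h.rho
    obtain ⟨c, hc, e1⟩ := bb ρ hρ
    have nJ := nor_sup hc.1.2 hc.2
    obtain ⟨x, hx, e2⟩ := s4.mv c hc.1 _ y1.J_le nJ
    obtain ⟨k, hk⟩ := exists_odd x
    refine ⟨_, pow_mem (mem_inf.2 ⟨hx, nor_of_act hc.2 fun a ha => e2 a (mem_sup_right ha)⟩) _, hk,
      fun j hj e3 => w.dg_inj (y1.J_le hj) (one_mem _) ?_⟩
    have h1 : dg t j ∈ E ⊔ E' := ((w.mem_half y.J_le).1 (by rwa [w.half_sup y.ES y.E'S, hE])).2
    rw [dg_one]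
    refine f _ h1 (comm_of_pow o (k := k) (comm_of_cj ?_))
    rw [← pow_act (nor_sup hρ.1.2 hρ.2) (fun a ha => act_eq e1 ha) _ _ h1,
      ← dg_conj ((show Commute c t from mem_cen1.1 hc.1.1).pow_left _), ← pow_act nJ e2 _ _ hj,
      cj_of_comm e3]

theorem jobCoc : JobCoc.{u} := by
  intro G _ _ N R D A c ρ el AD An NA ND RN od h1 h2 hρ h3 h4
  classical
  have ex : ∀ n ∈ N, ∃ a ∈ A, a⁻¹ * ⁅n, c⁆ ∈ D := fun n hn => by
    obtain ⟨a, ha, d, hd, e⟩ := (mem_sup_left_norm An).1 (h1 n hn)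
    exact ⟨a, ha, by rwa [e, inv_mul_cancel_left]⟩
  choose! δ d1 d2 using ex
  have uq : ∀ n ∈ N, ∀ a ∈ A, a⁻¹ * ⁅n, c⁆ ∈ D → δ n = a := fun n hn a ha e => by
    have : a⁻¹ * δ n ∈ A ⊓ D := mem_inf.2 ⟨mul_mem (inv_mem ha) (d1 n hn), by
      convert mul_mem e (inv_mem (d2 n hn)) using 1; group⟩
    rw [AD, mem_bot, inv_mul_eq_one] at this
    exact this.symm
  have co : ∀ n ∈ N, ∀ m ∈ N, δ (n * m) = n * δ m * n⁻¹ * δ n := fun n hn m hm =>
    uq _ (mul_mem hn hm) _ (mul_mem (conj_mem_of_mem_normalizer (NA hn) (d1 m hm)) (d1 n hn)) (by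
      convert mul_mem (conj_mem_of_mem_normalizer' (An (d1 n hn))
        (conj_mem_of_mem_normalizer (ND hn) (d2 m hm))) (d2 n hn) using 1
      simp only [commutatorElement_def]; group)
  letI : CommGroup A := { (inferInstance : Group A) with
    mul_comm := fun a b => Subtype.ext (el.comm a.2 b.2) }
  letI : Fintype (N ⧸ R.subgroupOf N) := Fintype.ofFinite _
  let s : N → A := fun n => ⟨δ n, d1 n n.2⟩
  have sR : ∀ (x : N) (b : R.subgroupOf N), s (x * b) = s x := fun x b => Subtype.ext (by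
    show δ ((x : G) * b) = δ x
    rw [co _ x.2 _ b.1.2, uq _ b.1.2 1 (one_mem _) (by simpa using h2 _ b.2)]; simp)
  let cA : N → A →* A := fun x =>
    { toFun := fun w => ⟨x * w * (x : G)⁻¹, conj_mem_of_mem_normalizer (NA x.2) w.2⟩
      map_one' := Subtype.ext (by simp)
      map_mul' := fun a b => Subtype.ext (by
        show (x : G) * (a * b) * (x : G)⁻¹ = x * a * (x : G)⁻¹ * (x * b * (x : G)⁻¹)
        group) }
  have key : ∀ y : N, ∏ q : N ⧸ R.subgroupOf N, s q.out =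
      cA y (∏ q : N ⧸ R.subgroupOf N, s q.out) * s y := fun y => by
    have e : s y = ∏ _q : N ⧸ R.subgroupOf N, s y := by
      rw [Finset.prod_const, Finset.card_univ, ← Nat.card_eq_fintype_card]
      exact Subtype.ext (H53.Wr.pow_odd_of_sq (el _ (d1 _ y.2)) od).symm
    rw [e, map_prod, ← Finset.prod_mul_distrib]
    refine (Equiv.prod_comp (MulAction.toPerm y) _).symm.trans (Finset.prod_congr rfl fun q _ => ?_)
    obtain ⟨b, hb⟩ := QuotientGroup.mk_out_eq_mul (R.subgroupOf N) (y * q.out)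
    have h2 : (MulAction.toPerm y q) = QuotientGroup.mk (y * q.out) :=
      (MulAction.Quotient.mk_smul_out (R.subgroupOf N) y q).symm
    rw [h2, hb, sR]
    exact Subtype.ext (co _ y.2 _ q.out.2)
  generalize ∏ q : N ⧸ R.subgroupOf N, s q.out = a at key
  have a1 : a = 1 := Subtype.ext (h4 _ a.2 (comm_of_cj (by
    have : (a : G) = ρ * a * ρ⁻¹ * δ ρ := congrArg Subtype.val (key ⟨ρ, hρ⟩)
    rw [uq ρ hρ 1 (one_mem _) (by simpa using h3), mul_one] at this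
    exact this.symm)))
  intro n hn
  have := key ⟨n, hn⟩
  rw [a1, map_one, one_mul] at this
  have e : δ n = 1 := (congrArg Subtype.val this).symm
  simpa [e] using d2 n hn

end H42.ML
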