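import Cfsg.Agent.H42.SolBase
import Cfsg.Prelude.Def_Spor_Conway
import Cfsg.Prelude.Def_Spor_Ly

/-! Tower MCLY (`blueprints/MCLY.md`): `2`-components of type `McL` or `Ly` and their models. -/

set_option autoImplicit false
set_option linter.unusedSectionVars false

namespace H42.ML

export H98 (cj cj_inv_cj cj_cj_inv cj_one cj_res)

open Cfsg Subgroup H14 H98 H1.Gold H42.An
open H31.S2 (oc)
open scoped commutatorElement

universe u

variable {G : Type u} [Group G] [Finite G] {A D J K : Subgroup G} {a b g s t x y : G}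

/-- `K / O(K)` is `McL` or `Ly`. -/
def TyM (K : Subgroup G) : Prop :=
  Spor.IsoMcL (K ⧸ pPrimeCore 2 K) ∨ Spor.IsoLy (K ⧸ pPrimeCore 2 K)

/-- `K` is a `2`-component of `C(t)` of type `McL` or `Ly`. -/
structure MC (t : G) (K : Subgroup G) : Prop where
  ot : orderOf t = 2
  pc : PC 2 K (cen1 t)
  ty : TyM K

/-- `O^{2'}(C_K(s))` -/
abbrev JJ (K : Subgroup G) (s : G) : Subgroup G := pec 2 (K ⊓ cen1 s)

theorem TyM.congr {H : Type*} [Group H] {J : Subgroup H} (h : TyM K)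
    (e : K ⧸ pPrimeCore 2 K ≃* J ⧸ pPrimeCore 2 J) :
    Spor.IsoMcL (J ⧸ pPrimeCore 2 J) ∨ Spor.IsoLy (J ⧸ pPrimeCore 2 J) :=
  h.imp (fun ⟨f⟩ => ⟨e.symm.trans f⟩) fun ⟨f⟩ => ⟨e.symm.trans f⟩

theorem TyM.cover (h : K ≤ J) (h' : J ≤ K ⊔ opp 2 J) : TyM K ↔ TyM J :=
  let ⟨e⟩ := cover_equiv h h'
  ⟨fun k => k.congr e, fun k => k.congr e.symm⟩

theorem JJ_le : JJ K s ≤ K := (pec_le _).trans inf_le_left

theorem JJ_le_cen : JJ K s ≤ cen1 s := (pec_le _).trans inf_le_right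

theorem mem_JJ (hx : x ∈ K) (hc : Commute x s) (h2 : Two x) : x ∈ JJ K s :=
  let ⟨_, e⟩ := h2; mem_pec ⟨hx, mem_cen1.2 hc⟩ e

namespace MC

theorem tt (h : MC t K) : t * t = 1 := mul_self_of_two h.ot

theorem t1 (h : MC t K) : t ≠ 1 := ne_one_of_two h.ot

theorem comm (h : MC t K) (ha : a ∈ K) : Commute a t := mem_cen1.1 (h.pc.le ha)

theorem le_NN (h : MC t K) : K ≤ NN t K := le_inf h.pc.le le_normalizer

theorem QQ_le (h : MC t K) : QQ t K ≤ NN t K := le_inf (cpc_le t K) (cpc_le_nor h.pc)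

theorem oc_le (h : MC t K) : oc t ≤ NN t K := (oc_le_cpc h.pc).trans h.QQ_le

theorem tQQ (h : MC t K) : t ∈ QQ t K := self_mem_cpc h.pc.le

theorem tNN (h : MC t K) : t ∈ NN t K := h.QQ_le h.tQQ

protected theorem cj (h : MC t K) (g : G) : MC (g * t * g⁻¹) (cj g K) :=
  ⟨by rw [orderOf_conj', h.ot], cj_cen1 g t ▸ h.pc.cj g,
    h.ty.congr (quotOppCongr 2 (equivMapOfInjective K _ (MulAut.conj g).injective))⟩

theorem cj' (h : MC t K) (hg : Commute g t) : MC t (cj g K) := by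
  have := h.cj g
  rwa [hg.eq, mul_inv_cancel_right] at this

theorem nor_QQ (h : MC t K) (hg : g ∈ NN t K) : g ∈ nor (QQ t K) := by
  rw [← cj_eq_self_iff, cj_cpc g h.pc.le, cj_eq_self hg.2, mem_cen1.1 hg.1, mul_inv_cancel_right]

/-- The `2`-component of `C(t) ∩ C(b)` that covers `K / O(K)`. -/
theorem pc0 (h : MC t K) (hb : b * b = 1) (hq : b ∈ QQ t K) :
    PC 2 (JJ K b) (cen1 t ⊓ cen1 b) ∧ K ≤ JJ K b ⊔ opp 2 K ∧ TyM (JJ K b) := by
  have := h.pc.pc_centralizer (two_of_sq hb).isPGroup (zpowers_le.2 (cpc_le t K hq))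
    ((commutator_mono le_rfl (zpowers_le.2 hq)).trans (commutator_cpc_le h.pc.le))
  rw [centralizer_zpowers] at this
  exact ⟨this.1, this.2, (TyM.cover JJ_le this.2).2 h.ty⟩

end MC

/-- The model `X = N_{C(t)}(K) / O(C(t))`. -/
structure Mo (t : G) (K : Subgroup G) where
  X : Type u
  [grp : Group X]
  [fin : Finite X]
  π : G → X
  L : Subgroup X
  mc : MC t K
  nL : L.Normal
  iso : Spor.IsoMcL L ∨ Spor.IsoLy L
  mul : ∀ {a b}, a ∈ NN t K → b ∈ NN t K → π (a * b) = π a * π b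
  ker : ∀ {a}, a ∈ NN t K → (π a = 1 ↔ a ∈ oc t)
  sur : ∀ x, ∃ a ∈ NN t K, π a = x
  memL : ∀ {a}, a ∈ NN t K → (π a ∈ L ↔ a ∈ K ⊔ oc t)

attribute [instance] Mo.grp Mo.fin

theorem MC.mo (h : MC t K) : Nonempty (Mo t K) := by
  classical
  let O := (oc t).subgroupOf (NN t K)
  have : O.Normal := normal_subgroupOf_of_le_normalizer NN_le_nor_oc
  let φ := QuotientGroup.mk' O
  have hk : (Nat.card (φ.ker ⊓ K.subgroupOf (NN t K) : Subgroup _)).Coprime 2 :=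
    cop (odd_of_le inf_le_left (by
      rw [QuotientGroup.ker_mk', card_subgroupOf_of_le h.oc_le]; exact odd_opp _))
  let L := (K.subgroupOf (NN t K)).map φ
  have hL : opp 2 L = ⊥ := by
    rw [← map_opp_of_coprime_ker φ _ hk, eq_bot_iff]
    rintro _ ⟨a, ha, rfl⟩
    exact (QuotientGroup.eq_one_iff a).2 (h.pc.opp_le ((map_opp_subgroupOf h.le_NN).le ⟨a, ha, rfl⟩))
  let e : K ⧸ pPrimeCore 2 K ≃* L :=
    ((quotOppCongr 2 (subgroupOfEquivOfLe h.le_NN).symm).trans (quotOppMapEquiv φ _ hk)).trans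
      ((QuotientGroup.quotientMulEquivOfEq (opp_eq_bot_iff.1 hL)).trans QuotientGroup.quotientBot)
  let π : G → NN t K ⧸ O := fun a => if ha : a ∈ NN t K then φ ⟨a, ha⟩ else 1
  have hπ : ∀ {a} (ha : a ∈ NN t K), π a = φ ⟨a, ha⟩ := fun ha => dif_pos ha
  have ker : ∀ {a}, a ∈ NN t K → (π a = 1 ↔ a ∈ oc t) := fun ha => by
    rw [hπ ha]; exact QuotientGroup.eq_one_iff _
  have : (K.subgroupOf (NN t K)).Normal := normal_subgroupOf_of_le_normalizer inf_le_right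
  refine ⟨⟨_, π, L, h, Normal.map inferInstance φ (QuotientGroup.mk'_surjective O),
    h.ty.imp (fun ⟨f⟩ => ⟨e.symm.trans f⟩) fun ⟨f⟩ => ⟨e.symm.trans f⟩,
    fun ha hb => by rw [hπ ha, hπ hb, hπ (mul_mem ha hb), ← map_mul]; rfl,
    ker, fun x => ?_, fun {a} ha => ?_⟩⟩
  · obtain ⟨a, rfl⟩ := QuotientGroup.mk'_surjective O x
    exact ⟨a, a.2, hπ a.2⟩
  · rw [hπ ha, ← mem_comap, comap_map_eq, QuotientGroup.ker_mk', ← subgroupOf_sup h.le_NN h.oc_le]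
    rfl

namespace Mo

variable (M : Mo t K)

/-- `π` as a homomorphism. -/
def φ : NN t K →* M.X := MonoidHom.mk' (fun a => M.π a) fun a b => M.mul a.2 b.2

theorem φ_sur : Function.Surjective M.φ := fun x =>
  let ⟨a, ha, e⟩ := M.sur x; ⟨⟨a, ha⟩, e⟩

theorem φ_ker : M.φ.ker = (oc t).subgroupOf (NN t K) := by
  ext a; exact M.ker a.2

theorem one : M.π 1 = 1 := M.φ.map_one

theorem inv (ha : a ∈ NN t K) : M.π a⁻¹ = (M.π a)⁻¹ := M.φ.map_inv ⟨a, ha⟩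

theorem pow (ha : a ∈ NN t K) (m : ℕ) : M.π (a ^ m) = M.π a ^ m := M.φ.map_pow ⟨a, ha⟩ m

theorem conj (ha : a ∈ NN t K) (hb : b ∈ NN t K) :
    M.π (a * b * a⁻¹) = M.π a * M.π b * (M.π a)⁻¹ := by
  rw [M.mul (mul_mem ha hb) (inv_mem ha), M.mul ha hb, M.inv ha]

theorem eq_iff (ha : a ∈ NN t K) (hb : b ∈ NN t K) : M.π a = M.π b ↔ a⁻¹ * b ∈ oc t := by
  rw [← M.ker (mul_mem (inv_mem ha) hb), M.mul (inv_mem ha) hb, M.inv ha, inv_mul_eq_one]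

theorem comm_iff (ha : a ∈ NN t K) (hb : b ∈ NN t K) :
    Commute (M.π a) (M.π b) ↔ ⁅a, b⁆ ∈ oc t := by
  rw [commutatorElement_def, ← M.ker (mul_mem (mul_mem (mul_mem ha hb) (inv_mem ha)) (inv_mem hb)),
    M.mul (mul_mem (mul_mem ha hb) (inv_mem ha)) (inv_mem hb), M.conj ha hb, M.inv hb,
    ← commutatorElement_def, commutatorElement_eq_one_iff_commute]

theorem commute (ha : a ∈ NN t K) (hb : b ∈ NN t K) (h : Commute a b) :
    Commute (M.π a) (M.π b) :=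
  (M.comm_iff ha hb).2 (by rw [commutatorElement_eq_one_iff_commute.2 h]; exact one_mem _)

theorem memK (ha : a ∈ K) : M.π a ∈ M.L := (M.memL (M.mc.le_NN ha)).2 (mem_sup_left ha)

theorem surK {x : M.X} (hx : x ∈ M.L) : ∃ a ∈ K, M.π a = x := by
  obtain ⟨a, ha, rfl⟩ := M.sur x
  obtain ⟨k, hk, d, hd, rfl⟩ := (mem_sup_left_norm (M.mc.le_NN.trans NN_le_nor_oc)).1
    ((M.memL ha).1 hx)
  exact ⟨k, hk, by rw [M.mul (M.mc.le_NN hk) (M.mc.oc_le hd), (M.ker (M.mc.oc_le hd)).2 hd, mul_one]⟩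

/-- The `2`-elements over `L` lie in `K`. -/
theorem mem_of_two (ha : a ∈ NN t K) (h2 : Two a) (h : M.π a ∈ M.L) : a ∈ K :=
  pc_two M.mc.pc ha.1 h2 ((M.memL ha).1 h)

theorem two (ha : a ∈ NN t K) (h : Two a) : Two (M.π a) :=
  h.imp fun k hk => by rw [← M.pow ha, hk, M.one]

theorem sq (ha : a ∈ NN t K) (h : a * a = 1) : M.π a * M.π a = 1 := by rw [← M.mul ha ha, h, M.one]

theorem eq_one (ha : a ∈ NN t K) (h2 : Two a) (h : M.π a = 1) : a = 1 :=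
  eq_one_of_two h2 (odd_of_mem (odd_opp _) ((M.ker ha).1 h))

/-- `π` is injective on `2`-subgroups. -/
theorem inj (hA : IsPGroup 2 A) (h : A ≤ NN t K) (ha : a ∈ A) (hb : b ∈ A) (e : M.π a = M.π b) :
    a = b := eq_of_mod (odd_opp _) hA ha hb ((M.eq_iff (h ha) (h hb)).1 e)

theorem inj' (ha : a ∈ NN t K) (hb : b ∈ NN t K) (h1 : Two a) (h2 : Two b) (hc : Commute a b)
    (e : M.π a = M.π b) : a = b := eq_of_mod' (odd_opp _) h1 h2 hc ((M.eq_iff ha hb).1 e)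

/-- The elements whose image is conjugated by `x` into the image of `A`. -/
def st (A : Subgroup G) (x : M.X) : Subgroup G where
  carrier := {a | a ∈ NN t K ∧ ∃ a' ∈ A ⊓ NN t K, x * M.π a * x⁻¹ = M.π a'}
  one_mem' := ⟨one_mem _, 1, one_mem _, by rw [M.one]; group⟩
  mul_mem' := fun ⟨h1, a, h2, h3⟩ ⟨k1, b, k2, k3⟩ => ⟨mul_mem h1 k1, a * b, mul_mem h2 k2, by
    rw [M.mul h1 k1, M.mul h2.2 k2.2, ← h3, ← k3]; group⟩
  inv_mem' := fun ⟨h1, a, h2, h3⟩ => ⟨inv_mem h1, a⁻¹, inv_mem h2, by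
    rw [M.inv h1, M.inv h2.2, ← h3]; group⟩

theorem mem_st {x : M.X} (ha : a ∈ NN t K) (hb : b ∈ A) (hb' : b ∈ NN t K)
    (e : x * M.π a * x⁻¹ = M.π b) : a ∈ M.st A x := ⟨ha, b, ⟨hb, hb'⟩, e⟩

theorem mem_st' {x : M.X} (ha : a ∈ NN t K) (hb : a ∈ A) (e : Commute (M.π a) x) : a ∈ M.st A x :=
  M.mem_st ha hb ha (by rw [← e.eq, mul_inv_cancel_right])

/-- Lifting the normaliser of a `2`-subgroup; the lift acts exactly as `x`. -/
theorem lift_nor (hA : IsPGroup 2 A) {x : M.X} (h : A ≤ M.st A x) :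
    ∃ y ∈ NN t K, M.π y = x ∧ y ∈ nor A ∧ (x ∈ M.L → y ∈ K) ∧ (Two x → Two y) ∧
      ∀ a ∈ A, ∀ b ∈ A, x * M.π a * x⁻¹ = M.π b → y * a * y⁻¹ = b := by
  have hN : A ≤ NN t K := fun _ ha => (h ha).1
  suffices ∃ y ∈ NN t K, M.π y = x ∧ y ∈ nor A ∧ (x ∈ M.L → y ∈ K) by
    obtain ⟨y, h1, rfl, h2, h3⟩ := this
    have k : ∀ {y}, y ∈ NN t K → y ∈ nor A → ∀ a ∈ A, ∀ b ∈ A,
        M.π y * M.π a * (M.π y)⁻¹ = M.π b → y * a * y⁻¹ = b := fun h1 h2 a ha b hb e =>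
      M.inj hA hN (conj_mem_of_mem_normalizer h2 ha) hb (by rwa [M.conj h1 (hN ha)])
    by_cases h4 : Two (M.π y)
    · obtain ⟨j, hj⟩ := h4
      obtain ⟨m, h5, h6⟩ := exists_two_pow (N := oc t) (k := j)
        ((M.ker (pow_mem h1 _)).1 (by rw [M.pow h1, hj]))
      have e := ((M.eq_iff h1 (pow_mem h1 m)).2 h6).symm
      exact ⟨y ^ m, pow_mem h1 m, e, pow_mem h2 m, fun k => pow_mem (h3 k) m, fun _ => h5,
        e ▸ k (pow_mem h1 m) (pow_mem h2 m)⟩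
    · exact ⟨y, h1, rfl, h2, h3, fun k => absurd k h4, k h1 h2⟩
  have k : ∀ {y}, y ∈ NN t K → M.π y = x → ∀ a ∈ A, ∃ b ∈ A, (y * a * y⁻¹)⁻¹ * b ∈ oc t :=
    fun {y} h1 e a ha => by
      obtain ⟨-, b, hb, e1⟩ := h ha
      exact ⟨b, hb.1, (M.eq_iff (mul_mem (mul_mem h1 (hN ha)) (inv_mem h1)) hb.2).1
        (by rw [M.conj h1 (hN ha), e, e1])⟩
  by_cases hx : x ∈ M.L
  · obtain ⟨y, hy, e⟩ := M.surK hx
    have h1 := M.mc.le_NN hy
    have n1 : NN t K ≤ nor (oc t ⊓ K) := le_normalizer_inf NN_le_nor_oc inf_le_right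
    obtain ⟨w, h2, h3⟩ := H42.An.lift_nor (N := oc t ⊓ K) (odd_of_le inf_le_left (odd_opp _)) hA
      (hN.trans n1) (n1 h1) fun a ha => by
        obtain ⟨b, hb, e1⟩ := k h1 e a ha
        have c1 : (y * a * y⁻¹)⁻¹ * a ∈ K := by
          have := mul_mem hy (conj_mem_of_mem_normalizer' (hN ha).2 (inv_mem hy))
          rwa [show y * (a⁻¹ * y⁻¹ * a) = (y * a * y⁻¹)⁻¹ * a by group] at this
        have c2 : a⁻¹ * b ∈ K := pc_two M.mc.pc (hN (mul_mem (inv_mem ha) hb)).1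
          (two_of_mem hA (mul_mem (inv_mem ha) hb)) (by
            have := mul_mem (mem_sup_left (inv_mem c1)) (mem_sup_right (S := K) e1)
            rwa [show ((y * a * y⁻¹)⁻¹ * a)⁻¹ * ((y * a * y⁻¹)⁻¹ * b) = a⁻¹ * b by group] at this)
        exact ⟨b, hb, e1, by simpa [mul_assoc] using mul_mem c1 c2⟩
    have h4 : w ∈ K := by simpa using mul_mem hy h3.2
    exact ⟨w, M.mc.le_NN h4, e ▸ ((M.eq_iff h1 (M.mc.le_NN h4)).2 h3.1).symm, h2, fun _ => h4⟩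
  · obtain ⟨y, h1, e⟩ := M.sur x
    obtain ⟨w, h2, h3⟩ := H42.An.lift_nor (odd_opp _) hA (hN.trans NN_le_nor_oc) (NN_le_nor_oc h1)
      (k h1 e)
    have h4 : w ∈ NN t K := by simpa using mul_mem h1 (M.mc.oc_le h3)
    exact ⟨w, h4, e ▸ ((M.eq_iff h1 h4).2 h3).symm, h2, fun k => absurd k hx⟩

/-- Lifting the centraliser of a `2`-subgroup. -/
theorem lift_cen (hA : IsPGroup 2 A) (hN : A ≤ NN t K) {x : M.X}
    (h : ∀ a ∈ A, Commute (M.π a) x) :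
    ∃ y ∈ NN t K, M.π y = x ∧ y ∈ cen A ∧ (x ∈ M.L → y ∈ K) ∧ (Two x → Two y) := by
  obtain ⟨y, h1, h2, -, h3, h4, h5⟩ := M.lift_nor hA fun a ha => M.mem_st' (hN ha) ha (h a ha)
  exact ⟨y, h1, h2, fun a ha => (mul_inv_eq_iff_eq_mul.1
    (h5 a ha a ha (by rw [← (h a ha).eq, mul_inv_cancel_right]))).symm, h3, h4⟩

/-- Lifting an element that commutes with two commuting `2`-elements. -/
theorem lift2 (ha : a ∈ NN t K) (hb : b ∈ NN t K) (h1 : Two a) (h2 : Two b) (hc : Commute a b)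
    {x : M.X} (ca : Commute (M.π a) x) (cb : Commute (M.π b) x) :
    ∃ y ∈ NN t K, M.π y = x ∧ Commute y a ∧ Commute y b ∧ (x ∈ M.L → y ∈ K) ∧ (Two x → Two y) := by
  have hA : IsPGroup 2 (zpowers a ⊔ zpowers b : Subgroup G) :=
    H14.isPGroup_sup_of_le_normalizer h1.isPGroup h2.isPGroup (le_normalizer_of_le_centralizer
      (by rw [centralizer_zpowers, zpowers_le]; exact mem_cen1.2 hc))
  have m1 : a ∈ zpowers a ⊔ zpowers b := mem_sup_left (mem_zpowers a)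
  have m2 : b ∈ zpowers a ⊔ zpowers b := mem_sup_right (mem_zpowers b)
  have hN := sup_le (zpowers_le.2 ha) (zpowers_le.2 hb)
  have hle : zpowers a ⊔ zpowers b ≤ ((cen1 x).comap M.φ).map (NN t K).subtype :=
    sup_le (zpowers_le.2 ⟨⟨a, ha⟩, mem_cen1.2 ca, rfl⟩) (zpowers_le.2 ⟨⟨b, hb⟩, mem_cen1.2 cb, rfl⟩)
  obtain ⟨y, k1, k2, k3, k4⟩ := M.lift_cen hA hN (x := x) fun c hc => by
    obtain ⟨d, hd, rfl⟩ := hle hc
    exact mem_cen1.1 hd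
  exact ⟨y, k1, k2, (k3 a m1).symm, (k3 b m2).symm, k4⟩

theorem lift1 (ha : a ∈ NN t K) (h1 : Two a) {x : M.X} (ca : Commute (M.π a) x) :
    ∃ y ∈ NN t K, M.π y = x ∧ Commute y a ∧ (x ∈ M.L → y ∈ K) ∧ (Two x → Two y) :=
  let ⟨y, k1, k2, k3, _, k4⟩ := M.lift2 ha ha h1 h1 (Commute.refl a) ca ca
  ⟨y, k1, k2, k3, k4⟩

theorem cen_iff (ha : a ∈ NN t K) : M.π a ∈ cen M.L ↔ a ∈ QQ t K := by
  rw [mem_cpc M.mc.pc.le]
  refine ⟨fun h => ⟨ha.1, fun k hk => (M.comm_iff (M.mc.le_NN hk) ha).1 (h _ (M.memK hk))⟩,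
    fun h x hx => ?_⟩
  obtain ⟨k, hk, rfl⟩ := M.surK hx
  exact (M.comm_iff (M.mc.le_NN hk) ha).2 (h.2 k hk)

/-- The image of a subgroup of `NN t K`. -/
def im (A : Subgroup G) : Subgroup M.X := (A.subgroupOf (NN t K)).map M.φ

theorem mem_im {x : M.X} : x ∈ M.im A ↔ ∃ a ∈ A ⊓ NN t K, M.π a = x :=
  ⟨fun ⟨a, ha, e⟩ => ⟨a, ⟨ha, a.2⟩, e⟩, fun ⟨a, ha, e⟩ => ⟨⟨a, ha.2⟩, ha.1, e⟩⟩

theorem sup_iff (ha : a ∈ NN t K) : M.π a ∈ M.L ⊔ cen M.L ↔ a ∈ K ⊔ QQ t K := by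
  have n1 : M.L ≤ nor (cen M.L) := le_normalizer_centralizer le_normalizer
  have n2 : K ≤ nor (QQ t K) := fun k hk => M.mc.nor_QQ (M.mc.le_NN hk)
  rw [mem_sup_left_norm n1, mem_sup_left_norm n2]
  constructor
  · rintro ⟨l, hl, c, hc, e⟩
    obtain ⟨k, hk, rfl⟩ := M.surK hl
    have h1 := M.mc.le_NN hk
    refine ⟨k, hk, k⁻¹ * a, (M.cen_iff (mul_mem (inv_mem h1) ha)).1 ?_, by group⟩
    rwa [M.mul (inv_mem h1) ha, M.inv h1, e, inv_mul_cancel_left]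
  · rintro ⟨k, hk, q, hq, rfl⟩
    exact ⟨_, M.memK hk, _, (M.cen_iff (M.mc.QQ_le hq)).2 hq,
      M.mul (M.mc.le_NN hk) (M.mc.QQ_le hq)⟩

end Mo

end H42.ML
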