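import Cfsg.Agent.H42.MLAB
import Cfsg.Agent.H99.WrOB

/-! Tower MCLY (`blueprints/MCLY.md`): CZ, CW, OA1, OA2, OB. -/

set_option autoImplicit false
set_option linter.unusedSectionVars false

namespace H42.ML

open Subgroup Cfsg H98 H1.Gold H99.Wr
open H53.Wr (UU th)
open scoped commutatorElement

universe u

variable {G : Type u} [Group G] [Finite G] {t z ρ a b c e f g k l n o v w x y τ σ : G}
  {L S E E' E₁ F₁ Y Y₁ S₁ T P Q A B D K M N W : Subgroup G}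

theorem blk_of (h1 : cj n A = A ∨ cj n A = B) (h2 : cj n B = A ∨ cj n B = B) (hne : A ≠ B) :
    Blk n A B := by
  rcases h1 with e | e <;> rcases h2 with e' | e'
  exacts [(hne (cj_inj.1 (e.trans e'.symm))).elim, Or.inl ⟨e, e'⟩, Or.inr ⟨e, e'⟩,
    (hne (cj_inj.1 (e.trans e'.symm))).elim]

theorem Sy.commJ (h : Sy S E E') (hx : x ∈ E ⊔ E') (hy : y ∈ E ⊔ E') : ⁅x, y⁆ ∈ E ⊓ E' := by
  have n1 := h.ES.trans h.nor_Z
  have n2 := h.E'S.trans h.nor_Z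
  have k : ∀ {A : Subgroup G}, El A → ⁅A, A⁆ ≤ E ⊓ E' := fun k => by
    rw [H1.commutator_eq_bot_iff_le_centralizer'.2 k.le_cen]; exact bot_le
  have c : ⁅E, E'⁆ ≤ E ⊓ E' := le_inf (commutator_le_left' (h.E'S.trans h.SN))
    (commutator_le_right' (h.ES.trans h.SN'))
  exact commutator_sup_left_le n1 n2 (commutator_sup_right_le n1 n2 (k h.el) c)
    (commutator_sup_right_le n1 n2 ((commutator_comm _ _).le.trans c) (k h.el'))
    (commutator_mem_commutator hx hy)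

theorem Sy.surjE (h : Sy S E E') (hx : x ∈ E ⊔ E') (h1 : x ∉ E) (hz : z ∈ E ⊓ E') :
    ∃ a ∈ E, ⁅x, a⁆ = z := by
  have nx := h.SN (h.J_le hx)
  let φ : E →* ↥(E ⊓ E') :=
    { toFun := fun a => ⟨⁅x, (a : G)⁆, Sy.commJ h hx (mem_sup_left a.2)⟩
      map_one' := Subtype.ext (by simp)
      map_mul' := fun a b => Subtype.ext (by
        have c := h.el.comm (mul_mem (conj_mem_of_mem_normalizer nx b.2) (inv_mem b.2)) (inv_mem a.2)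
        show ⁅x, (a : G) * b⁆ = ⁅x, (a : G)⁆ * ⁅x, (b : G)⁆
        simp only [commutatorElement_def]
        calc _ = x * a * x⁻¹ * (x * b * x⁻¹ * (b : G)⁻¹ * (a : G)⁻¹) := by group
          _ = _ := by rw [c]; group) }
  have h2 : φ.ker ≤ (E ⊓ E').subgroupOf E := fun a ha => by
    obtain ⟨e, he, f, hf, rfl⟩ := h.mem_J.1 hx
    have c : Commute (e * f) a := commutatorElement_eq_one_iff_mul_comm.1 (congrArg Subtype.val ha)
    have c1 : Commute e⁻¹ a := h.el.comm (inv_mem he) a.2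
    have c2 : Commute f a := by simpa using c1.mul_left c
    exact mem_subgroupOf.2 ⟨a.2, (h.nc a a.2 f hf c2.symm).resolve_right fun k => h1 (mul_mem he k)⟩
  have h3 := φ.ker.card_mul_index
  have h4 := card_le_of_le h2
  have h5 := card_le_card_group φ.range
  rw [Nat.card_congr (subgroupOfEquivOfLe inf_le_left).toEquiv, h.cZ] at h4
  rw [index_ker, h.cE] at h3
  obtain ⟨a, ha⟩ := (eq_top_of_card_eq φ.range (by rw [h.cZ] at h5 ⊢; nlinarith)).ge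
    (mem_top ⟨z, hz⟩)
  exact ⟨a, a.2, congrArg Subtype.val ha⟩

theorem Sy.surjJ (h : Sy S E E') (hx : x ∈ E ⊔ E') (h1 : x ∉ E ⊓ E') (hz : z ∈ E ⊓ E') :
    ∃ a ∈ E ⊔ E', ⁅x, a⁆ = z := by
  by_cases h2 : x ∈ E
  · obtain ⟨a, ha, e⟩ := Sy.surjE h.symm (sup_comm E E' ▸ hx) (fun k => h1 ⟨h2, k⟩) ⟨hz.2, hz.1⟩
    exact ⟨a, mem_sup_right ha, e⟩
  · obtain ⟨a, ha, e⟩ := Sy.surjE h hx h2 hz
    exact ⟨a, mem_sup_left ha, e⟩

namespace Cy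

variable (h : Cy t L S E E' E₁ F₁ Y₁ S₁)
include h

theorem conj_pair {y' : G} (hy : y ∈ Y₁) (hy' : y' ∈ Y₁) (ha : a ∈ S₁) (hb : y' * b * y'⁻¹ ∈ S₁) :
    y * (t * y' * t⁻¹) * (a * (t * b * t⁻¹)) * (y * (t * y' * t⁻¹))⁻¹ =
      y * a * y⁻¹ * (t * (y' * b * y'⁻¹) * t⁻¹) := by
  have c1 := mem_cen.1 (h.cenS₂ (conj_mem_cj (g := t) hy')) a ha
  have c2 := mem_cen.1 (h.cenS (inv_mem hy)) _ (conj_mem_cj (g := t) hb)
  calc _ = y * (t * y' * t⁻¹ * a) * (t * (b * y'⁻¹) * t⁻¹) * y⁻¹ := by group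
    _ = y * a * (t * (y' * b * y'⁻¹) * t⁻¹ * y⁻¹) := by rw [← c1]; group
    _ = _ := by rw [c2]; group

theorem conj_L (hl : l ∈ L) (a b : G) :
    l * (a * (t * b * t⁻¹)) * l⁻¹ = l * a * l⁻¹ * (t * (l * b * l⁻¹) * t⁻¹) := by
  calc _ = l * a * l⁻¹ * (l * t * b * (l * t)⁻¹) := by group
    _ = _ := by rw [h.cL hl]; group

theorem inv_F (ha : a ∈ S₁) (h2 : a * a = 1) (h1 : a ≠ 1) : ∃ y ∈ Y₁, y * a * y⁻¹ ∈ F₁ := by
  obtain ⟨y, hy, e | e⟩ := h.invJ ha h2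
  · obtain ⟨z, hz, h3⟩ := (bot_or_exists_ne_one (E₁ ⊓ F₁)).resolve_left fun e => by
      simpa [e] using h.sy₁.cZ
    obtain ⟨y', hy', e'⟩ := h.tr₁ e hz.1 (by simpa using h1) h3
    exact ⟨y' * y, mul_mem hy' hy, by
      rw [show y' * y * a * (y' * y)⁻¹ = y' * (y * a * y⁻¹) * y'⁻¹ by group, e']; exact hz.2⟩
  · exact ⟨y, hy, e⟩

theorem tnT0 (g : G) : g * t * g⁻¹ ∉ WW t S₁ := fun hg => by
  have w := h.w
  have s := h.sy₁
  have key : ∀ a ∈ S₁, a * a = 1 → ∃ K ≤ S₁, El K ∧ a ∈ K ∧ 8 ≤ Nat.card K := by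
    intro a ha h2
    by_cases h3 : a ∈ E₁
    · exact ⟨E₁, s.ES, s.el, h3, by rw [s.cE]; omega⟩
    have h4 := card_le_sq s.el (s.SN ha) h2
    have h5 := H67.Wr.two_card_le (le_sup_left : E₁ ⊓ cen1 a ≤ E₁ ⊓ cen1 a ⊔ zpowers a)
      (mem_sup_right (mem_zpowers a)) fun e => h3 e.1
    refine ⟨E₁ ⊓ cen1 a ⊔ zpowers a, sup_le (inf_le_left.trans s.ES) (zpowers_le.2 ha),
      (s.el.mono inf_le_left).sup (el_zpowers h2) ?_, mem_sup_right (mem_zpowers a), ?_⟩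
    · rintro x hx _ ⟨k, rfl⟩
      exact (show Commute x a from mem_cen1.1 hx.2).zpow_right k
    · rw [s.cE] at h4; nlinarith
  obtain ⟨a, ha, b, hb, e⟩ := w.mem_T.1 hg
  obtain ⟨h2, h3⟩ := w.sq_pair ha hb (e ▸ sq_conj h.tt g)
  obtain ⟨K, hK, eK, aK, cK⟩ := key a ha h2
  obtain ⟨M, hM, eM, bM, cM⟩ := key b hb h3
  have h4 := h.rank (w.el_pair hK hM eK eM) (g := g) (e ▸ (w.pair_mem hK hM ha hb).2 ⟨aK, bM⟩)
  rw [w.card_pair hK hM] at h4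
  nlinarith

theorem adj (hx : x ∈ nor (WW t S₁ ⊔ zpowers t)) : ∃ a ∈ S₁, a⁻¹ * x * t = t * (a⁻¹ * x) := by
  obtain ⟨a, ha, e⟩ := h.inv_T1 (conj_mem_of_mem_normalizer hx (mem_sup_right (mem_zpowers t)))
    (h.tnT0 x) (sq_conj h.tt x)
  refine ⟨a, ha, comm_of_cj ?_⟩
  calc a⁻¹ * x * t * (a⁻¹ * x)⁻¹ = a⁻¹ * (x * t * x⁻¹) * a := by group
    _ = t := by rw [← e]; group

theorem sylW0 : IsSyl 2 (WW t S₁ ⊔ zpowers t) (nor (WW t E₁)) := by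
  refine isSyl_of_isSyl_normalizer ⟨le_inf h.T1_W le_normalizer, h.two_T1, fun Q hQ h2 h3 =>
    le_antisymm (fun x hx => ?_) h2⟩
  obtain ⟨a, ha, e⟩ := h.adj (h3 hx).2
  have aT : a ∈ WW t S₁ ⊔ zpowers t := mem_sup_left (mem_sup_left ha)
  have yQ : a⁻¹ * x ∈ Q := mul_mem (inv_mem (h2 aT)) hx
  have ST : S ⊔ zpowers t ≤ WW t S₁ ⊔ zpowers t := sup_le_sup_right h.w.B_le _
  exact (mul_mem_cancel_left (inv_mem aT)).1 (ST ((h.sylF.eq_of_le (hQ.to_le inf_le_left)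
    (le_inf (ST.trans h2) h.sylF.le) inf_le_right).le ⟨yQ, mem_cen1.2 e, nor_diag h.wE e (h3 yQ).1⟩))

theorem Y_W : Y₁ ≤ nor (WW t E₁) :=
  le_normalizer_sup h.norE (le_normalizer_of_le_centralizer (h.cenS.trans (centralizer_anti h.sy₂.ES)))

theorem Z_cenJ : WW t (E₁ ⊓ F₁) ≤ cen (WW t (E₁ ⊔ F₁)) := by
  have k : E₁ ⊓ F₁ ≤ cen (WW t (E₁ ⊔ F₁)) := fun x hx => cen_WW.2 ⟨h.sy₁.Z_cen hx,
    centralizer_anti (cj_mono t h.sy₁.J_le) (h.w.le_cen₁ (h.sy₁.ES hx.1))⟩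
  exact sup_le k (cj_le_of_le k (normalizer_le_normalizer_centralizer _ (t_mem_nor h.tt _)))

theorem zJ0 (hn : n ∈ nor (WW t (E₁ ⊔ F₁))) :
    cj n (E₁ ⊓ F₁) = E₁ ⊓ F₁ ∨ cj n (E₁ ⊓ F₁) = cj t (E₁ ⊓ F₁) := by
  have s := h.sy₁
  obtain ⟨x, hx, h1⟩ := s.exists_not
  have hJ : x ∈ E₁ ⊔ F₁ := mem_sup_left hx
  obtain ⟨a, ha, b, hb, e⟩ := (h.w.mem_pair s.J_le s.J_le).1
    (conj_mem_of_mem_normalizer hn (mem_sup_left hJ))
  have k : ∀ j ∈ WW t (E₁ ⊔ F₁), ⁅a * (t * b * t⁻¹), j⁆ ∈ cj n (E₁ ⊓ F₁) := fun j hj => by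
    obtain ⟨c, hc, d, hd, e1⟩ := (h.w.mem_pair s.J_le s.J_le).1 (conj_mem_of_mem_normalizer' hn hj)
    have := conj_mem_cj (g := n) (Sy.commJ s hJ hc)
    convert this using 1
    have c1 := cj_of_comm (h.w.c' (s.ES (inv_mem hx)) (s.J_le hd)).symm
    rw [← e, show j = n * (c * (t * d * t⁻¹)) * n⁻¹ by rw [← e1]; group]
    simp only [commutatorElement_def]
    calc _ = n * (x * c * (t * d * t⁻¹ * x⁻¹ * (t * d * t⁻¹)⁻¹) * c⁻¹) * n⁻¹ := by group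
      _ = _ := by rw [c1]
  by_cases h2 : a ∈ E₁ ⊓ F₁
  · by_cases h3 : b ∈ E₁ ⊓ F₁
    · have := conj_mem_of_mem_normalizer' (normalizer_le_normalizer_centralizer _ hn)
        (e ▸ h.Z_cenJ (mul_mem (mem_sup_left h2) (mem_sup_right (conj_mem_cj h3))))
      exact (h1 (s.symm.cen_S (s.ES hx) (cen_sup.1 (cen_WW.1 (by simpa [mul_assoc] using this)).1).2)).elim
    refine Or.inr (eq_of_le_of_card_ge ?_ (by rw [card_cj, card_cj])).symm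
    rintro _ ⟨ζ, hζ, rfl⟩
    obtain ⟨j, hj, rfl⟩ := Sy.surjJ s hb h3 hζ
    convert k _ (mem_sup_right (conj_mem_cj hj)) using 1
    have c1 := cj_of_comm (h.w.c' (s.J_le ha) (s.J_le (mul_mem (mul_mem hb hj) (inv_mem hb))))
    simp only [commutatorElement_def, MulEquiv.coe_toMonoidHom, MulAut.conj_apply]
    calc _ = t * (b * j * b⁻¹) * t⁻¹ * (t * j * t⁻¹)⁻¹ := by group
      _ = _ := by rw [← c1]; group
  refine Or.inl (eq_of_le_of_card_ge (fun ζ hζ => ?_) (by rw [card_cj])).symm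
  obtain ⟨j, hj, rfl⟩ := Sy.surjJ s ha h2 hζ
  convert k _ (mem_sup_left hj) using 1
  have c1 := cj_of_comm (h.w.c' (s.J_le hj) (s.J_le hb)).symm
  simp only [commutatorElement_def]
  calc _ = a * (t * b * t⁻¹ * j * (t * b * t⁻¹)⁻¹) * a⁻¹ * j⁻¹ := by rw [c1]
    _ = _ := by group

/-- the block structure of the action on `Fam` -/
theorem blk0 (hn : ∀ A, Fam t E₁ F₁ A → Fam t E₁ F₁ (cj n A)) :
    (Blk n E₁ F₁ ∧ Blk n (cj t E₁) (cj t F₁)) ∨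
      (Blk (n * t) E₁ F₁ ∧ Blk (n * t) (cj t E₁) (cj t F₁)) := by
  have s1 := h.sy₁
  have s2 := h.sy₂
  have c1 : ∀ {A B : Subgroup G}, A ≤ S₁ → B ≤ cj t S₁ → A ≤ cen B ∧ B ≤ cen A := fun hA hB =>
    ⟨hA.trans (h.w.le_cen₁.trans (centralizer_anti hB)),
      hB.trans (h.w.le_cen₂.trans (centralizer_anti hA))⟩
  have pair : ∀ A B : Subgroup G, Fam t E₁ F₁ A → Fam t E₁ F₁ B → ¬ A ≤ cen B →
      (A = E₁ ∧ B = F₁ ∨ A = F₁ ∧ B = E₁) ∨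
        (A = cj t E₁ ∧ B = cj t F₁ ∨ A = cj t F₁ ∧ B = cj t E₁) := by
    rintro A B (rfl | rfl | rfl | rfl) (rfl | rfl | rfl | rfl) hc <;>
      first
      | exact (hc s1.el.le_cen).elim | exact (hc s1.el'.le_cen).elim
      | exact (hc s2.el.le_cen).elim | exact (hc s2.el'.le_cen).elim
      | exact (hc (c1 s1.ES s2.ES).1).elim | exact (hc (c1 s1.ES s2.ES).2).elim
      | exact (hc (c1 s1.ES s2.E'S).1).elim | exact (hc (c1 s1.ES s2.E'S).2).elim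
      | exact (hc (c1 s1.E'S s2.ES).1).elim | exact (hc (c1 s1.E'S s2.ES).2).elim
      | exact (hc (c1 s1.E'S s2.E'S).1).elim | exact (hc (c1 s1.E'S s2.E'S).2).elim
      | simp
  have p1 := pair _ _ (hn _ (Or.inl rfl)) (hn _ (Or.inr (Or.inl rfl))) (s1.cj n).not_cen
  have p2 := pair _ _ (hn _ (Or.inr (Or.inr (Or.inl rfl)))) (hn _ (Or.inr (Or.inr (Or.inr rfl))))
    (s2.cj n).not_cen
  have nc : cj n E₁ ⊔ cj n F₁ ≠ cj n (cj t E₁) ⊔ cj n (cj t F₁) := fun e => by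
    rw [← cj_sup, ← cj_sup, cj_inj] at e
    exact h.not_le₁₂ s1.ES (le_sup_left.trans (e.le.trans s2.J_le)) s1.cE
  have tt := cj_tt h.tt
  rcases p1 with p1 | p1 <;> rcases p2 with p2 | p2
  · exact (nc (by rcases p1 with ⟨a, b⟩ | ⟨a, b⟩ <;> rcases p2 with ⟨c, d⟩ | ⟨c, d⟩ <;>
      rw [a, b, c, d] <;> exact sup_comm _ _)).elim
  · exact Or.inl ⟨p1, p2⟩
  · refine Or.inr ⟨?_, ?_⟩
    · simpa only [Blk, ← cj_cj] using p2
    · simpa only [Blk, ← cj_cj, tt] using p1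
  · exact (nc (by rcases p1 with ⟨a, b⟩ | ⟨a, b⟩ <;> rcases p2 with ⟨c, d⟩ | ⟨c, d⟩ <;>
      rw [a, b, c, d] <;> exact sup_comm _ _)).elim

end Cy

theorem jobCZ : JobCZ.{u} := by
  intro G _ _ t L S E E' E₁ F₁ Y₁ S₁ h
  have s := h.sy₁
  obtain ⟨z, ⟨hz, zS⟩, z1⟩ := (bot_or_exists_ne_one _).resolve_left
    (inf_centralizer_ne_bot (s.el.mono inf_le_left).two s.two s.nor_Z fun e => by
      simpa [e] using s.cZ)
  have hz : z ∈ E₁ ⊓ F₁ := hz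
  have zz := s.el z hz.1
  refine ⟨z, h, hz, z1, fun x hx => mem_cen1.2 (mem_cen.1 zS x hx), fun a ha => ?_,
    fun a ha h2 h1 => ?_, fun a ha b hb a2 b2 a1 b1 => ?_, h.tnT0, h.sylW0⟩
  · by_contra h1
    have h2 := H67.Wr.two_card_le (A := zpowers z) (B := E₁ ⊓ F₁ ⊓ cen S₁) (zpowers_le.2 ⟨hz, zS⟩)
      (x := a) ⟨⟨s.cen_S ha.1 (centralizer_anti s.ES ha.2),
        s.symm.cen_S ha.1 (centralizer_anti s.E'S ha.2)⟩, ha.2⟩ fun e => h1 ((mem_zpowers_sq zz).1 e)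
    rw [Nat.card_zpowers, H14.orderOf_two_of_mul_self zz z1] at h2
    have h3 := eq_of_le_of_card_ge (inf_le_left : E₁ ⊓ F₁ ⊓ cen S₁ ≤ _) (by rw [s.cZ]; exact h2)
    obtain ⟨x, hx, -, h4⟩ := s.inv
    exact h4 (s.cenZ ⟨hx, mem_cen.2 fun y hy => (mem_cen.1 (h3.ge hy).2 x hx).symm⟩)
  · obtain ⟨y, hy, e⟩ := h.inv_F ha h2 h1
    obtain ⟨x, hx, e1⟩ := h.trX e hz.2 (by simpa using h1) z1
    exact ⟨x * y, mul_mem (h.L_G hx.1) (h.Y_G hy), by rw [← e1]; group⟩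
  obtain ⟨y, hy, e⟩ := h.inv_F ha a2 a1
  obtain ⟨y', hy', e'⟩ := h.inv_F hb b2 b1
  have e1 := h.conj_pair hy hy' ha (s.E'S e')
  have m := mul_mem (h.Y_G hy) (conj_G0 t (h.Y_G hy'))
  have a1' : y * a * y⁻¹ ≠ 1 := by simpa using a1
  have b1' : y' * b * y'⁻¹ ≠ 1 := by simpa using b1
  generalize y * a * y⁻¹ = a' at e e1 a1'
  generalize y' * b * y'⁻¹ = b' at e' e1 b1'
  have k : ∀ x y w : G, x * y * w * (x * y)⁻¹ = x * (y * w * y⁻¹) * x⁻¹ := fun x y w => by group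
  by_cases ab : a' = b'
  · obtain ⟨x, hx, e2⟩ := h.trX e hz.2 a1' z1
    exact ⟨_, mul_mem (h.L_G hx.1) m, by rw [k, e1, h.conj_L hx.1, ← ab, e2, dg]⟩
  obtain ⟨z', hz', h1⟩ := SetLike.not_le_iff_exists.1 fun e : E₁ ⊓ F₁ ≤ zpowers z => by
    have := card_le_of_le e
    rw [Nat.card_zpowers, H14.orderOf_two_of_mul_self zz z1, s.cZ] at this
    omega
  rw [mem_zpowers_sq zz, not_or] at h1
  obtain ⟨x, hx, e2, e3⟩ := h.a7X.tr2 e e' hz.2 hz'.2 a1' b1' ab z1 h1.1 (Ne.symm h1.2)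
  obtain ⟨v, hv, e4⟩ := h.tr₁ hz'.1 hz.1 h1.1 z1
  refine ⟨_, mul_mem (mul_mem (one_mem _) (conj_G0 t (h.Y_G hv))) (mul_mem (h.L_G hx.1) m), ?_⟩
  rw [k, k x, e1, h.conj_L hx.1, e2, e3, h.conj_pair (one_mem _) hv (s.ES hz.1) (e4 ▸ s.ES hz.1), e4]
  simp [dg]

theorem jobCW : JobCW.{u} := by
  intro G _ _ t z L S E E' E₁ F₁ Y₁ S₁ h
  have s := h.sy₁
  have le : E₁ ⊓ F₁ ≤ S₁ := inf_le_left.trans s.ES
  have zJ : ∀ n ∈ nor (WW t (E₁ ⊔ F₁)), Blk n (E₁ ⊓ F₁) (cj t (E₁ ⊓ F₁)) := fun n hn =>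
    blk_of (h.zJ0 hn) (cj_cj n t _ ▸ h.zJ0 (mul_mem hn (t_mem_nor h.tt _))) fun e =>
      h.z1 (h.one₁₂ h.zS₁ (cj_mono t le (e ▸ h.zZ)))
  have fus : ∀ M T : Subgroup G, IsSyl 2 T M → WW t S₁ ≤ T → BigE t S₁ T →
      ∀ a ∈ WW t (E₁ ⊓ F₁), ∀ g ∈ M, g * a * g⁻¹ ∈ WW t (E₁ ⊓ F₁) →
        ∃ n ∈ M ⊓ nor (WW t (E₁ ⊔ F₁)), n * a * n⁻¹ = g * a * g⁻¹ := by
    intro M T hT h1 hb a ha g hg hga
    have JM := (h.J_le.trans h1).trans hT.le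
    have J2 := (h.w.two s.two).to_le h.J_le
    obtain ⟨Q, hQ, h2⟩ := exists_isSyl_le (H := M ⊓ cen1 (g * a * g⁻¹)) J2
      (le_inf JM fun x hx => mem_cen1.2 (mem_cen.1 (h.Z_cenJ hga) x hx))
    obtain ⟨c, hc, h3⟩ := hQ.exists_cj_le (isPGroup_cj g J2) (le_inf (cj_le_of_le_of_mem JM hg) (by
      rw [← cj_cen1]
      exact cj_mono g fun x hx => mem_cen1.2 (mem_cen.1 (h.Z_cenJ ha) x hx)))
    obtain ⟨k, -, h4⟩ := hT.exists_cj_le hQ.isPGroup (hQ.le.trans inf_le_left)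
    have n1 := h.wcJ hb ((cj_mono k h2).trans h4)
    have n2 := h.wcJ hb (n := k * (c * g)) (by rw [← cj_cj, ← cj_cj]; exact (cj_mono k h3).trans h4)
    refine ⟨c * g, ⟨mul_mem hc.1 hg, ((nor _).mul_mem_cancel_left n1).1 n2⟩, ?_⟩
    rw [← cj_of_comm (mem_cen1.1 hc.2)]; group
  have pure : ∀ g ∈ nor (WW t E₁), g * z * g⁻¹ ≠ dg t z := fun g hg e => by
    obtain ⟨n, hn, e1⟩ := fus _ _ h.sylW le_sup_left h.big1 z (mem_sup_left h.zZ) g hg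
      (e ▸ mul_mem (mem_sup_left h.zZ) (mem_sup_right (conj_mem_cj h.zZ)))
    rcases (zJ n hn.2).mem h.zZ with k | k <;> rw [e1, e] at k
    · have := h.one₁₂ (by simpa [dg] using mul_mem (inv_mem h.zS₁) (le k)) (conj_mem_cj h.zS₁)
      exact h.z1 (by simpa using this)
    · have := mul_mem (cj_mono t le k) (inv_mem (conj_mem_cj (g := t) h.zS₁))
      rw [dg, mul_inv_cancel_right] at this
      exact h.z1 (h.one₁₂ h.zS₁ this)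
  have key : ∀ n ∈ nor (WW t E₁), cj n E₁ = E₁ ∨ cj n E₁ = cj t E₁ := fun n hn => by
    refine (le_or_le ?_).imp (fun e => eq_of_le_of_card_ge e (by rw [card_cj]))
      fun e => eq_of_le_of_card_ge e (by rw [card_cj, card_cj])
    rintro _ ⟨x, hx, rfl⟩
    show n * x * n⁻¹ ∈ _ ∨ n * x * n⁻¹ ∈ _
    obtain ⟨a, ha, b, hb, e⟩ := h.wE.mem_T.1 (conj_mem_of_mem_normalizer hn (mem_sup_left hx))
    by_cases a1 : a = 1
    · exact Or.inr (by rw [e, a1, one_mul]; exact conj_mem_cj hb)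
    by_cases b1 : b = 1
    · exact Or.inl (by simpa [e, b1] using ha)
    obtain ⟨y₁, h1, e1⟩ := h.tr₁ ha h.zZ.1 a1 h.z1
    obtain ⟨y₂, h2, e2⟩ := h.tr₁ hb h.zZ.1 b1 h.z1
    obtain ⟨y, hy, e3⟩ := h.tr₁ h.zZ.1 hx h.z1 (by
      rintro rfl
      exact a1 (h.wE.uniq ha hb (one_mem _) (one_mem _) (by simpa using e.symm)).1)
    refine (pure _ (mul_mem (mul_mem (h.Y_W h1) (conj_mem_of_mem_normalizer
      (le_normalizer (t_mem_nor h.tt E₁)) (h.Y_W h2))) (mul_mem hn (h.Y_W hy))) ?_).elim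
    have := h.conj_pair h1 h2 (s.ES ha) (e2 ▸ h.zS₁)
    rw [e1, e2, ← e, ← e3] at this
    rw [dg, ← this]; group
  exact ⟨h, zJ, fus, fun n hn => blk_of (key n hn) (cj_cj n t _ ▸ key _ (mul_mem hn (t_mem_nor h.tt _)))
    fun e => h.t_not_E (cj_eq_self_iff.1 e.symm)⟩

theorem jobOA1 : JobOA1.{u} := by
  intro G _ _ t z L S E E' E₁ F₁ Y₁ S₁ h n hn
  have s1 := h.sy₁
  have s2 := h.sy₂
  have w := h.w
  have img := fun {K M : Subgroup G} (hK : K = E₁ ∨ K = F₁) (hM : M = E₁ ∨ M = F₁) =>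
    h.cj_pair hK hM ((cj_le_of_le (h.pair_le hK hM) hn).trans h.J_le)
  have bl : ∀ m ∈ nor (cj n (E₁ ⊔ cj t E₁)), Blk m (cj n E₁) (cj n (cj t E₁)) := fun m hm => by
    have h1 := h.blkW _ (mem_cj.1 ((cj_normalizer n _).ge hm))
    have k : ∀ A : Subgroup G, cj m (cj n A) = cj n (cj (n⁻¹ * m * n) A) := fun A => by
      rw [cj_cj, cj_cj]; congr 1; group
    exact h1.imp (fun e => ⟨by rw [k, e.1], by rw [k, e.2]⟩) fun e => ⟨by rw [k, e.1], by rw [k, e.2]⟩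
  have dj : cj n E₁ ⊓ cj n (cj t E₁) = ⊥ := by rw [← cj_inf, h.wE.bot, cj_bot]
  have cA : Nat.card (cj n E₁) = 16 := by rw [card_cj, s1.cE]
  have AW : cj n E₁ ≤ cj n (E₁ ⊔ cj t E₁) := cj_mono n le_sup_left
  obtain ⟨y, ⟨hy, -⟩, y2, y3⟩ := h.rho₁
  have hy : y ∈ Y₁ := hy
  have y1 := h.norE hy
  have y4 : ∀ a ∈ E₁, y * y * a = a * (y * y) → a = 1 := fun a ha e =>
    y3 a (mem_sup_left ha) (comm_of_odd y2 e)
  obtain ⟨K, M, hK, hM, e⟩ := img (Or.inl rfl) (Or.inl rfl)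
  rcases hK with rfl | rfl <;> rcases hM with rfl | rfl
  · rcases h.blkW _ (cj_eq_self_iff.1 e) with e1 | e1
    exacts [Or.inl e1.1, Or.inr (Or.inr (Or.inl e1.1))]
  · rw [e] at bl AW
    have nY : Y₁ ≤ nor (K ⊔ cj t M) := le_normalizer_sup h.norE
      (le_normalizer_of_le_centralizer (h.cenS.trans (centralizer_anti s2.E'S)))
    rcases eq_or_eq_of_tr (fun a ha b hb h1 h2 => (h.tr₁ ha hb h1 h2).imp fun m hm =>
      ⟨bl m (nY hm.1), hm.2⟩) dj (cA.trans s1.cE.symm) (cA.trans s2.cE'.symm) AW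
      (s1.ES.trans (w.le_cen₁.trans (centralizer_anti s2.E'S))) s1.el (bl y (nY hy)).sq
      (mul_mem y1 y1) (centralizer_anti s2.E'S (h.cenS (mul_mem hy hy))) y4 with e1 | e1
    exacts [Or.inl e1, Or.inr (Or.inr (Or.inr e1))]
  · rw [e] at bl AW
    have nE : cj t Y₁ ≤ nor (cj t M) := (cj_mono t h.norE).trans (cj_normalizer _ _).le
    have nY : cj t Y₁ ≤ nor (K ⊔ cj t M) := le_normalizer_sup
      (le_normalizer_of_le_centralizer (h.cenS₂.trans (centralizer_anti s1.E'S))) nE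
    have hy' := conj_mem_cj (g := t) hy
    rcases eq_or_eq_of_tr (U := cj t M) (V := K) (by
        rintro _ ⟨a, ha, rfl⟩ _ ⟨b, hb, rfl⟩ h1 h2
        obtain ⟨m, hm, rfl⟩ := h.tr₁ ha hb (by simpa using h1) (by simpa using h2)
        exact ⟨_, bl _ (nY (conj_mem_cj hm)), by simp [mul_assoc]⟩)
      dj (cA.trans s2.cE.symm) (cA.trans s1.cE'.symm) (sup_comm K _ ▸ AW)
      (s2.ES.trans (w.le_cen₂.trans (centralizer_anti s1.E'S))) s2.el (bl _ (nY hy')).sq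
      (nE (mul_mem hy' hy')) (centralizer_anti s1.E'S (h.cenS₂ (mul_mem hy' hy'))) (by
        rintro _ ⟨a, ha, rfl⟩ e1
        rw [y4 a ha (by simpa [mul_assoc] using congrArg (· * t) e1), map_one]) with e1 | e1
    exacts [Or.inr (Or.inr (Or.inl e1)), Or.inr (Or.inl e1)]
  · rw [e] at bl AW
    have nX : L ⊓ nor M ≤ nor (M ⊔ cj t M) := le_normalizer_sup inf_le_right h.X_nor₂
    have ne : ∀ U D : Subgroup G, U ≤ M ⊔ cj t M → Nat.card U = 16 → Nat.card D = 64 → U ≤ D →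
        cj n E₁ ≤ D → cj n E₁ ⊓ U ≠ ⊥ := fun U D h1 h2 h3 h4 h5 h6 => by
      have h7 := H99.card_sup_mul_card_inf_of_le_normalizer (H := cj n E₁) (K := U)
        (le_normalizer_of_le_centralizer (AW.trans ((w.el_pair s1.E'S s1.E'S s1.el' s1.el').le_cen.trans
          (centralizer_anti h1))))
      have h8 := card_le_of_le (sup_le h5 h4)
      rw [h6, cA, h2, card_bot] at h7
      omega
    obtain ⟨K', M', hK', hM', e'⟩ := img (Or.inl rfl) (Or.inr rfl)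
    have c64 : Nat.card ↥((M ⊔ cj t M) ⊓ (K' ⊔ cj t M')) = 64 := by
      rw [← e, ← e', ← cj_inf, card_cj, w.inf_pair s1.ES s1.ES s1.ES s1.E'S,
        w.card_pair (inf_le_left.trans s1.ES) (inf_le_left.trans s1.ES), inf_idem, s1.cE, s1.cZ]
    have AD : cj n E₁ ≤ (M ⊔ cj t M) ⊓ (K' ⊔ cj t M') := le_inf AW (e' ▸ cj_mono n le_sup_left)
    have c2 := c64
    rw [w.inf_pair s1.E'S s1.E'S (h.fam_le hK').2.1 (h.fam_le hM').2.1,
      w.card_pair (inf_le_left.trans s1.E'S) (inf_le_left.trans s1.E'S)] at c2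
    rcases hK' with rfl | rfl <;> rcases hM' with rfl | rfl
    · rw [s1.symm.cZ] at c2; omega
    · refine Or.inr (Or.inr (Or.inr (eq_of_tr ?_ (ne _ _ le_sup_right s2.cE' c64
        (le_inf le_sup_right le_sup_right) AD) dj (cA.trans s2.cE'.symm))))
      rintro _ ⟨a, ha, rfl⟩ _ ⟨b, hb, rfl⟩ h1 h2
      obtain ⟨m, hm, rfl⟩ := h.trX ha hb (by simpa using h1) (by simpa using h2)
      refine ⟨m, bl m (nX hm), ?_⟩
      show m * (t * a * t⁻¹) * m⁻¹ = t * (m * a * m⁻¹) * t⁻¹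
      calc _ = m * t * a * (m * t)⁻¹ := by group
        _ = _ := by rw [h.cL hm.1]; group
    · exact Or.inr (Or.inl (eq_of_tr (fun a ha b hb h1 h2 => (h.trX ha hb h1 h2).imp fun m hm =>
        ⟨bl m (nX hm.1), hm.2⟩) (ne _ _ le_sup_left s1.cE' c64 (le_inf le_sup_left le_sup_left) AD)
        dj (cA.trans s1.cE'.symm)))
    · rw [inf_idem, s1.cE'] at c2; omega

namespace Cz

variable (h : Cz t z L S E E' E₁ F₁ Y₁ S₁)
include h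

theorem ker0 (hT : IsPGroup 2 T) (h1 : WW t S₁ ⊔ zpowers t ≤ T) 
    (hτ : τ ∈ T) (h2 : τ ∈ nor E₁) (h3 : τ ∈ nor (cj t E₁)) : τ ∈ S₁ ⊔ cj t S₁ := by
  have e := h.sylW.eq_of_le (hT.to_le inf_le_left) (le_inf h1 h.T1_W) inf_le_right
  have h4 : τ ∈ T ⊓ nor (E₁ ⊔ cj t E₁) :=
    ⟨hτ, le_normalizer_sup (H := zpowers τ) (zpowers_le.2 h2) (zpowers_le.2 h3) (mem_zpowers τ)⟩
  refine (mem_coset h.tT0n h.tt (e ▸ h4)).resolve_right fun e1 => h.t_not_E ?_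
  simpa using mul_mem (inv_mem h2) (h.T0_nor e1).1.1

theorem bigT (hT : IsPGroup 2 T) (h1 : WW t S₁ ⊔ zpowers t ≤ T)
    (hb : ∀ n ∈ T, (Blk n E₁ F₁ ∧ Blk n (cj t E₁) (cj t F₁)) ∨
      (Blk (n * t) E₁ F₁ ∧ Blk (n * t) (cj t E₁) (cj t F₁)))
    (A : Subgroup G) (hA : A ≤ T) (he : El A) (hc : 256 ≤ Nat.card A) : A ≤ S₁ ⊔ cj t S₁ := by
  have s1 := h.sy₁
  have s2 := h.sy₂
  have w := h.w
  have tt := h.tt
  set D₁ := nor E₁ ⊓ cen (E₁ ⊓ F₁)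
  set D₂ := nor (cj t E₁) ⊓ cen (cj t E₁ ⊓ cj t F₁)
  have star : ∀ n ∈ T, n ∈ nor (E₁ ⊔ F₁) → Blk n E₁ F₁ ∧ Blk n (cj t E₁) (cj t F₁) :=
    fun n hn h2 => (hb n hn).resolve_right fun e =>
      h.t_not_star (by simpa using mul_mem (inv_mem h2) e.1.nor)
  have kJ : ∀ x ∈ T, x ∈ D₁ → x ∈ D₂ → ∃ a ∈ E₁ ⊔ F₁, ∃ b ∈ cj t E₁ ⊔ cj t F₁, x = a * b := by
    intro x hx h2 h3
    obtain ⟨a, ha, b, hb', rfl⟩ := w.mem_T.1 (h.ker0 hT h1 hx h2.1 h3.1)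
    refine ⟨a, s1.cenZ ⟨ha, ?_⟩, _, s2.cenZ ⟨conj_mem_cj hb', ?_⟩, rfl⟩
    · have := Subgroup.mul_mem _ h2.2 (Subgroup.inv_mem _ (centralizer_anti
        (inf_le_left.trans s1.ES) (w.le_cen₂ (conj_mem_cj hb'))))
      rwa [mul_inv_cancel_right] at this
    · have := Subgroup.mul_mem _ (Subgroup.inv_mem _ (centralizer_anti
        (inf_le_left.trans s2.ES) (w.le_cen₁ ha))) h3.2
      rwa [inv_mul_cancel_left] at this
  have uq : ∀ a ∈ S₁, ∀ b ∈ cj t S₁, ∀ a' ∈ S₁, ∀ b' ∈ cj t S₁, a * b = a' * b' → a = a' ∧ b = b' := by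
    rintro a ha _ ⟨b, hb, rfl⟩ a' ha' _ ⟨b', hb', rfl⟩ e
    exact (w.uniq ha hb ha' hb' e).imp id (congrArg _)
  -- the two projections
  have proj : ∀ B ≤ A, B ≤ nor (E₁ ⊔ F₁) → ∀ C ≤ B, C ≤ D₁ → C ≤ D₂ →
      ∃ P₁ ≤ E₁ ⊔ F₁, ∃ P₂ ≤ cj t E₁ ⊔ cj t F₁, El P₁ ∧ El P₂ ∧ P₁ ≤ cen B ∧ P₂ ≤ cen B ∧
        C ≤ P₁ ⊔ P₂ := by
    intro B hB h2 C hC h3 h4
    have key : ∀ x ∈ C, ∃ a ∈ E₁ ⊔ F₁, ∃ b ∈ cj t E₁ ⊔ cj t F₁, x = a * b ∧ a ∈ cen B ∧ b ∈ cen B ∧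
        a * a = 1 ∧ b * b = 1 := fun x hx => by
      obtain ⟨a, ha, b, hb', rfl⟩ := kJ x (hA (hB (hC hx))) (h3 hx) (h4 hx)
      have k : ∀ y ∈ B, y * a * y⁻¹ = a ∧ y * b * y⁻¹ = b := fun y hy =>
        uq _ (s1.J_le (conj_mem_of_mem_normalizer (h2 hy) ha)) _ (s2.J_le (conj_mem_of_mem_normalizer
          (star y (hA (hB hy)) (h2 hy)).2.nor hb')) _ (s1.J_le ha) _ (s2.J_le hb') (by
            rw [← cj_of_comm (he.comm (hB hy) (hB (hC hx)))]; group)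
      have c := w.comm a (s1.J_le ha) b (s2.J_le hb')
      have k2 := uq _ (mul_mem (s1.J_le ha) (s1.J_le ha)) _ (mul_mem (s2.J_le hb') (s2.J_le hb')) 1
        (one_mem _) 1 (one_mem _) (by
          rw [one_mul, ← he _ (hB (hC hx)), mul_assoc a a, ← mul_assoc a b b, mul_assoc a b (a * b),
            ← mul_assoc b a b, c])
      exact ⟨a, ha, b, hb', rfl, mem_cen.2 fun y hy => comm_of_cj (k y hy).1,
        mem_cen.2 fun y hy => comm_of_cj (k y hy).2, k2⟩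
    have CT : C ≤ S₁ ⊔ cj t S₁ := fun x hx => by
      obtain ⟨a, ha, b, hb', rfl, -⟩ := key x hx
      exact mul_mem (mem_sup_left (s1.J_le ha)) (mem_sup_right (s2.J_le hb'))
    have CT' := cj_le_of_le CT h.tT0n
    have eC := he.mono (hC.trans hB)
    have m1 : ∀ a ∈ half t S₁ C, a ∈ E₁ ⊔ F₁ ∧ a ∈ cen B := fun a ha => by
      obtain ⟨h5, b, hb', h6⟩ := (w.mem_half' CT).1 ha
      obtain ⟨a', ha', b', hb'', e, h7, -⟩ := key _ h6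
      obtain ⟨rfl, -⟩ := uq _ h5 _ (conj_mem_cj hb') _ (s1.J_le ha') _ (s2.J_le hb'') e
      exact ⟨ha', h7⟩
    have m2 : ∀ b ∈ cj t (half t S₁ (cj t C)), b ∈ cj t E₁ ⊔ cj t F₁ ∧ b ∈ cen B := by
      rintro _ ⟨b, hb', rfl⟩
      obtain ⟨h5, a, ha, h6⟩ := (w.mem_half' CT').1 hb'
      rw [← w.swap ha h5, conj_mem_cj_iff] at h6
      obtain ⟨a', ha', b', hb'', e, -, h7, -⟩ := key _ h6
      obtain ⟨-, rfl⟩ := uq _ ha _ (conj_mem_cj h5) _ (s1.J_le ha') _ (s2.J_le hb'') e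
      exact ⟨hb'', h7⟩
    exact ⟨_, fun a ha => (m1 a ha).1, _, fun b hb => (m2 b hb).1, w.el_half CT eC,
      (w.el_half CT' (eC.cj t)).cj t, fun a ha => (m1 a ha).2, fun b hb => (m2 b hb).2,
      w.le_halves CT⟩
  by_cases h2 : A ≤ nor (E₁ ⊔ F₁)
  · by_contra h3
    obtain ⟨P₁, p1, P₂, p2, e1, e2, c1, c2, h4⟩ := proj A le_rfl h2 (A ⊓ (D₁ ⊓ D₂)) inf_le_left
      (inf_le_right.trans inf_le_left) (inf_le_right.trans inf_le_right)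
    obtain ⟨k1, k1'⟩ := s1.k1 he.two (fun x hx => (star x (hA hx) (h2 hx)).1) p1 e1 c1
    obtain ⟨k2, k2'⟩ := s2.k1 he.two (fun x hx => (star x (hA hx) (h2 hx)).2) p2 e2 c2
    have n1 := card_eq_relIndex_mul A (D₁ ⊓ D₂)
    have n2 := relIndex_inf_le (H := D₁) (K := D₂) (L := A)
    have n3 := card_le_of_le h4
    have n4 := H99.card_sup_mul_card_inf_of_le_normalizer (H := P₁) (K := P₂)
      (le_normalizer_of_le_centralizer ((p1.trans s1.J_le).trans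
        (w.le_cen₁.trans (centralizer_anti (p2.trans s2.J_le)))))
    have n5 : 0 < Nat.card ↥(P₁ ⊓ P₂) := Nat.card_pos
    have n6 : Nat.card A ≤ D₁.relIndex A * Nat.card P₁ * (D₂.relIndex A * Nat.card P₂) := by
      calc _ ≤ D₁.relIndex A * D₂.relIndex A * (Nat.card P₁ * Nat.card P₂) :=
            n1 ▸ Nat.mul_le_mul n2 (by nlinarith)
        _ = _ := by ring
    by_cases h5 : A ≤ nor E₁
    · have := k2' fun h6 => h3 fun x hx => h.ker0 hT h1 (hA hx) (h5 hx) (h6 hx)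
      nlinarith [Nat.mul_le_mul k1 this]
    · nlinarith [Nat.mul_le_mul (k1' h5) k2]
  · exfalso
    obtain ⟨u, hu, h3⟩ := SetLike.not_le_iff_exists.1 h2
    obtain ⟨b1, b2⟩ := (hb u (hA hu)).resolve_left fun e => h3 e.1.nor
    have k : ∀ X : Subgroup G, cj (u * t) (cj t X) = cj u X := fun X => by
      rw [cj_cj, mul_assoc, tt, mul_one]
    set B := A ⊓ nor (E₁ ⊔ F₁)
    have uc : ∀ x ∈ B, x * u = u * x := fun x hx => he.comm hx.1 hu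
    have d2 : B ⊓ D₁ ≤ D₂ := fun x hx => by
      have h4 := mem_nor_cj (uc x hx.1) hx.2.1
      have h5 := mem_cen_cj (uc x hx.1) hx.2.2
      have h6 := (star x (hA hx.1.1) hx.1.2).2
      rw [← k, cj_inf t, cj_eq_self b2.nor_inf] at h5
      refine ⟨?_, h5⟩
      rcases b2 with ⟨e, -⟩ | ⟨e, -⟩ <;> rw [k] at e <;> rw [e] at h4
      · exact h4
      · exact Blk.fix (h6.imp And.symm And.symm) h4
    obtain ⟨P₁, p1, P₂, p2, e1, e2, c1, c2, h4⟩ := proj B inf_le_left inf_le_right (B ⊓ D₁)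
      inf_le_left inf_le_right d2
    obtain ⟨k1, -⟩ := s1.k1 (he.mono inf_le_left).two (fun x hx => (star x (hA hx.1) hx.2).1) p1 e1 c1
    have n1 := card_eq_relIndex_mul A (nor (E₁ ⊔ F₁))
    have n2 : (nor (E₁ ⊔ F₁)).relIndex A ≤ 2 := H99.Wr.relIndex_le_two fun x hx y hy h5 h6 => by
      have h7 := ((hb x (hA hx)).resolve_left fun e => h5 e.1.nor).1.nor
      have h8 := ((hb _ (inv_mem (hA hy))).resolve_left fun e => h6 (inv_mem_iff.1 e.1.nor)).1.nor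
      simpa [mul_assoc] using mul_mem h7 (inv_mem h8)
    have n3 := card_eq_relIndex_mul B D₁
    have CT : B ⊓ D₁ ≤ S₁ ⊔ cj t S₁ := h4.trans (sup_le_sup (p1.trans s1.J_le) (p2.trans s2.J_le))
    have n4 := H99.card_sup_mul_card_inf_of_le_normalizer (CT.trans w.T_nor₂)
    have n5 := w.card_pair (p1.trans s1.J_le) le_rfl
    have n6 := card_le_of_le (sup_le (h4.trans (sup_le_sup_left (p2.trans s2.J_le) _)) le_sup_right :
      B ⊓ D₁ ⊔ cj t S₁ ≤ P₁ ⊔ cj t S₁)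
    have n7 : B ⊓ D₁ ⊓ cj t S₁ = ⊥ := eq_bot_iff.2 fun x hx => by
      obtain ⟨a, ha, b, hb', e⟩ := kJ x (hA hx.1.1.1) hx.1.2 (d2 hx.1)
      obtain ⟨rfl, rfl⟩ := uq 1 (one_mem _) x hx.2 a (s1.J_le ha) b (s2.J_le hb') (by rw [one_mul, e])
      have h5 := conj_mem_cj (g := u) hb'
      rw [cj_of_comm (uc x hx.1.1).symm, ← cj_sup, cj_cj, cj_eq_self b1.nor] at h5
      exact w.bot ▸ (⟨s1.J_le h5, hx.2⟩ : x ∈ S₁ ⊓ cj t S₁)
    rw [n7, card_bot, card_cj, s1.cS] at n4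
    rw [s1.cS] at n5
    have n8 : Nat.card ↥(B ⊓ D₁) ≤ Nat.card P₁ := by omega
    nlinarith [Nat.mul_le_mul_left (D₁.relIndex B) n8]

end Cz

theorem jobOA2 : JobOA2.{u} := by
  intro G _ _ t z L S E E' E₁ F₁ Y₁ S₁ h pm
  have s1 := h.sy₁
  have w := h.w
  have tt := h.tt
  obtain ⟨T, hT, h1⟩ := exists_isSyl_le h.two_T1 h.T1_J
  have fin : BigE t S₁ T → IsSyl 2 T ⊤ := fun h3 => isSyl_of_isSyl_normalizer
    (hT.of_le (le_inf le_top le_normalizer) (inf_le_right.trans (h.norJ (le_sup_left.trans h1) h3)))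
  rcases h1.eq_or_lt with rfl | h2
  · have k : ∀ τ ∈ WW t S₁, Blk τ E₁ F₁ ∧ Blk τ (cj t E₁) (cj t F₁) := fun τ hτ =>
      ⟨Or.inl ⟨cj_eq_self (h.T0_nor hτ).1.1, cj_eq_self (h.T0_nor hτ).1.2⟩,
        Or.inl ⟨cj_eq_self (h.T0_nor hτ).2.1, cj_eq_self (h.T0_nor hτ).2.2⟩⟩
    exact ⟨_, h, fin h.big1, le_rfl, fun τ hτ => (h.mem_T1 hτ).imp (k _) (k _),
      fun τ h5 => h.ker0 hT.isPGroup le_rfl h5, h.big1, Or.inl rfl⟩
  have tT : t ∈ T := h1 (mem_sup_right (mem_zpowers t))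
  obtain ⟨x, hx, h3⟩ := SetLike.exists_of_lt (lt_inf_normalizer hT.isPGroup h2)
  obtain ⟨a, ha, e⟩ := h.adj hx.2
  have aT : a ∈ WW t S₁ ⊔ zpowers t := mem_sup_left (mem_sup_left ha)
  obtain ⟨σ, σT, σn, σt, σE⟩ : ∃ σ ∈ T, σ ∈ nor (WW t S₁ ⊔ zpowers t) ∧ σ * t = t * σ ∧
      cj σ E₁ = F₁ := by
    have m1 : a⁻¹ * x ∈ T := mul_mem (inv_mem (h1 aT)) hx.1
    have m2 := mul_mem (inv_mem (le_normalizer aT)) hx.2
    set c := a⁻¹ * x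
    have nW : c ∉ nor (E₁ ⊔ cj t E₁) := fun e1 => h3 (by
      have := h.sylW.eq_of_le (hT.isPGroup.to_le inf_le_left) (le_inf h1 h.T1_W) inf_le_right
      simpa [c] using mul_mem aT (this.le ⟨m1, e1⟩))
    have k : cj c (cj t E₁) = cj t (cj c E₁) := by rw [cj_cj, cj_cj, e]
    rcases pm _ (hT.le m1) with e1 | e1 | e1 | e1
    · exact (nW (cj_eq_self_iff.1 (by rw [cj_sup, k, e1]))).elim
    · exact ⟨c, m1, m2, e, e1⟩
    · exact (nW (cj_eq_self_iff.1 (by rw [cj_sup, k, e1, cj_tt tt, sup_comm]))).elim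
    · refine ⟨t * c, mul_mem tT m1, mul_mem (le_normalizer (mem_sup_right (mem_zpowers t))) m2,
        by rw [mul_assoc, e], by rw [← cj_cj, e1, cj_tt tt]⟩
  have fam : ∀ n ∈ T, ∀ A, Fam t E₁ F₁ A → Fam t E₁ F₁ (cj n A) := by
    rintro n hn A (rfl | rfl | rfl | rfl)
    · exact pm _ (hT.le hn)
    · simpa only [← cj_cj, σE] using pm _ (hT.le (mul_mem hn σT))
    · simpa only [← cj_cj] using pm _ (hT.le (mul_mem hn tT))
    · simpa only [← cj_cj, σE] using pm _ (hT.le (mul_mem hn (mul_mem tT σT)))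
  have hb := fun n hn => h.blk0 (fam n hn)
  obtain ⟨b1, b2⟩ := (hb σ σT).resolve_right fun e1 => by
    have h4 := cj_le_of_le (le_sup_left : E₁ ≤ E₁ ⊔ F₁) e1.1.nor
    rw [σt, ← cj_cj, σE] at h4
    exact h.not_le₁₂ (h4.trans s1.J_le) h.sy₂.E'S h.sy₂.cE'
  have σF : cj σ F₁ = E₁ := (b1.resolve_left fun e1 => s1.ne (e1.1.symm.trans σE)).2
  have k : ∀ A : Subgroup G, cj σ (cj t A) = cj t (cj σ A) := fun A => by rw [cj_cj, cj_cj, σt]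
  have σL := h.norL (mem_cen1.2 σt)
  have eS : (WW t S₁ ⊔ zpowers t) ⊓ L = S := le_antisymm (fun x hx => (h.mem_T1 hx.1).elim
    (fun e => w.fix e (h.cL hx.2)) fun e => (h.tnL ((L.mul_mem_cancel_left hx.2).1 (h.SL (w.fix e
      (Commute.mul_left (h.cL hx.2) (Commute.refl t)))))).elim)
    (le_inf (w.B_le.trans le_sup_left) h.SL)
  obtain ⟨s, hs, h4⟩ := h.oi σ ⟨mem_cen1.2 σt, eS ▸ nor_inf σn σL⟩
    (eq_of_le_of_card_ge (Ct.cj_diag h.wE h.wF σt (by rw [cj_sup, k, σE]))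
      (by rw [card_cj, h.sy.cE, h.sy.cE']))
    (eq_of_le_of_card_ge (Ct.cj_diag h.wF h.wE σt (by rw [cj_sup, k, σF]))
      (by rw [card_cj, h.sy.cE, h.sy.cE']))
    (w.fix (h.ker0 hT.isPGroup h1 (mul_mem σT σT) b1.sq b2.sq)
      (by rw [mul_assoc, σt, ← mul_assoc, σt, mul_assoc]))
  have big := h.bigT hT.isPGroup h1 hb
  exact ⟨T, h, fin big, h1, hb, fun τ h5 => h.ker0 hT.isPGroup h1 h5, big, Or.inr ⟨s * σ,
    mul_mem (h1 (mem_sup_left (w.B_le hs))) σT,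
    by rw [mul_assoc, σt, ← mul_assoc, h.cL (h.SL hs), mul_assoc], h4,
    by rw [← cj_cj, σE, cj_eq_self (h.T0_nor (w.B_le hs)).1.2]⟩⟩

namespace Cq

variable (h : Cq t z L S E E' E₁ F₁ Y₁ S₁ T)
include h

theorem star_t (hτ : τ ∈ T ⊓ nor (E₁ ⊔ F₁)) : t⁻¹ * τ * t ∈ T ⊓ nor (E₁ ⊔ F₁) :=
  conj_mem_of_mem_normalizer' (h.T_nor_star h.tT) hτ

theorem pure₂ (ha : a ∈ S₁ ∨ a ∈ cj t S₁) (h2 : a * a = 1) (hg : g * a * g⁻¹ ∈ WW t S₁) :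
    g * a * g⁻¹ ∈ S₁ ∨ g * a * g⁻¹ ∈ cj t S₁ := by
  by_cases h1 : g * a * g⁻¹ = 1
  · exact Or.inl (h1 ▸ one_mem _)
  refine (h.cls hg (sq_conj h2 g) h1).imp id fun e => e.resolve_right fun ⟨k, _, e⟩ =>
    h.pure₁ ha (k * g) (by rw [← e]; group)

theorem norS₁ (hτ : τ ∈ T ⊓ nor (E₁ ⊔ F₁)) : τ ∈ nor S₁ := by
  have s1 := h.sy₁
  obtain ⟨s, hs, h2, h3⟩ := s1.inv
  have h4 : τ * s * τ⁻¹ ∈ S₁ := (h.pure₂ (Or.inl hs) h2 (conj_mem_of_mem_normalizer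
    (h.T_nor_T0 hτ.1) (mem_sup_left hs))).resolve_right fun e => h3 (mem_sup_left (s1.cen_S hs
      (mem_cen.2 fun x hx => by
        simpa [mul_assoc] using congrArg (· * τ) (h.w.comm _
          (s1.J_le (conj_mem_of_mem_normalizer hτ.2 (mem_sup_left hx))) _ e))))
  refine mem_normalizer_of_cj_le ?_
  rintro _ ⟨x, hx, rfl⟩
  show τ * x * τ⁻¹ ∈ S₁
  by_cases h5 : x ∈ E₁ ⊔ F₁
  · exact s1.J_le (conj_mem_of_mem_normalizer hτ.2 h5)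
  · have := S₁.mul_mem (s1.J_le (conj_mem_of_mem_normalizer hτ.2
      ((s1.mul_mem_J hx hs).2 (iff_of_false h5 h3)))) (S₁.inv_mem h4)
    simpa [mul_assoc] using this

theorem norS₂ (hτ : τ ∈ T ⊓ nor (E₁ ⊔ F₁)) : τ ∈ nor (cj t S₁) :=
  (cj_normalizer t S₁).le (mem_cj.2 (h.norS₁ (h.star_t hτ)))

theorem star_z : T ⊓ nor (E₁ ⊔ F₁) ≤ cen1 z := fun τ hτ => mem_cen1.2 (comm_of_cj ((h.zu _
  ⟨conj_mem_of_mem_normalizer (h.norS₁ hτ) h.zS₁, conj_cen_W (h.norS₁ hτ)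
    (mem_cen.2 fun _ hx => mem_cen1.1 (h.zS hx))⟩).resolve_left (by simpa using h.z1)))

theorem star_z₂ (hτ : τ ∈ T ⊓ nor (E₁ ⊔ F₁)) : τ * (t * z * t⁻¹) * τ⁻¹ = t * z * t⁻¹ := by
  calc _ = t * (t⁻¹ * τ * t * z * (t⁻¹ * τ * t)⁻¹) * t⁻¹ := by group
    _ = _ := by rw [cj_of_comm (mem_cen1.1 (h.star_z (h.star_t hτ)))]

theorem T_d : T ≤ cen1 (dg t z) := by
  have cs : T ⊓ nor (E₁ ⊔ F₁) ≤ cen1 (dg t z) := fun τ hτ => mem_cen1.2
    ((show Commute τ z from mem_cen1.1 (h.star_z hτ)).mul_right (comm_of_cj (h.star_z₂ hτ)))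
  exact fun τ hτ => (h.star_or hτ).elim (fun x => cs x) fun x => by
    simpa using mul_mem (cs x) (inv_mem (mem_cen1.2 (h.cL (h.EL h.dE.1)).symm))

/-- the involutions of `L` are conjugate to `z z^t` -/
theorem L_d (hx : x ∈ L) (h2 : x * x = 1) (h1 : x ≠ 1) : ∃ l ∈ L, l * x * l⁻¹ = dg t z :=
  h.conjE hx h2 h1 h.dE.1 h.d1

/-- an involution of `S₁` is not a square in the centraliser of a conjugate of `t` -/
theorem not_sq (hy : y * (g * t * g⁻¹) = g * t * g⁻¹ * y) (h1 : y * y ∈ S₁)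
    (h2 : y * y * (y * y) = 1) : y * y = 1 := by
  have c : g⁻¹ * y * g ∈ cen1 t := mem_cen1.2 (by
    calc g⁻¹ * y * g * t = g⁻¹ * (y * (g * t * g⁻¹)) * g := by group
      _ = _ := by rw [hy]; group)
  have e : g⁻¹ * y * g * (g⁻¹ * y * g) = g⁻¹ * (y * y) * g⁻¹⁻¹ := by group
  have h3 := sq_conj h2 g⁻¹
  have h4 := mem_cen1.1 (mul_mem c c)
  have h5 := h.sqL _ c (H42.An.two_of_root e h3)
  rw [e] at h4 h5
  by_contra h0
  rcases h5 with e1 | e1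
  · obtain ⟨l, -, h6⟩ := h.L_d e1 h3 (fun e => h0 (conj_eq_one_iff.1 e))
    exact h.pure₁ (Or.inl h1) (l * g⁻¹) (by rw [← h6]; group)
  · obtain ⟨k, e2⟩ := h.tx e1 (by
      rw [mul_assoc t, ← mul_assoc _ t, h4, mul_assoc t, h3, mul_one, h.tt])
    refine h.tnT (g * k) ?_
    rw [show g * k * t * (g * k)⁻¹ = g * (k * t * k⁻¹) * g⁻¹ by group, e2, ttc h.tt]
    simpa [mul_assoc] using (mem_sup_left h1 : y * y ∈ WW t S₁)

theorem tn0 (g : G) : g * t * g⁻¹ ∉ T ⊓ nor (E₁ ⊔ F₁) := fun hg => by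
  have key : ∀ g : G, g * t * g⁻¹ ∈ T ⊓ nor (E₁ ⊔ F₁) → g * t * g⁻¹ ∈ nor E₁ := fun g hg => by
    by_contra h1
    obtain ⟨e1, e2⟩ := (h.star hg).1.swap h1
    obtain ⟨y, hy, h2, h3, h4, -⟩ := (H44.WrO.jobSW G S₁ E₁ F₁ _ h.sy₁ e1 e2).2 (h.norS₁ hg)
      (sq_conj h.tt g)
    exact h4 (h.not_sq h2 (mul_mem hy hy) (h.sy₁.el _ h3.1))
  have e : t⁻¹ * g * t * (t⁻¹ * g)⁻¹ = t⁻¹ * (g * t * g⁻¹) * t := by group
  exact h.tnT g (h.ker _ hg.1 (key g hg)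
    ((cj_normalizer t E₁).le (mem_cj.2 (e ▸ key (t⁻¹ * g) (e ▸ h.star_t hg)))))

theorem sylZ0 : IsSyl 2 (T ⊓ nor (E₁ ⊔ F₁)) (cen1 z) := by
  refine ⟨h.star_z, h.two_T.to_le inf_le_left, fun Q hQ h3 h4 => ?_⟩
  by_contra h5
  have n1 := two_mul_card_le h3 (Ne.symm h5)
  have n2 := card_eq_relIndex_mul T (T ⊓ nor (E₁ ⊔ F₁))
  rw [h.relIndex_star, ← inf_assoc, inf_idem] at n2
  obtain ⟨k, -, e⟩ := (h.sylT.of_card_ge hQ le_top (by omega)).exists_cj_eq h.sylT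
  have c : T ≤ cen1 (k * z * k⁻¹) := by rw [← e, ← cj_cen1]; exact cj_mono k h4
  have WT : WW t E₁ ≤ T := (sup_le_sup h.sy₁.ES h.sy₂.ES).trans h.T0
  have cW : zpowers (k * z * k⁻¹) ≤ cen (WW t E₁) :=
    zpowers_le.2 (mem_cen.2 fun x hx => mem_cen1.1 (c (WT hx)))
  have h6 := h.wE.fix (h.cenW.le_of_le_normalizer' (el_zpowers (sq_conj h.zz k)).two cW
    (le_normalizer_of_le_centralizer cW) (mem_zpowers _)) (mem_cen1.1 (c h.tT)).symm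
  obtain ⟨l, -, e1⟩ := h.L_d (h.EL h6) (sq_conj h.zz k) (by simpa using h.z1)
  exact h.pure (l * k) (by rw [← e1]; group)

theorem out0 (vt : v * t = t * v) (vv : v * v = 1) (v1 : v ≠ 1) (hg : g * v * g⁻¹ ∈ WW t S₁) :
    (∃ g : G, g * v * g⁻¹ = dg t z) ∧ (v ∈ L ∨ t * v ∈ L) := by
  have s1 := h.sy₁
  have cm : ∀ k : G, k * t * k⁻¹ ∈ cen1 (k * v * k⁻¹) := fun k =>
    cj_cen1 k v ▸ conj_mem_cj (mem_cen1.2 vt.symm)
  have cj2 : ∀ c k x : G, c * (k * x * k⁻¹) * c⁻¹ = c * k * x * (c * k)⁻¹ := fun c k x => by group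
  have nz : ∀ k : G, k * v * k⁻¹ ≠ z := fun k e => by
    obtain ⟨c, -, h3⟩ := h.sylZ0.exists_cj_le (el_zpowers (sq_conj h.tt k)).two
      (zpowers_le.2 (e ▸ cm k))
    exact h.tn0 _ (cj2 c _ t ▸ h3 (conj_mem_cj (mem_zpowers _)))
  have g1 : g * v * g⁻¹ ≠ 1 := by simpa using v1
  rcases h.cls hg (sq_conj vv g) g1 with e | e | ⟨k, -, e⟩
  · obtain ⟨k, -, e1⟩ := h.c1 _ e (sq_conj vv g) g1
    exact (nz _ (cj2 _ _ _ ▸ e1)).elim
  · obtain ⟨k, -, e1⟩ := h.c2 e (sq_conj vv g) g1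
    refine (nz (t⁻¹ * (k * g)) ?_).elim
    rw [← cj2, ← cj2, e1]; group
  rw [cj2] at e
  refine ⟨⟨_, e⟩, ?_⟩
  obtain ⟨c, hc, h3⟩ := (h.sylT.of_le h.T_d le_top).exists_cj_le (el_zpowers (sq_conj h.tt _)).two
    (zpowers_le.2 (e ▸ cm (k * g)))
  have h4 := cj2 c _ t ▸ h3 (conj_mem_cj (mem_zpowers _))
  have e1 : c * (k * g) * v * (c * (k * g))⁻¹ = dg t z := by
    rw [← cj2, e, cj_of_comm (mem_cen1.1 hc)]
  set m := c * (k * g)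
  set s := m * t * m⁻¹ with hs
  have ss : s * s = 1 := sq_conj h.tt m
  have h5 := (h.star_or h4).resolve_left (h.tn0 m)
  have e2 : ∀ x : G, s * x * s⁻¹ = s * t * (t * x * t⁻¹) * (s * t)⁻¹ := fun x => by
    calc _ = s * (t * (t * x * t⁻¹) * t⁻¹) * s⁻¹ := by rw [tt_conj h.tt]
      _ = _ := by group
  obtain ⟨y, hy, e3⟩ := s1.sq_Z h.zZ
  have c1 : y * (s * y * s⁻¹) = s * y * s⁻¹ * y := h.w.comm y (s1.J_le hy) _
    (e2 y ▸ conj_mem_of_mem_normalizer (h.norS₂ h5) (conj_mem_cj (s1.J_le hy)))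
  have e4 : dg s y * dg s y = dg t z := by rw [← dg_mul c1, e3, dg, e2, h.star_z₂ h5]; rfl
  have c2 : m⁻¹ * dg s y * m ∈ cen1 t := mem_cen1.2 (by
    calc m⁻¹ * dg s y * m * t = m⁻¹ * (dg s y * s) * m := by rw [hs]; group
      _ = _ := by rw [dg_comm ss c1, hs]; group)
  have e5 : m⁻¹ * dg s y * m * (m⁻¹ * dg s y * m) = v := by
    calc _ = m⁻¹ * (dg s y * dg s y) * m := by group
      _ = v := by rw [e4, ← e1]; group
  exact e5 ▸ h.sqL _ c2 (H42.An.two_of_root e5 vv)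

end Cq

theorem jobOB : JobOB.{u} := fun _ _ _ _ _ _ _ _ _ _ _ _ _ _ h =>
  ⟨h, fun _ hτ => ⟨h.norS₁ hτ, h.norS₂ hτ⟩, h.tn0, h.sylZ0, fun _ a b c _ => h.out0 a b c⟩

end H42.ML
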