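import Cfsg.Agent.H42.MLUG
import Cfsg.Agent.H99.WrJob6
import Cfsg.Agent.S1173

/-! Tower MCLY (`blueprints/MCLY.md`): KA, SC, FIN. -/


set_option autoImplicit false
set_option linter.unusedSectionVars false

namespace H42.ML

open Subgroup Cfsg H98 H1.Gold H99.Wr
open H53.Wr (UU th)
open scoped commutatorElement

universe u

variable {G : Type u} [Group G] [Finite G] {t z ρ a b c e f g k l n o v w x y τ σ : G}
  {L S E E' E₁ F₁ Y Y₁ S₁ T P Q A B D K M N W : Subgroup G}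

theorem Cp.comm_S₁ (h : Cp t z ρ L S E E' E₁ F₁ Y₁ S₁ T P) (hB : B ≤ P) (h1 : n ∈ nor B)
    (h2 : n ∈ nor S₁) (hc : c ∈ B) : ⁅n, c⁆ ∈ S₁ := by
  by_cases h3 : c ∈ S₁
  · exact mul_mem (conj_mem_of_mem_normalizer h2 h3) (inv_mem h3)
  · exact h.idxP (hB (conj_mem_of_mem_normalizer h1 hc)) (inv_mem (hB hc))
      (fun e => h3 (by simpa [mul_assoc] using conj_mem_of_mem_normalizer' h2 e))
      fun e => h3 (inv_mem_iff.1 e)

namespace Cu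

variable (h : Cu t z ρ L S E E' E₁ F₁ Y₁ S₁ T P)
include h

theorem norA (hA : A = cj t E₁ ∨ A = cj t F₁) (hx : x ∈ T ⊓ G0 G) :
    x ∈ nor A ↔ x ∈ nor (cj t E₁) := by
  have b := (h.star (h.U_star h.ug hx.1 hx.2)).2
  rcases hA with rfl | rfl
  exacts [Iff.rfl, ⟨fun e => Blk.fix (b.imp And.symm And.symm) e, b.fix⟩]

theorem sylN (hA : A = cj t E₁ ∨ A = cj t F₁) : IsSyl 2 (T ⊓ G0 G ⊓ nor A) (G0 G ⊓ nor A) := by
  obtain ⟨-, a1, a2, -, a4⟩ := h.fam₂ hA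
  refine ⟨inf_le_inf_right _ inf_le_right, h.two_T.to_le (inf_le_left.trans inf_le_left),
    fun Q hQ h1 h2 => ?_⟩
  obtain ⟨k, hk, h3⟩ := h.sylU.exists_cj_le hQ (h2.trans inf_le_left)
  have h4 := h.wc A hA k hk ((cj_mono k ((le_inf ((a1.trans le_sup_right).trans h.T0_U)
    le_normalizer).trans h1)).trans (h3.trans inf_le_left))
  refine (eq_of_le_of_card_ge h1 ?_).symm
  rw [← card_cj k]
  exact card_le_of_le fun x hx => ⟨h3 hx, (h.norA hA (h3 hx)).2 ((h.norA h4 (h3 hx)).1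
    ((cj_normalizer k A).le (cj_mono k (h2.trans inf_le_right) hx)))⟩

theorem sylV (hA : A = cj t E₁ ∨ A = cj t F₁) : IsSyl 2 (T ⊓ G0 G ⊓ cen A) (G0 G ⊓ cen A) := by
  have := (h.sylN hA).inf_centralizer (V := A) inf_le_right
  rwa [inf_assoc, inf_assoc (G0 G), inf_eq_right.2 (le_normalizer_of_le_centralizer le_rfl)] at this

theorem decN (hA : A = cj t E₁ ∨ A = cj t F₁) (hx : x ∈ T ⊓ G0 G ⊓ nor A) :
    ∃ p ∈ P ⊓ G0 G, ∃ s ∈ cj t S₁, x = p * s := by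
  obtain ⟨p, hp, s, hs, rfl⟩ := h.dec hx.1.1 ((h.norA hA hx.1).1 hx.2)
  exact ⟨p, ⟨hp, ((G0 G).mul_mem_cancel_right (h.T0_G (mem_sup_right hs))).1 hx.1.2⟩, s, hs, rfl⟩

theorem P_cenA (hA : A = cj t E₁ ∨ A = cj t F₁) : P ≤ cen A :=
  h.P_cen.trans (centralizer_anti (h.fam₂ hA).2.1)

theorem decV (hA : A = cj t E₁ ∨ A = cj t F₁) (hx : x ∈ T ⊓ G0 G ⊓ cen A) :
    ∃ p ∈ P ⊓ G0 G, ∃ s ∈ A, x = p * s := by
  obtain ⟨p, hp, s, hs, rfl⟩ := h.decN hA ⟨hx.1, cen_nor hx.2⟩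
  have := ((cen A).mul_mem_cancel_left (h.P_cenA hA hp.1)).1 hx.2
  refine ⟨p, hp, s, ?_, rfl⟩
  rcases hA with rfl | rfl
  exacts [h.sy₂.cen_S hs this, h.sy₂.symm.cen_S hs this]

theorem A_C (hA : A = cj t E₁ ∨ A = cj t F₁) : A ≤ T ⊓ G0 G ⊓ cen A :=
  le_inf (((h.fam₂ hA).2.1.trans le_sup_right).trans h.T0_U) (h.fam₂ hA).2.2.1.le_cen

theorem AD (hA : A = cj t E₁ ∨ A = cj t F₁) : A ⊓ H98.res 2 (G0 G ⊓ cen A) = ⊥ := by
  obtain ⟨-, a1, a2, -, -⟩ := h.fam₂ hA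
  refine eq_bot_iff.2 fun a ha => h.one_P (commutator_le.2 (fun x hx y hy => ?_)
    (mem_comm_of_central (h.sylV hA) (h.A_C hA ha.1)
      (mem_cen.2 fun x hx => (mem_cen.1 hx.2 a ha.1).symm) ha.2)) (a1 ha.1)
  obtain ⟨p, hp, s, hs, e⟩ := h.decV hA hx
  obtain ⟨q, hq, r, hr, e'⟩ := h.decV hA hy
  rw [e, comm_mul, commutatorElement_eq_one_iff_mul_comm.2 (mem_cen.1 hy.2 s hs),
    ← commutatorElement_inv, e', comm_mul,
    commutatorElement_eq_one_iff_mul_comm.2 (mem_cen.1 (h.P_cenA hA hp.1) r hr)]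
  simpa using commutator_le_of_le le_rfl le_rfl (commutator_mem_commutator hp.1 hq.1)

theorem SD (hA : A = cj t E₁ ∨ A = cj t F₁) : S₁ ≤ H98.res 2 (G0 G ⊓ cen A) :=
  (h.SY.trans h.resY).trans (res_mono (le_inf h.Y_G
    (h.cenS.trans (centralizer_anti (h.fam₂ hA).2.1))))

theorem P_KA (coc : JobCoc.{u}) (hA : A = cj t E₁ ∨ A = cj t F₁) : P ⊓ G0 G ≤ KA A := by
  obtain ⟨a0, a1, a2, -, -⟩ := h.fam₂ hA
  intro c hc
  have cC : c ∈ G0 G ⊓ cen A := ⟨hc.2, h.P_cenA hA hc.1⟩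
  have nC : G0 G ⊓ nor A ≤ nor (G0 G ⊓ cen A) :=
    le_normalizer_inf (fun g _ => nor_G0 g) (le_normalizer_centralizer inf_le_right)
  have nD := nC.trans (normalizer_le_normalizer_res (p := 2) _)
  have SD := h.SD hA
  refine ⟨cC, coc G _ _ _ A c ρ a2 (h.AD hA) (((h.A_C hA).trans (h.sylV hA).le).trans
    (self_le_normalizer_res _)) inf_le_right nD (h.sylN hA).le
    (Nat.odd_iff.2 (by have := (h.sylN hA).not_dvd_relIndex; omega)) (fun n hn => ?_)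
    (fun r hr => ?_) ⟨odd_G0 h.ρo, by rcases hA with rfl | rfl; exacts [h.ρn.2.1, h.ρn.2.2]⟩
    (SD (h.comm_S₁ le_rfl h.ρn.1.1 h.ρn.1.2 hc.1)) fun a ha => h.ρf a (a0 ha)⟩
  · have nH := nor_sup hn.2 (nD hn)
    by_cases h1 : c ∈ A ⊔ H98.res 2 (G0 G ⊓ cen A)
    · exact mul_mem (conj_mem_of_mem_normalizer nH h1) (inv_mem h1)
    obtain ⟨v, hv, d, hd, e⟩ := (h.sylV hA).exists_mul_res (conj_mem_of_mem_normalizer (nC hn) cC)
    obtain ⟨p, hp, a, ha, rfl⟩ := h.decV hA hv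
    have h2 := mul_mem (mem_sup_left ha) (mem_sup_right (S := A) hd)
    have h3 := h.idxP hp.1 (inv_mem hc.1) (fun e1 => h1 (by
      have := conj_mem_of_mem_normalizer' nH (mul_mem (mem_sup_right (SD e1)) h2)
      rwa [← mul_assoc p, ← e, show n⁻¹ * (n * c * n⁻¹) * n = c by group] at this))
      fun e1 => h1 (mem_sup_right (SD (inv_mem_iff.1 e1)))
    have := mul_mem (mem_sup_right (SD h3)) (conj_mem_of_mem_normalizer
      (nor_sup (cen_nor cC.2) (self_le_normalizer_res _ cC)) h2)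
    rw [commutatorElement_def, e]
    convert this using 1
    group
  · obtain ⟨p, hp, s, hs, rfl⟩ := h.decN hA hr
    rw [comm_mul, commutatorElement_eq_one_iff_mul_comm.2 (mem_cen.1 (h.P_cen hc.1) s hs)]
    simpa using SD (h.comm_S₁ le_rfl (le_normalizer hp.1) (h.norS (h.P_star hp.1)).1 hc.1)

theorem kaT0 (coc : JobCoc.{u}) (hA : A = cj t E₁ ∨ A = cj t F₁) : KA A ⊓ T = P ⊓ G0 G := by
  refine le_antisymm (fun x hx => ?_) (le_inf (h.P_KA coc hA) (inf_le_left.trans h.P_T))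
  obtain ⟨p, hp, a, ha, rfl⟩ := h.decV hA ⟨⟨hx.2, (KA_le hx.1).1⟩, (KA_le hx.1).2⟩
  have h1 := ((KA A).mul_mem_cancel_left (h.P_KA coc hA hp)).1 hx.1
  have key : ∀ X, A7 X A → X ≤ G0 G → a = 1 := fun X hX h2 => hX.fix ha fun n hn =>
    commutatorElement_eq_one_iff_mul_comm.1 (mem_bot.1 (h.AD hA ▸ mem_inf.2 ⟨mul_mem
      (conj_mem_of_mem_normalizer (hX.nor hn) ha) (inv_mem ha), h1.2 n ⟨h2 hn, hX.nor hn⟩⟩))
  have a1 : a = 1 := by
    rcases hA with rfl | rfl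
    exacts [key _ h.a7Y₂ h.Y₂_G,
      key _ (h.a7X.cj t) (cj_G0 (G := G) t ▸ cj_mono t (inf_le_left.trans h.L_G))]
  rwa [a1, mul_one]

end Cu

theorem jobKA : JobKA.{u} := fun coc _ _ _ _ _ _ _ _ _ _ _ _ _ _ _ _ h =>
  ⟨h, fun _ hA => h.kaT0 coc hA, fun A hA => by
    have := (h.sylV hA).inf_of_le_normalizer KA_le ((h.sylV hA).le.trans cen_nor_KA)
    rwa [inf_assoc _ (G0 _), inf_assoc, inf_eq_right.2 KA_le, inf_comm, h.kaT0 coc hA] at this⟩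

theorem isSyl_sup (h : IsSyl 2 P K) (hB : IsPGroup 2 B) (h1 : B ≤ nor K) (h2 : B ≤ nor P) :
    IsSyl 2 (B ⊔ P) (B ⊔ K) := by
  refine ⟨sup_le_sup_left h.le B, IsPGroup.to_sup_of_normal_right' hB h.isPGroup h2,
    fun Q hQ h3 h4 => le_antisymm (fun x hx => ?_) h3⟩
  obtain ⟨b, hb, k, hk, rfl⟩ := (mem_sup_left_norm h1).1 (h4 hx)
  exact mul_mem (mem_sup_left hb) (mem_sup_right ((h.eq_of_le (hQ.to_le inf_le_left)
    (le_inf (le_sup_right.trans h3) h.le) inf_le_right).le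
    ⟨(Q.mul_mem_cancel_left (h3 (mem_sup_left hb))).1 hx, hk⟩))

namespace Ck

variable (h : Ck t z ρ L S E E' E₁ F₁ Y₁ S₁ T P)
include h

theorem P_K (hA : A = cj t E₁ ∨ A = cj t F₁) : P ⊓ G0 G ≤ KA A := (h.kaS A hA).le

theorem into (hx : x ∈ P ⊓ G0 G) (hg : g ∈ G0 G) (hB : IsPGroup 2 B)
    (h1 : B ≤ G0 G ⊓ cen1 (g * x * g⁻¹)) :
    ∃ k ∈ G0 G, cj k B ≤ T ∧ k * (g * x * g⁻¹) * k⁻¹ ∈ P ⊓ G0 G := by
  obtain ⟨Q, hQ, h2⟩ := exists_isSyl_le hB h1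
  obtain ⟨j, hj⟩ := isPGroup_iff_forall.1 h.two_T x (h.P_T hx.1)
  have uQ : g * x * g⁻¹ ∈ Q := hQ.le_of_le_normalizer' (isPGroup_zpowers (k := j)
    (by rw [conj_pow, hj]; group)) (zpowers_le.2 ⟨conj_G0 g hx.2, mem_cen1.2 rfl⟩)
    (zpowers_le.2 (cen_nor (mem_cen.2 fun y hy => mem_cen1.1 (hQ.le hy).2))) (mem_zpowers _)
  obtain ⟨c, hc, h3⟩ := hQ.exists_cj_le (isPGroup_cj g h.sy₂.el.two) (by
    rw [← cj_G0 g, ← cj_cen1, ← cj_inf]
    exact cj_mono g (le_inf ((h.sy₂.ES.trans le_sup_right).trans h.T0_G) fun a ha =>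
      mem_cen1.2 (mem_cen.1 (h.P_cen hx.1) a (h.sy₂.ES ha))))
  obtain ⟨k, hk, h4⟩ := h.sylU.exists_cj_le hQ.isPGroup (hQ.le.trans inf_le_left)
  have h5 := (cj_mono k h3).trans (h4.trans inf_le_left)
  rw [cj_cj k, cj_cj _ g] at h5
  refine ⟨k, hk, (cj_mono k h2).trans (h4.trans inf_le_left), ?_⟩
  rw [← h.kaT _ (h.wc _ (Or.inl rfl) _ (mul_mem ((G0 G).mul_mem hk hc.1) hg) h5), ← KA_cj]
  refine ⟨?_, (h4 (conj_mem_cj uQ)).1⟩
  rw [← cj_of_comm (mem_cen1.1 hc.2), show k * (c * (g * x * g⁻¹) * c⁻¹) * k⁻¹ =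
    k * c * g * x * (k * c * g)⁻¹ by group]
  exact conj_mem_cj (h.P_K (Or.inl rfl) hx)

theorem sc₁ (hx : x ∈ P ⊓ G0 G) (hg : g ∈ G0 G) (h1 : g * x * g⁻¹ ∈ T)
    (h2 : g * x * g⁻¹ ∈ nor (cj t E₁)) (h3 : g * x * g⁻¹ * (g * x * g⁻¹) ∈ P) :
    g * x * g⁻¹ ∈ P := by
  obtain ⟨p, hp, b, hb, e⟩ := h.decN (Or.inl rfl) ⟨⟨h1, conj_G0 g hx.2⟩, h2⟩
  have pb := mem_cen.1 (h.P_cen hp.1) b hb
  have bb : b * b = 1 := h.one_P ((P.mul_mem_cancel_left (P.mul_mem hp.1 hp.1)).1 (by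
    rwa [e, mul_assoc, ← mul_assoc b, pb, mul_assoc, ← mul_assoc] at h3)) (mul_mem hb hb)
  obtain ⟨y, hy, A, hA, h4⟩ : ∃ y ∈ cj t Y₁, ∃ A, (A = cj t E₁ ∨ A = cj t F₁) ∧ y * b * y⁻¹ ∈ A := by
    obtain ⟨a, ha, rfl⟩ := hb
    obtain ⟨y, hy, h4⟩ := h.invJ ha (by simpa [mul_assoc] using congrArg (fun x => t⁻¹ * x * t) bb)
    rcases h4 with h4 | h4
    exacts [⟨_, conj_mem_cj hy, _, Or.inl rfl, by simpa [mul_assoc] using conj_mem_cj (g := t) h4⟩,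
      ⟨_, conj_mem_cj hy, _, Or.inr rfl, by simpa [mul_assoc] using conj_mem_cj (g := t) h4⟩]
  obtain ⟨-, a1, a2, -, -⟩ := h.fam₂ hA
  have b2 := sq_conj bb y
  have bS := a1 h4
  suffices y * b * y⁻¹ = 1 by rw [e, conj_eq_one_iff.1 this, mul_one]; exact hp.1
  have pK := conj_mem_of_mem_normalizer (nor_KA (h.a7Y₂.nor hy)) (h.P_K (Or.inl rfl) hp)
  have e1 : y * g * x * (y * g)⁻¹ = y * b * y⁻¹ * (y * p * y⁻¹) := by
    calc _ = y * (g * x * g⁻¹) * y⁻¹ := by group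
      _ = _ := by rw [e, ← pb]; group
  have yg := mul_mem (h.Y₂_G hy) hg
  generalize y * b * y⁻¹ = d at *
  generalize y * p * y⁻¹ = q at *
  generalize y * g = m at *
  have one : ∀ A, A = cj t E₁ ∨ A = cj t F₁ → d ∈ KA A → d = 1 := fun A hA e =>
    h.one_P ((h.kaT A hA).le ⟨e, h.T0 (mem_sup_right bS)⟩).1 bS
  have dK : zpowers d ≤ nor (KA (cj t E₁)) := zpowers_le.2 (nor_KA (h.sy₂.SN bS))
  have dP : d ∈ cen (P ⊓ G0 G) := mem_cen.2 fun p hp => (mem_cen.1 (h.P_cen hp.1) d bS).symm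
  obtain ⟨j, hj⟩ := isPGroup_iff_forall.1 h.two_T x (h.P_T hx.1)
  obtain ⟨k, hk, h5⟩ := (isSyl_sup (h.kaS _ (Or.inl rfl)) (el_zpowers b2).two dK
    (zpowers_le.2 (cen_nor dP))).exists_cj_le (isPGroup_zpowers (x := m * x * m⁻¹) (k := j)
      (by rw [conj_pow, hj]; group))
      (zpowers_le.2 (e1 ▸ mul_mem (mem_sup_left (mem_zpowers d)) (mem_sup_right pK)))
  have kG : k ∈ G0 G := sup_le (zpowers_le.2 (h.T0_G (mem_sup_right bS)))
    (KA_le.trans inf_le_left) hk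
  obtain ⟨c, hc, r, hr, e2⟩ := (mem_sup_left_norm (zpowers_le.2 (cen_nor dP))).1
    (h5 (conj_mem_cj (mem_zpowers _)))
  rcases (mem_zpowers_sq b2).1 hc with rfl | rfl
  · have := conj_mem_of_mem_normalizer' (sup_le dK le_normalizer hk) (h.P_K (Or.inl rfl) hr)
    rw [← one_mul r, ← e2, show k⁻¹ * (k * (m * x * m⁻¹) * k⁻¹) * k = m * x * m⁻¹ by group,
      e1] at this
    exact one _ (Or.inl rfl) ((mul_mem_cancel_right pK).1 this)
  rw [show k * (m * x * m⁻¹) * k⁻¹ = k * m * x * (k * m)⁻¹ by group] at e2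
  obtain ⟨n, hn, h6, h7⟩ := h.into hx (mul_mem kG yg) a2.two (le_inf
    ((h.A_C hA).trans (inf_le_left.trans inf_le_right)) fun a ha => e2 ▸ mem_cen1.2
      ((show Commute a c from a2.comm ha h4).mul_right (mem_cen.1 (h.P_cenA hA hr.1) a ha)))
  have := h.P_K (h.wc A hA n hn h6) h7
  rw [← KA_cj, mem_cj, show n⁻¹ * (n * (k * m * x * (k * m)⁻¹) * n⁻¹) * n =
    k * m * x * (k * m)⁻¹ by group, e2] at this
  exact one A hA ((mul_mem_cancel_right (h.P_K hA hr)).1 this)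

theorem sc₂ (hx : x ∈ P ⊓ G0 G) (ih : ∀ g ∈ G0 G, g * x * g⁻¹ ∈ T →
    g * x * g⁻¹ * (g * x * g⁻¹) ∈ P) (hg : g ∈ G0 G) (h1 : g * x * g⁻¹ ∈ T) :
    g * x * g⁻¹ ∈ P := by
  refine h.sc₁ hx hg h1 ?_ (ih g hg h1)
  by_contra h2
  have us := h.U_star h.ug h1 (conj_G0 g hx.2)
  rcases h.sig with e | ⟨σ, σT, σt, σσ, σE⟩
  · rcases h.mem_T1 (e ▸ h1) with e1 | e1
    exacts [h2 (h.T0_nor e1).2.1, h.t_star ((mul_mem_cancel_left us).1 (h.T0_star e1))]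
  have σs : σ ∈ T ⊓ nor (E₁ ⊔ F₁) := ⟨σT, Blk.nor (Or.inr ⟨σE, by rw [← σE, cj_tt σσ]⟩)⟩
  have σ2 : σ ∉ nor (cj t E₁) := fun e => h.sy₁.ne ((cj_eq_self (by
    rwa [← nor_t', mul_assoc, σt, inv_mul_cancel_left] at e)).symm.trans σE)
  obtain ⟨p, hp, s, hs, e⟩ := h.dec (T.mul_mem h1 σT) ((h.star us).2.mul (h.star σs).2 h2 σ2)
  have qs := mul_mem (h.T0_star (mem_sup_right hs)) σs
  have e1 : g * x * g⁻¹ = p * (s * σ) := by rw [← mul_assoc p, ← e, mul_assoc _ σ, σσ, mul_one]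
  have qq : s * σ * (s * σ) = 1 := h.one_P (by
    have := ih g hg h1
    rw [e1, show p * (s * σ) * (p * (s * σ)) = p * (s * σ * p * (s * σ)⁻¹) * (s * σ * (s * σ)) by
      group] at this
    exact (mul_mem_cancel_left (mul_mem hp (conj_mem_of_mem_normalizer (h.norP qs) hp))).1 this) (by
    have := mul_mem hs (conj_mem_of_mem_normalizer (h.norS σs).2 hs)
    rwa [inv_of_sq σσ, ← mul_assoc, ← mul_assoc, mul_assoc _ s] at this)
  generalize s * σ = q at *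
  obtain ⟨e2, e3⟩ := (h.star qs).2.swap fun e => h2 (e1 ▸ mul_mem (h.P_nor h.sy₂.ES hp) e)
  obtain ⟨y, hy, h3, h4, h5, w, hw, h6⟩ := (H44.WrO.jobSW G _ _ _ q h.sy₂ e2 e3).2 (h.norS qs).2 qq
  obtain ⟨j, hj⟩ := isPGroup_iff_forall.1 h.sy₂.two y hy
  obtain ⟨k, hk, h7, h8⟩ := h.into hx hg (isPGroup_zpowers hj) (zpowers_le.2
    ⟨h.T0_G (mem_sup_right hy), e1 ▸ mem_cen1.2
      ((show Commute y p from mem_cen.1 (h.P_cen hp) y hy).mul_right h3)⟩)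
  have h9 := h7 (conj_mem_cj (mem_zpowers y))
  have z2 := h.pur _ (mul_mem hy hy) (h.sy₂.el _ h4.1) k hk (by
    have := h.sq_mem (h.U_star h.ug h9 (conj_G0 k (h.T0_G (mem_sup_right hy))))
    convert this using 1; group)
  have wS := h.sy₂.J_le hw
  have e4 : k * w * g * x * (k * w * g)⁻¹ = k * (y * y) * k⁻¹ * (k * (g * x * g⁻¹) * k⁻¹) := by
    calc _ = k * (w * (g * x * g⁻¹) * w⁻¹) * k⁻¹ := by group
      _ = k * (w * p * w⁻¹ * (w * q * w⁻¹)) * k⁻¹ := by rw [e1]; group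
      _ = _ := by
        rw [cj_of_comm (mem_cen.1 (h.P_cen hp) w wS), h6, e1, ← mul_assoc p,
          ← mem_cen.1 (h.P_cen hp) _ (mul_mem hy hy)]; group
  have kG := mul_mem (mul_mem hk (h.T0_G (mem_sup_right wS))) hg
  have T1 : k * w * g * x * (k * w * g)⁻¹ ∈ T :=
    e4 ▸ mul_mem (h.T0 (mem_sup_right z2)) (h.P_T h8.1)
  have := h.sc₁ hx kG T1 (e4 ▸ mul_mem (h.sy₂.SN z2) (h.P_nor h.sy₂.ES h8.1)) (ih _ kG T1)
  rw [e4] at this
  exact h5 (conj_eq_one_iff.1 (h.one_P ((P.mul_mem_cancel_right h8.1).1 this) z2))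

end Ck

theorem jobSC : JobSC.{u} := by
  intro G _ _ t z ρ L S E E' E₁ F₁ Y₁ S₁ T P h x hx
  obtain ⟨k, hk⟩ := isPGroup_iff_forall.1 h.two_T x (h.P_T hx.1)
  induction k generalizing x with
  | zero => intro g _ _; simp [show x = 1 by simpa using hk]
  | succ k ih =>
    refine fun g hg => h.sc₂ hx (fun g hg h1 => ?_) hg
    have e : g * x * g⁻¹ * (g * x * g⁻¹) = g * (x * x) * g⁻¹ := by group
    exact e ▸ ih (x * x) (mul_mem hx hx) (by rw [← pow_two, ← pow_mul, ← pow_succ', hk]) g hg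
      (e ▸ mul_mem h1 h1)

theorem A7.over (h : A7 N A) (hM : M ≤ H1.Gold.nor A) (h1 : N ≤ M ⊔ cen A) :
    A7 (M ⊓ (N ⊔ cen A)) A := h.congr (fun n hn => by
  obtain ⟨m, hm, c, hc, rfl⟩ := (mem_sup_left_norm (le_normalizer_centralizer hM)).1 (h1 hn)
  exact mul_mem (mem_sup_left ⟨hm, by
    simpa using mul_mem (mem_sup_left hn) (mem_sup_right (S := N) (inv_mem hc))⟩)
    (mem_sup_right hc)) inf_le_right

theorem Ck.nsol (h : Ck t z ρ L S E E' E₁ F₁ Y₁ S₁ T P) :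
    ∃ R ≤ G0 G ⊓ cen (P ⊓ G0 G), ¬ Group.IsSolvable R := by
  have PK := h.P_K (Or.inl rfl)
  have PS : P ⊓ G0 G ≤ nor S₁ := fun _ hp => (h.norS (h.P_star hp.1)).1
  have nK : P ⊓ G0 G ≤ nor (KA (cj t E₁) ⊓ cen S₁) :=
    le_normalizer_inf (PK.trans le_normalizer) (le_normalizer_centralizer PS)
  have a7 := h.a7Y₂.over (M := G0 G ⊓ nor (P ⊓ G0 G) ⊓ cen S₁ ⊓ nor (cj t E₁)) inf_le_right
    fun y hy => by
      have y1 := nor_KA (h.a7Y₂.nor hy)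
      have y2 := h.cenS₂ hy
      obtain ⟨a, ha, n, hn, rfl⟩ := ((h.kaS _ (Or.inl rfl)).of_le le_sup_left
        (sup_le PK (inf_le_left : _ ⊓ cen S₁ ≤ _))).frattini_mem (g := y)
        (mem_normalizer_of_cj_le (by
          rw [cj_sup, cj_eq_self (nor_inf y1 (le_normalizer (H := cen S₁) y2))]
          refine sup_le ?_ le_sup_right
          rintro _ ⟨p, hp, rfl⟩
          have : ⁅y, p⁆ ∈ KA (cj t E₁) ⊓ cen S₁ := ⟨(KA _).mul_mem
            (conj_mem_of_mem_normalizer y1 (PK hp)) (inv_mem (PK hp)), by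
              simpa [commutatorElement_def, mul_assoc] using
                mul_mem y2 (conj_cen_W (PS hp) (inv_mem y2))⟩
          simpa [commutatorElement_def] using mul_mem (mem_sup_right this) (mem_sup_left hp)))
      obtain ⟨p, hp, c, hc, rfl⟩ := (mem_sup_left_norm nK).1 hn
      have c1 := KA_le hc.1
      rw [← mul_assoc] at hy y2 ⊢
      exact mul_mem (mem_sup_left ⟨⟨⟨((G0 G).mul_mem_cancel_right c1.1).1 (h.Y₂_G hy),
        (nor _).mul_mem ha (le_normalizer hp)⟩, ((cen S₁).mul_mem_cancel_right hc.2).1 y2⟩,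
        ((nor _).mul_mem_cancel_right (cen_nor c1.2)).1 (h.a7Y₂.nor hy)⟩) (mem_sup_right c1.2)
  refine ⟨_, ?_, a7.res.not_solvable⟩
  refine le_inf ((res_le _).trans fun _ hx => hx.1.1.1.1) (res_le_centralizer_of_quadratic
    (h.two_T.to_le (inf_le_left.trans h.P_T)) (fun _ hx => hx.1.1.1.2) ?_)
  refine H1.commutator_eq_bot_iff_le_centralizer'.2 (le_trans (fun _ hx => hx.1.1.2)
    (centralizer_anti (commutator_le.2 fun p hp m hm => ?_)))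
  rw [← commutatorElement_inv]
  exact inv_mem (h.comm_S₁ inf_le_left hm.1.1.1.2 (cen_nor hm.1.1.2) hp)

theorem jobFIN : JobFIN.{u} := by
  intro G _ _ hA hO t z ρ L S E E' E₁ F₁ Y₁ S₁ T P h sc
  have := G0_normal (G := G)
  have hi := (G0 G).subtype_injective
  have hO' : oddCore (G0 G) = ⊥ := by
    have : ((oddCore (G0 G)).map (G0 G).subtype).Normal :=
      ConjAct.normal_of_characteristic_of_normal
    have h1 := H2.le_oddCore (N := (oddCore (G0 G)).map (G0 G).subtype) (by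
      rw [card_map_of_injective hi]; exact H2.odd_card_oddCore _)
    rwa [hO, le_bot_iff, map_eq_bot_iff_of_injective _ hi] at h1
  obtain ⟨U, hU⟩ := h.sylU.exists_sylow
  have hN := Cfsg.Agent.S1173.result hO' U (P.subgroupOf (G0 G)) (hU ▸ ⟨fun x hx => ⟨h.P_T hx, x.2⟩,
    fun x hx g hg => sc x ⟨hx, x.2⟩ g g.2 hg.1⟩)
  obtain ⟨n, e, -⟩ := H86.G75.exists_derivedSeries_perfect (cen (P.subgroupOf (G0 G)))
  rw [e] at hN
  obtain ⟨R, h1, h2⟩ := h.nsol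
  have z1 : z ∈ P ⊓ G0 G := ⟨h.SP h.zS₁, h.T0_G (mem_sup_left h.zS₁)⟩
  have F0 := hA.le_of_nor (X := G0 G) (fun e => h.z1 (mem_bot.1 (e ▸ z1.2))) fun g _ => nor_G0 g
  have F1 := hA.le_of_nor (X := ((derivedSeries _ n).map (cen (P.subgroupOf (G0 G))).subtype).map
    (G0 G).subtype) (fun e => h2 (by
      rw [map_eq_bot_iff_of_injective _ hi, map_eq_bot_iff_of_injective _ (subtype_injective _)] at e
      have : Group.IsSolvable (cen (P.subgroupOf (G0 G))) := ⟨n, e⟩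
      exact Group.isSolvable_of_isSolvable_injective (f := ((inclusion
        (h1.trans inf_le_left)).codRestrict (cen (P.subgroupOf (G0 G))) fun r => mem_cen.2 fun p hp =>
          Subtype.ext (mem_cen.1 (h1 r.2).2 p ⟨hp, p.2⟩))) fun a b e =>
        Subtype.ext (congrArg (fun x => x.1.1) e))) fun g hg => mem_normalizer_of_cj_le (by
      rintro _ ⟨_, ⟨x, hx, rfl⟩, rfl⟩
      exact ⟨_, hN.conj_mem x hx ⟨g, F0 hg⟩, rfl⟩)
  refine h.z1 (mem_bot.1 (hA.cen_eq ▸ mem_cen.2 fun a ha => ?_))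
  obtain ⟨_, ⟨x, -, rfl⟩, rfl⟩ := F1 ha
  exact congrArg Subtype.val (mem_cen.1 x.2 ⟨z, z1.2⟩ z1.1).symm

end H42.ML
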