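import Cfsg.Agent.H42.MLC
import Cfsg.Agent.H42.SolD
import Cfsg.Agent.S1173

/-! Tower MCLY (`blueprints/MCLY.md`): Tr, D, SA, B1, SB, Loc. -/

set_option autoImplicit false
set_option linter.unusedSectionVars false

namespace H42.ML

open Cfsg Subgroup H14 H98 H1.Gold H42.An
open H99.Wr (El Sy AS Blk)
open H31.S2 (oc)
open scoped commutatorElement

universe u

variable {G : Type u} [Group G] [Finite G] {a b c d e g k l q r s t v x y z : G} {n : ℕ}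
  {A B D E E' J K L N P Q R S T : Subgroup G}

theorem nor_JJ (h1 : g ∈ nor K) (h2 : Commute g s) : g ∈ nor (JJ K s) :=
  normalizer_le_normalizer_pec _ (nor_inf h1 (cj_eq_self_iff.1 (by
    rw [cj_cen1, h2.eq, mul_inv_cancel_right])))

theorem pc0' (h : PC 2 J (cen1 c)) (hb : b * b = 1) (hq : b ∈ QQ c J) :
    PC 2 (JJ J b) (cen1 c ⊓ cen1 b) ∧ J ≤ JJ J b ⊔ opp 2 J := by
  have := h.pc_centralizer (two_of_sq hb).isPGroup (zpowers_le.2 (cpc_le c J hq))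
    ((commutator_mono le_rfl (zpowers_le.2 hq)).trans (commutator_cpc_le h.le))
  rwa [H14.centralizer_zpowers] at this

theorem QQ_comm (h : a ∈ QQ t K) : Commute a t := mem_cen1.1 (cpc_le t K h)

theorem comm_QQ (h : PC 2 K (cen1 t)) (h1 : A ≤ K) (h2 : B ≤ QQ t K) : ⁅A, B⁆ ≤ oc t :=
  (commutator_mono h1 h2).trans (commutator_cpc_le h.le)

theorem one_oc (h : a ∈ oc t) (h2 : Two a) : a = 1 := eq_one_of_two h2 (odd_of_mem (odd_opp _) h)

theorem ex_inv (h : Two g) (h1 : g ≠ 1) : ∃ b ∈ zpowers g, orderOf b = 2 :=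
  exists_orderOf_eq_mem h.isPGroup (zpowers_ne_bot.2 h1)

theorem two_mul' (h1 : Two a) (h2 : Two b) (hc : Commute a b) : Two (a * b) := by
  obtain ⟨i, hi⟩ := h1
  obtain ⟨j, hj⟩ := h2
  exact ⟨i + j, by rw [hc.mul_pow, pow_add, pow_mul, hi, mul_comm, pow_mul, hj]; simp⟩

theorem Min.inf (mn : Min G) (h : MC t K) (h1 : a ∈ K) (h2 : a ∈ QQ t K) (h3 : Two a) : a = 1 :=
  let ⟨_, _, _, _, f⟩ := mn.mg t K h
  one_oc (f.inf ⟨h1, h2⟩) h3

theorem jobTr : JobTr.{u} := by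
  intro G _ _ _ pu uq t s K h os hs
  obtain ⟨J, hJ, h1, h2⟩ := pu t s K h os hs
  have tn := uq.nor hJ (mem_cen1.2 (QQ_comm hs).symm)
  have h3 := h2.resolve_right (not_not.2 tn)
  rw [cj_eq_self tn, sup_idem] at h1
  obtain ⟨p1, p2, -⟩ := h.pc0 hJ.tt hs
  have p3 := (cover_of_QQ h.tt hJ.pc h3 (inf_comm (cen1 t) _ ▸ p1) h1).2
  refine ⟨J, hJ, h3, h1, fun g g1 g2 => ?_⟩
  have n := nor_JJ (uq.nor h (mem_cen1.2 g1)) g2
  exact ⟨fun e => mem_QQ_of_cover hJ.pc h1 p3 ⟨mem_cen1.2 g2, n⟩ (odd_opp _)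
      (comm_QQ h.pc JJ_le (zpowers_le.2 e)),
    fun e => mem_QQ_of_cover h.pc JJ_le p2 ⟨mem_cen1.2 g1, n⟩ (odd_opp _)
      (comm_QQ hJ.pc h1 (zpowers_le.2 e))⟩

theorem jobD : JobD.{u} := by
  intro G _ _ mn ind pu pp t K₁ K₂ h₁ h₂
  by_contra hne
  have q12 : K₁ ≤ QQ t K₂ := pc_le_cpc h₂.pc h₁.pc hne
  have q21 : K₂ ≤ QQ t K₁ := pc_le_cpc h₁.pc h₂.pc (Ne.symm hne)
  obtain ⟨a, ha, oa⟩ := exists_involution_mem h₁.pc.dvd_card
  have aa := mul_self_of_two oa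
  have at' := h₁.comm ha
  obtain ⟨J, hJ, DJ, tJ, tq⟩ := pp t a K₁ h₁ ha oa
  obtain ⟨p1, -, p3⟩ := h₂.pc0 aa (q12 ha)
  rw [inf_comm] at p1
  have q2 : JJ K₂ a ≤ QQ a J := (bal_or h₁.tt at'.symm p1 hJ).resolve_right fun e =>
    ind a t J _ (ne_one_of_two oa) h₁.tt at'.symm hJ tJ tq p1
      (by rwa [cj_eq_self tJ, sup_idem] at e) p3
  obtain ⟨b, hb, ob⟩ := exists_involution_mem p1.dvd_card
  have bb := mul_self_of_two ob
  have ba : Commute b a := mem_cen1.1 (JJ_le_cen hb)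
  have bt := h₂.comm (JJ_le hb)
  obtain ⟨M, hM, h1, h2⟩ := pu t b K₁ h₁ ob (q21 (JJ_le hb))
  have hM' := hM.cj' bt.symm
  have an := sup_le hM.pc.le_pLayerOf hM'.pc.le_pLayerOf (h1 (mem_JJ ha ba.symm (two_of_sq aa)))
  obtain ⟨d1, d2⟩ := pc0' hJ bb (q2 hb)
  obtain ⟨n, S, E, E', f⟩ := mn.mg t K₁ h₁
  have d3 := (f.dc a (h₁.le_NN ha) aa a ha oa (Commute.refl a) (aa ▸ one_mem _)).pc
  have bH : zpowers b ≤ cen1 t ⊓ cen1 a := zpowers_le.2 ⟨mem_cen1.2 bt, mem_cen1.2 ba⟩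
  have d4 := (d3.pc_centralizer (two_of_sq bb).isPGroup bH ((le_inf
    (comm_QQ h₁.pc JJ_le (zpowers_le.2 (q21 (JJ_le hb)))) (commutator_le_of_le d3.le bH)).trans
      (opp_inf_le_of_le inf_le_left))).1
  rw [H14.centralizer_zpowers] at d4
  rw [inf_comm] at d1
  have k : ∀ N, MC b N → JJ J b ≤ QQ b N ∨ JJ J b ≤ N := fun N hN => by
    have := bal_or aa ba.symm d1 hN.pc
    rwa [cj_eq_self (hN.pc.pLayerOf_le_normalizer an), sup_idem] at this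
  have tD := nor_JJ tJ bt.symm
  have d5 : JJ J b ≤ M ∨ JJ J b ≤ cj t M := by
    by_contra h3
    rw [not_or] at h3
    refine d4.not_le_of_commutator_le (N := JJ (JJ K₁ a) b) (M := cen1 b) ((commutator_mono
      ((pec_mono (inf_le_inf_right _ JJ_le)).trans h1) (pec_mono (inf_le_inf_right _ DJ))).trans
      (commutator_sup_left_le (hM.pc.le.trans (H31.S2.cen1_le_nor_oc b))
        (hM'.pc.le.trans (H31.S2.cen1_le_nor_oc b))
        (comm_QQ hM.pc le_rfl ((k M hM).resolve_right h3.1))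
        (comm_QQ hM'.pc le_rfl ((k _ hM').resolve_right h3.2)))) le_rfl
  have d6 : JJ J b ≤ M ⊓ cj t M := by
    rcases d5 with e | e
    · exact le_inf e ((cj_eq_self tD).ge.trans (cj_mono t e))
    · exact le_inf ((cj_eq_self tD).ge.trans ((cj_mono t e).trans
        (H99.Wr.cj_tt h₁.tt M).le)) e
  rcases h2 with e | e
  · exact tq (mem_QQ_of_cover hJ JJ_le d2 ⟨mem_cen1.2 at'.symm, tD⟩ (odd_opp _)
      (comm_QQ hM.pc (d6.trans inf_le_left) (zpowers_le.2 e)))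
  · obtain ⟨_, _, _, _, f'⟩ := mn.mg b M hM
    exact d1.not_le_opp _ (d6.trans ((inf_le_inf_left M (pc_le_cpc hM.pc hM'.pc
      fun e1 => e (cj_eq_self_iff.1 e1))).trans f'.inf))

/-- the centraliser of a strongly closed `2`-subgroup -/
theorem sc_end (hA : AS G) (hO : oddCore G = ⊥) (hT : IsSyl 2 T ⊤) (hQ : IsStronglyClosed Q T)
    (hD : D ≤ cen Q) (hp : ⁅D, D⁆ = D) (h1 : D ≠ ⊥) : Q = ⊥ := by
  have hN := Cfsg.Agent.S1173.result hO hT.toSylowTop Q hQ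
  have F := hA.le_of_nor (X := (⨅ n : ℕ, derivedSeries (cen Q) n).map (cen Q).subtype)
    (fun e => h1 (le_bot_iff.1 (e.le.trans' (by
      rw [← map_subgroupOf_eq_of_le hD]
      refine map_mono (le_iInf fun n => ?_)
      induction n with
      | zero => exact le_top
      | succ n ih =>
        rw [← hp, ← commutator_subgroupOf hD hD, derivedSeries_succ]
        exact commutator_mono ih ih)))) (le_top.trans (normalizer_eq_top _).ge)
  exact eq_bot_iff.2 fun q hq => hA.cen_eq ▸ H99.Wr.mem_cen.2 fun a ha =>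
    (H99.Wr.mem_cen.1 (map_subtype_le _ (F ha)) q hq).symm

theorem mem_syl_cen (hT : IsSyl 2 T (cen1 t)) (tt : t * t = 1) : t ∈ T :=
  hT.le_of_le_normalizer' (two_of_sq tt).isPGroup (zpowers_le.2 (mem_cen1.2 rfl))
    (zpowers_le.2 (cen_nor (H99.Wr.mem_cen.2 fun _ hx => mem_cen1.1 (hT.le hx)))) (mem_zpowers t)

theorem jobSA : JobSA.{u} := by
  intro G _ _ un hyp t₀ K₀ h₀
  obtain ⟨T₀, hT₀⟩ := exists_isSyl 2 (cen1 t₀)
  obtain ⟨T, ⟨t, K, h, hT⟩, mx⟩ := Set.exists_max_image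
    {T : Subgroup G | ∃ t K, MC t K ∧ IsSyl 2 T (cen1 t)} (fun T => Nat.card T) (Set.toFinite _)
    ⟨T₀, t₀, K₀, h₀, hT₀⟩
  have tT := mem_syl_cen hT h.tt
  have hS : IsSyl 2 T ⊤ := isSyl_of_isSyl_normalizer ⟨le_inf le_top le_normalizer, hT.isPGroup,
    fun R hR h1 h2 => by
      obtain ⟨v, hv, ov, -, h3⟩ := exists_central_orderOf_eq (Q := oz 2 T ⊓ QQ t K)
        ((isPGroup_oz T).to_le inf_le_left) hR (fun r hr => mem_normalizer_of_cj_le (by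
          rintro _ ⟨v, hv, rfl⟩
          have h3 := conj_mem_of_mem_normalizer (le_normalizer_oz le_rfl (h2 hr).2) hv.1
          refine ⟨h3, ?_⟩
          by_cases v1 : v = 1
          · simp [v1]
          obtain ⟨J, hJ, -⟩ := un.tr t v K h (orderOf_eq_prime (mem_oz.1 hv.1).2.2 v1) hv.2
          exact hyp t _ K _ h (hJ.cj r) (mem_cen1.1 (hT.le (oz_le T h3)))))
        fun e => h.t1 (mem_bot.1 (e ▸ mem_inf.2 ⟨mem_oz.2 ⟨tT, H99.Wr.mem_cen.2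
          fun _ hx => mem_cen1.1 (hT.le hx), by rw [pow_two, h.tt]⟩, h.tQQ⟩))
      obtain ⟨J, hJ, -⟩ := un.tr t v K h ov hv.2
      obtain ⟨T', h4, h5⟩ := exists_isSyl_le (H := cen1 v) hR
        fun r hr => mem_cen1.2 (H99.Wr.mem_cen.1 h3 r hr)
      exact (eq_of_le_of_card_ge h1 ((card_le_of_le h5).trans (mx T' ⟨v, J, hJ, h4⟩))).symm⟩
  have hsc : IsStronglyClosed (T ⊓ QQ t K) T := ⟨inf_le_left, fun x hx g hg => ⟨hg, by
    by_cases x1 : x = 1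
    · simp [x1]
    obtain ⟨_, ⟨k, rfl⟩, os⟩ := ex_inv (two_of_mem hT.isPGroup hx.1) x1
    obtain ⟨J, hJ, -, -, h1⟩ := un.tr t _ K h os ((QQ t K).zpow_mem hx.2 k)
    have h2 := conj_mem_cj (g := g) ((h1 x (QQ_comm hx.2) (Commute.self_zpow x k)).1 hx.2)
    rw [cj_cpc g hJ.pc.le] at h2
    have hJ' := hJ.cj g
    obtain ⟨J', h3, -, -, h4⟩ := un.tr t _ K h hJ'.ot (hyp t _ K _ h hJ'
      (mem_cen1.1 (hT.le (by rw [← conj_zpow]; exact zpow_mem hg k))))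
    exact (h4 _ (mem_cen1.1 (hT.le hg)) (QQ_comm h2)).2 (un.uq _ _ _ hJ' h3 ▸ h2)⟩⟩
  have p := (h.pc.pc_centralizer (hT.isPGroup.to_le inf_le_left) (inf_le_left.trans hT.le)
    (comm_QQ h.pc le_rfl (inf_le_right : T ⊓ QQ t K ≤ _))).1
  exact h.t1 (mem_bot.1 (sc_end un.as un.odd hS hsc ((pec_le _).trans inf_le_right) p.perfect
    p.ne_bot ▸ mem_inf.2 ⟨tT, h.tQQ⟩))

theorem MC.nor_sup (h : MC t K) (hg : g ∈ NN t K) : g ∈ nor (K ⊔ QQ t K) :=
  H42.ML.nor_sup hg.2 (h.nor_QQ hg)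

theorem MC.dec (h : MC t K) (ha : a ∈ K ⊔ QQ t K) : ∃ k ∈ K, ∃ q ∈ QQ t K, a = k * q :=
  (mem_sup_left_norm fun _ hk => h.nor_QQ (h.le_NN hk)).1 ha

theorem Bs.mem_S (h : Bs L S E E') (hx : x ∈ L) (h1 : x ∈ nor S) (h2 : x ∈ nor E) (h3 : Two x) :
    x ∈ S := h.syl.le_of_le_normalizer' h3.isPGroup (zpowers_le.2 ⟨hx, h2⟩) (zpowers_le.2 h1)
      (mem_zpowers x)

theorem Bs.sw (h : Bs L S E E') (hv : v ∈ nor S) (h1 : v ∉ nor E) (hA : A ≤ L ⊓ nor S) (he : El A)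
    (hc : A ≤ cen1 v) : Nat.card A ≤ 8 := by
  obtain ⟨e1, e2⟩ := (h.blkS hv).swap h1
  have n1 := (H44.WrO.jobSW G S E E' v h.sy e1 e2).1 (A ⊓ nor E)
    (fun x hx => h.mem_S (hA hx.1).1 (hA hx.1).2 hx.2 (two_of_sq (he x hx.1)))
    (he.mono inf_le_left) (inf_le_left.trans hc)
  have n3 := H99.Wr.card_eq_relIndex_mul A (nor E)
  have n4 : (nor E).relIndex A ≤ 2 := H99.Wr.relIndex_le_two fun x hx y hy =>
    (h.blkS (hA hx).2).mul (h.blkS (hA hy).2)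
  nlinarith

/-- an involution of `L` lies in a conjugate of `E` -/
theorem Bs.mem_cjE (h : Bs L S E E') (hx : x ∈ L) (ox : orderOf x = 2) : ∃ l ∈ L, x ∈ cj l E := by
  obtain ⟨a, ha, a1⟩ := (bot_or_exists_ne_one E).resolve_left
    (by rintro rfl; simpa using h.sy.cE)
  obtain ⟨l, hl, rfl⟩ := h.one a (h.EL ha) x hx (orderOf_two_of_mul_self (h.sy.el a ha) a1) ox
  exact ⟨l, hl, conj_mem_cj ha⟩

theorem jobB1 : JobB1.{u} := by
  intro G _ _ un t s K J h hJ st sq sK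
  have NI : ∀ k, Two k → k ∈ QQ t K → k ∈ QQ s J → k = 1 := fun k k2 h1 h2 => by
    by_contra k1
    obtain ⟨b, hb, ob⟩ := ex_inv k2 k1
    obtain ⟨J₁, h3, -, -, h4⟩ := un.tr t b K h ob (zpowers_le.2 h1 hb)
    obtain ⟨J₂, h5, h6, -⟩ := un.tr s b J hJ ob (zpowers_le.2 h2 hb)
    exact sq ((h4 s st (QQ_comm h6)).2 (un.uq _ _ _ h5 h3 ▸ h6))
  have tq : t ∉ QQ s J := fun e => h.t1 (NI t (two_of_sq h.tt) h.tQQ e)
  have nK := un.uq.nor h
  have nJ := un.uq.nor hJ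
  have sN : s ∈ NN t K := ⟨mem_cen1.2 st, nK (mem_cen1.2 st)⟩
  have tN : t ∈ NN s J := ⟨mem_cen1.2 st.symm, nJ (mem_cen1.2 st.symm)⟩
  obtain ⟨n, S, E, E', f⟩ := un.mg t K h
  obtain ⟨n', S', F, F', f'⟩ := un.mg s J hJ
  obtain ⟨x, hx, ox, sx, hk⟩ := f.dec s sN hJ.tt sK sq
  have xx := mul_self_of_two ox
  have k2 := two_mul' (two_of_sq hJ.tt) (two_of_sq xx) sx
  refine or_iff_not_imp_left.2 fun h0 => ?_
  have k1 : s * x ≠ 1 := fun e => h0 (eq_inv_of_mul_eq_one_left e ▸ inv_mem hx)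
  have pD := (f.dc s sN hJ.tt x hx ox sx hk).pc
  rw [inf_comm] at pD
  have DJ : JJ K s ≤ J := by
    have := (bal_or h.tt st.symm pD hJ.pc).resolve_left fun e =>
      k1 (NI _ k2 hk (mul_mem hJ.tQQ (e (mem_JJ hx sx.symm (two_of_sq xx)))))
    rwa [cj_eq_self tN.2, sup_idem] at this
  have tJ : t ∈ J ⊔ QQ s J := by
    by_contra h1
    obtain ⟨l, hl, xA⟩ := f.bs.mem_cjE hx ox
    have AK : cj l E ≤ K := cj_le_of_le f.bs.EL (le_normalizer hl)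
    have eA := f.bs.sy.el.cj l
    obtain ⟨d, hd, h2⟩ := conj_cen (odd_opp _) eA.two hJ.tt (NN_le_nor_oc sN) fun a ha =>
      ⟨NN_le_nor_oc (h.le_NN (AK ha)), by
        have := ((mem_cpc h.pc.le).1 hk).2 a (AK ha)
        rwa [show ⁅a, s * x⁆ = ⁅a, s⁆ by
          simp only [commutatorElement_def, mul_inv_rev, mul_assoc]
          rw [← mul_assoc x, ← eA.comm (inv_mem ha) xA]; group] at this⟩
    have A1 : cj d⁻¹ (cj l E) ≤ J := (le_pec (isPGroup_cj _ eA.two) (le_inf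
      (cj_le_of_le AK (inv_mem (h.oc_le hd).2)) (cj_le_iff.2 fun a ha => by
        rw [inv_inv, cj_cen1]; exact mem_cen1.2 (h2 a ha)))).trans DJ
    have A2 : cj d⁻¹ (cj l E) ≤ cen1 t := (cj_le_of_le AK (inv_mem (h.oc_le hd).2)).trans h.pc.le
    have eA' := eA.cj d⁻¹
    have cA : Nat.card (cj d⁻¹ (cj l E)) = 16 := by rw [card_cj, card_cj, f.bs.sy.cE]
    generalize cj d⁻¹ (cj l E) = A at A1 A2 eA' cA
    obtain ⟨m, hm, h3⟩ := f'.ot.ns (A ⊔ zpowers t) (sup_le (A1.trans hJ.le_NN) (zpowers_le.2 tN))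
      (eA'.sup (H99.Wr.el_zpowers h.tt) fun a ha b ⟨i, hi⟩ =>
        hi ▸ ((show Commute a t from mem_cen1.1 (A2 ha)).zpow_right i).eq).two
    have mN := hJ.le_NN hm
    have := f'.bs.sw (h3 (conj_mem_cj (mem_sup_right (mem_zpowers t)))) (fun e => h1 (by
      simpa [mul_assoc] using conj_mem_of_mem_normalizer' (hJ.nor_sup mN)
        (f'.ot.inn (mem_inf.2 ⟨mul_mem (mul_mem mN tN) (inv_mem mN), e⟩))))
      (le_inf (cj_le_of_le A1 mN.2) ((cj_mono m le_sup_left).trans h3)) (eA'.cj m)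
      (cj_cen1 m t ▸ cj_mono m A2)
    rw [card_cj] at this
    omega
  obtain ⟨y, hy, oy, ty, hq⟩ := f'.dec t tN h.tt tJ tq
  have dc := f'.dc t tN h.tt y hy oy ty hq
  have eD : JJ K s = JJ J t := pD.eq_of_le dc.pc
    (pD.pec_eq.ge.trans (pec_mono (le_inf DJ (pD.le.trans inf_le_right))))
  have key : ∀ r ∈ QQ t K, Two r → Commute r s → r = 1 ∨ r = t := fun r hr r2 rs => by
    have n := nor_JJ (h.QQ_le hr).2 rs
    refine (dc.m5 r ⟨mem_cen1.2 rs, nJ (mem_cen1.2 rs)⟩ (le_trans ?_ dc.opp)).imp (NI r r2 hr)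
      fun e => ?_
    · rw [← eD]
      exact le_opp_of_odd (commutator_le_left' (zpowers_le.2 n))
        (H1.le_normalizer_commutator_left _ _)
        (odd_of_le (comm_QQ h.pc JJ_le (zpowers_le.2 hr)) (odd_opp _))
    · have := NI (r * t⁻¹) (by
        rw [inv_eq_of_two h.ot]; exact two_mul' r2 (two_of_sq h.tt) (QQ_comm hr))
        (mul_mem hr (inv_mem h.tQQ)) (by simpa [mul_assoc] using mul_mem e (inv_mem hq))
      exact mul_inv_eq_one.1 this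
  have e := (key _ hk k2 (Commute.mul_left (Commute.refl s) sx.symm)).resolve_left k1
  have e' : t * s = x := by rw [← e, sx.eq, mul_assoc, hJ.tt, mul_one]
  refine ⟨fun g hg g2 => ?_, e' ▸ hx⟩
  have xN := h.le_NN hx
  obtain ⟨P, hP, xP⟩ := exists_isSyl_le (two_of_sq xx).isPGroup
    (le_sup_left : zpowers x ≤ zpowers x ⊔ QQ t K)
  have hQ := hP.inf_of_le_normalizer le_sup_right
    (hP.le.trans (sup_le (zpowers_le.2 (h.nor_QQ xN)) le_normalizer))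
  obtain ⟨c, hc, h1⟩ := hQ.exists_cj_le g2.isPGroup (zpowers_le.2 hg)
  obtain ⟨h2, h3⟩ := h1 (conj_mem_cj (mem_zpowers g))
  have xp := xP (mem_zpowers x)
  have h4 : Commute x (c * g * c⁻¹) := commutatorElement_eq_one_iff_commute.1
    (one_oc (((mem_cpc h.pc.le).1 h3).2 x hx) (two_of_mem hP.isPGroup
      (P.mul_mem (P.mul_mem (P.mul_mem xp h2) (P.inv_mem xp)) (P.inv_mem h2))))
  have es : s = t * x := by rw [← e', ttc h.tt]
  refine (key _ h3 (two_of_mem hP.isPGroup h2) (es ▸ (QQ_comm h3).mul_right h4.symm)).imp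
    conj_eq_one_iff.1 fun e1 => ?_
  have := H99.Wr.cj_of_comm (QQ_comm hc).eq
  rw [← e1] at this
  conv_lhs at this => rw [e1]
  exact (mul_left_cancel (mul_right_cancel this)).symm

theorem Un.z0 (un : Un G) (h : MC x K) (h' : MC d J) (h1 : d ∈ K) (h2 : x ∈ J) : False := by
  obtain ⟨M, hM, h3, -, h4⟩ := un.p d x J h' h2 h.ot
  have e : K = M := by
    by_contra e
    exact h4 (pc_le_cpc hM h.pc e h1)
  exact h.t1 (un.inf h (e ▸ h3 (mem_JJ h2 (Commute.refl x) (two_of_sq h.tt))) h.tQQ (two_of_sq h.tt))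

theorem Un.zz (un : Un G) (b1 : PB1 G) (h : MC t K) (h' : MC x J) (hx : x ∈ K) : False := by
  obtain ⟨M, hM, h3, -⟩ := un.p t x K h hx h'.ot
  have x2 := two_of_sq h'.tt
  have q : JJ K x ≤ QQ x J := h3.trans (pc_le_cpc h'.pc hM fun e =>
    h'.t1 (un.inf h' (e ▸ h3 (mem_JJ hx (Commute.refl x) x2)) h'.tQQ x2))
  obtain ⟨n, S, E, E', f⟩ := un.mg t K h
  obtain ⟨l, hl, xA⟩ := f.bs.mem_cjE hx h'.ot
  have lN := h.le_NN hl
  have AK : cj l E ≤ K := cj_le_of_le f.bs.EL (le_normalizer hl)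
  have eA := f.bs.sy.el.cj l
  have AQ : cj l E ≤ QQ x J := fun a ha =>
    q (mem_JJ (AK ha) (eA.comm ha xA) (two_of_sq (eA a ha)))
  have p := (h'.pc.pc_centralizer eA.two (AQ.trans (cpc_le x J)) (comm_QQ h'.pc le_rfl AQ)).1
  obtain ⟨a, ha, oa⟩ := exists_involution_mem p.dvd_card
  obtain ⟨d, hd, od, dt⟩ := exists_comm_inv ha oa h.tt (normalizer_le_normalizer_pec _
    (nor_inf (un.uq.nor h' (mem_cen1.2 (h.comm hx).symm)) (le_normalizer
      (H99.Wr.mem_cen.2 fun a ha => h.comm (AK ha)))))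
  obtain ⟨dJ, dA⟩ := mem_inf.1 (pec_le _ hd)
  have dd := mul_self_of_two od
  have dN : d ∈ NN t K := ⟨mem_cen1.2 dt, un.uq.nor h (mem_cen1.2 dt)⟩
  obtain ⟨e, he, h4⟩ := f.ce (l⁻¹ * d * l) (mem_inf.2 ⟨mul_mem (mul_mem (inv_mem lN) dN) lN,
    mem_cj.1 ((cj_centralizer l E).ge dA)⟩) (two_of_sq (by simpa using sq_conj dd l⁻¹))
  have h5 := conj_mem_of_mem_normalizer (h.nor_QQ lN) h4
  rw [show l * (l⁻¹ * d * l * e) * l⁻¹ = d * (l * e * l⁻¹) by group] at h5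
  have ha := conj_mem_cj (g := l) he
  generalize l * e * l⁻¹ = a at h5 ha
  have da : Commute a d := dA a ha
  have nq : d * a ∉ QQ x J := fun e1 => ne_one_of_two od
    (un.inf h' dJ ((mul_mem_cancel_right (AQ ha)).1 e1) (two_of_sq dd))
  obtain ⟨J', h6, -, h7, -⟩ := un.tr t (d * a) K h (orderOf_two_of_mul_self (by
    rw [mul_assoc, ← mul_assoc a, da.eq, mul_assoc, eA a ha, mul_one, dd])
    fun e1 => nq (e1 ▸ one_mem _)) h5
  have c : Commute (d * a) x := Commute.mul_left (dA x xA).symm (eA.comm ha xA)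
  rcases b1 x _ J J' h' h6 c nq (mul_mem (mem_sup_left dJ) (mem_sup_right (AQ ha))) with e1 | e1
  · exact un.z0 h' h6 e1 (h7 (mem_JJ hx c.symm x2))
  · have := card_le_of_le (show cj l E ≤ zpowers x from fun b hb =>
      (H99.Wr.mem_zpowers_sq h'.tt).2 (e1.1 b (AQ hb) (two_of_sq (eA b hb))))
    rw [card_cj, f.bs.sy.cE, Nat.card_zpowers, h'.ot] at this
    omega

theorem Un.out (un : Un G) (b1 : PB1 G) (h : MC t K) (h' : MC s J) (st : Commute s t)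
    (h0 : s ∉ K ⊔ QQ t K) : Fin0 G := by
  obtain ⟨n, S, E, E', f⟩ := un.mg t K h
  have sN : s ∈ NN t K := ⟨mem_cen1.2 st, un.uq.nor h (mem_cen1.2 st)⟩
  obtain ⟨l, hl, h1⟩ := f.ot.ns _ (zpowers_le.2 sN) (two_of_sq h'.tt).isPGroup
  have lN := h.le_NN hl
  have h2 := h1 (conj_mem_cj (mem_zpowers s))
  obtain ⟨e1, e2⟩ := (f.bs.blkS h2).swap fun e => h0 (by
    simpa [mul_assoc] using conj_mem_of_mem_normalizer' (h.nor_sup lN)
      (f.ot.inn (mem_inf.2 ⟨mul_mem (mul_mem lN sN) (inv_mem lN), e⟩)))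
  have hJ := h'.cj l
  generalize l * s * l⁻¹ = v at *
  generalize cj l J = M at *
  obtain ⟨y, hy, h3, h4, h5, w, -, h6⟩ := (H44.WrO.jobSW G S E E' v f.bs.sy e1 e2).2 h2 hJ.tt
  obtain ⟨_, _, _, _, f'⟩ := un.mg v M hJ
  have yN : y ∈ NN v M := ⟨mem_cen1.2 h3, un.uq.nor hJ (mem_cen1.2 h3)⟩
  have h7 : y * y ∈ M ⊔ QQ v M := by
    by_cases e : y ∈ M ⊔ QQ v M
    exacts [mul_mem e e, f'.ot.out y yN y yN e e]
  have yy := f.bs.sy.el _ h4.1
  have c : Commute (y * y) v := Commute.mul_left h3 h3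
  have hw := hJ.cj w
  rw [h6] at hw
  obtain ⟨h8, h9⟩ := (b1 v _ M _ hJ hw (c.mul_left (Commute.refl v)) (fun e => by
    obtain ⟨J', k, -⟩ := un.tr v _ M hJ (orderOf_two_of_mul_self yy h5)
      ((mul_mem_cancel_right hJ.tQQ).1 e)
    exact un.zz b1 h k (f.bs.EL h4.1)) (mul_mem h7 (mem_sup_right hJ.tQQ))).resolve_left
    (un.zz b1 hJ hw)
  rw [c.eq, ttc hJ.tt] at h9
  exact ⟨v, M, hJ, h8, fun g => un.zz b1 hJ (hJ.cj g), w, _, h9, h5, yy, h6.trans c.eq⟩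

theorem exists_comm_conj (hA : AS G) (hO : oddCore G = ⊥) (ot : orderOf t = 2) :
    ∃ g : G, Commute (g * t * g⁻¹) t ∧ g * t * g⁻¹ ≠ t := by
  by_contra h
  push Not at h
  have tt := mul_self_of_two ot
  obtain ⟨T, hT, h1⟩ := exists_isSyl_le (two_of_sq tt).isPGroup le_top
  obtain ⟨N, hN, h2, h3⟩ := H14.zstarThm hT.toSylowTop t ot (h1 (mem_zpowers t)) fun g hg => by
    by_cases e : Commute (g * t * g⁻¹) t
    · exact h g e
    obtain ⟨x, -, h2, -, h3, -, h4⟩ := exists_d2 (sq_conj tt g) tt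
      (two_of_mem hT.isPGroup (T.mul_mem hg (h1 (mem_zpowers t)))) e
    have := h x (h4 ▸ h3.mul_left (Commute.refl t))
    rw [h4, mul_eq_right] at this
    exact (ne_one_of_two h2 this).elim
  have := H2.le_oddCore h2
  exact ne_one_of_two ot (mem_bot.1 (hA.cen_eq ▸ H99.Wr.mem_cen.2 fun a _ =>
    (commutatorElement_eq_one_iff_mul_comm.1 (mem_bot.1 (hO ▸ this (h3 a)))).symm))

theorem jobSB : JobSB.{u} := by
  intro G _ _ un b1 t s K J h h' st sq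
  by_cases h0 : s ∈ K ⊔ QQ t K
  swap
  · exact un.out b1 h h' st h0
  have th := ((b1 t s K J h h' st sq h0).resolve_left (un.zz b1 h h')).1
  obtain ⟨g, h1, h2⟩ := exists_comm_conj un.as un.odd h.ot
  have hg := h.cj g
  by_cases h3 : g * t * g⁻¹ ∈ K ⊔ QQ t K
  swap
  · exact un.out b1 h hg h1 h3
  refine ⟨t, K, h, th, fun g => un.zz b1 h (h.cj g), g, _, ((b1 t _ K _ h hg h1
    (fun e => (th _ e (two_of_sq hg.tt)).elim hg.t1 h2) h3).resolve_left (un.zz b1 h hg)).2,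
    fun e => h2 ((eq_inv_of_mul_eq_one_right e).trans (inv_eq_of_two h.ot)), ?_, (ttc h.tt _).symm⟩
  rw [mul_assoc, ← mul_assoc _ t, h1.eq, mul_assoc, hg.tt, mul_one, h.tt]

theorem jobLoc : JobLoc.{u} := by
  intro G _ _ n t K S E E' f hn th nc fu
  have h := f.mc
  obtain ⟨M⟩ := h.mo
  have eN : NN t K = cen1 t := inf_eq_left.2 hn
  have star : ∀ p ∈ K ⊔ QQ t K, Two p → p ∈ K ∨ t * p ∈ K := fun p hp p2 => by
    obtain ⟨k, hk, q, hq, rfl⟩ := h.dec hp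
    have kN := h.le_NN hk
    have qN := h.QQ_le hq
    obtain ⟨j, hj⟩ := M.two (mul_mem kN qN) p2
    rw [M.mul kN qN, (show Commute (M.π k) (M.π q) from (M.cen_iff qN).2 hq _ (M.memK hk)).mul_pow,
      ← M.pow qN] at hj
    obtain ⟨a, ha, o, ho, e⟩ := (mem_sup_left_norm (h.le_NN.trans NN_le_nor_oc)).1
      ((M.memL (pow_mem qN _)).1 (eq_inv_of_mul_eq_one_right hj ▸ inv_mem (pow_mem (M.memK hk) _)))
    obtain ⟨m, h1, h2⟩ := exists_two_pow (N := oc t) (x := q) (k := j) (e ▸ mul_mem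
      (f.inf ⟨ha, (mul_mem_cancel_right (oc_le_cpc h.pc ho)).1 (e ▸ pow_mem hq _)⟩) ho)
    have c := (mul_mem kN qN).1
    refine (th _ (pow_mem hq m) h1).imp (fun e1 => pc_two h.pc c p2 (mul_mem (mem_sup_left hk)
      (mem_sup_right (by simpa [e1] using inv_mem h2)))) fun e1 => pc_two h.pc
        ((cen1 t).mul_mem h.tNN.1 c) (two_mul' (two_of_sq h.tt) p2 (mem_cen1.1 c).symm) ?_
    have := mul_mem (mem_sup_left hk) (mem_sup_right (S := K) (inv_mem h2))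
    rwa [e1, mul_inv_rev, inv_inv, inv_eq_of_two h.ot, ← mul_assoc, (h.comm hk).eq, mul_assoc] at this
  have act : ∀ {E E'}, Bs K S E E' → NN t K ⊓ nor E ≤ K ⊔ QQ t K →
      cen1 t ⊓ nor E ≤ K ⊓ nor E ⊔ cen E := fun {E E'} b inn c hc => by
    have cN : c ∈ NN t K := eN ▸ hc.1
    obtain ⟨k, hk, q, hq, rfl⟩ := h.dec (inn ⟨cN, hc.2⟩)
    have EN := b.EL.trans h.le_NN
    have e : ∀ a ∈ E, M.π k * M.π a * (M.π k)⁻¹ = M.π (k * q * a * (k * q)⁻¹) := fun a ha => by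
      rw [M.conj cN (EN ha), M.mul (h.le_NN hk) (h.QQ_le hq), mul_assoc (M.π k) (M.π q),
        ← (M.cen_iff (h.QQ_le hq)).2 hq _ (M.memK (b.EL ha))]; group
    obtain ⟨y, -, -, y1, y2, -, y3⟩ := M.lift_nor b.sy.el.two (x := M.π k) fun a ha =>
      M.mem_st (EN ha) (conj_mem_of_mem_normalizer hc.2 ha)
        (EN (conj_mem_of_mem_normalizer hc.2 ha)) (e a ha)
    rw [← mul_inv_cancel_left y (k * q)]
    refine mul_mem (mem_sup_left ⟨y2 (M.memK hk), y1⟩) (mem_sup_right (H99.Wr.mem_cen.2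
      fun a ha => (H99.Wr.comm_of_cj ?_).symm))
    calc _ = y⁻¹ * (k * q * a * (k * q)⁻¹) * y := by group
      _ = a := by rw [← y3 a ha _ (conj_mem_of_mem_normalizer hc.2 ha) (e a ha)]; group
  have tK : ∀ A ≤ K, t ∈ nor A := fun A hA => cen_nor (H99.Wr.mem_cen.2 fun _ ha => h.comm (hA ha))
  have syl : ∀ {E E'}, Bs K S E E' → NN t K ⊓ nor E ≤ K ⊔ QQ t K →
      IsSyl 2 (S ⊔ zpowers t) (cen1 t ⊓ nor E) := fun {E E'} b inn => by
    refine ⟨sup_le (le_inf (b.SL.trans h.pc.le) b.sy.SN) (zpowers_le.2 ⟨h.tNN.1, tK _ b.EL⟩),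
      IsPGroup.to_sup_of_normal_left' b.sy.two (two_of_sq h.tt).isPGroup
        (zpowers_le.2 (tK _ b.SL)), fun Q hQ h1 h2 => le_antisymm (fun x hx => ?_) h1⟩
    have e := b.syl.eq_of_le (hQ.to_le (inf_le_left : Q ⊓ K ≤ Q))
      (le_inf (le_sup_left.trans h1) b.SL) fun y hy => ⟨hy.2, (h2 hy.1).2⟩
    have tQ := h1 (mem_sup_right (mem_zpowers t))
    rcases star x (inn ⟨eN ▸ (h2 hx).1, (h2 hx).2⟩) (two_of_mem hQ hx) with e1 | e1
    · exact mem_sup_left (e.le ⟨hx, e1⟩)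
    · exact (mul_mem_cancel_left (mem_sup_right (mem_zpowers t))).1
        (mem_sup_left (e.le ⟨Q.mul_mem tQ hx, e1⟩))
  refine ⟨f.bs, h.ot, h.pc.le, hn, (h.pc.res_eq 2).ge, nc, fu, eN ▸ f.ot.ns, act f.bs f.ot.inn,
    act f.bs.symm f.ot.inn', syl f.bs f.ot.inn, syl f.bs.symm f.ot.inn', fun c hc c2 =>
      star _ ?_ (pow_two c ▸ Two.pow c2 2), eN ▸ f.ot.oi⟩
  by_cases e : c ∈ K ⊔ QQ t K
  exacts [mul_mem e e, f.ot.out c (eN ▸ hc) c (eN ▸ hc) e e]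

end H42.ML
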