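import Cfsg.Agent.H42.MLG1
import Cfsg.Agent.H92.SolR
import Cfsg.Agent.H21.Multiplier
import Cfsg.Agent.S2047
import Cfsg.Agent.S2050

/-! Tower MCLY, slots Dg and PU: diagonal components and pump-ups of components of type `M`. -/

set_option autoImplicit false
set_option linter.unusedSectionVars false

namespace H42.ML

open Cfsg Subgroup H14 H98 H1.Gold H42.An
open H99.Wr (El Sy AS Blk)
open H31.S2 (oc)
open scoped commutatorElement

universe u

variable {G : Type u} [Group G] [Finite G] {a b c d e g k l q r s t v x y z : G} {n : ℕ}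
  {A B D E E' J K L N P Q R S T : Subgroup G}

/-- A quotient of a quasisimple group without odd core has no odd core. -/
theorem odd_of_quasi {X Y : Type*} [Group X] [Finite X] [Group Y] [Finite Y] (hq : IsQuasisimple X)
    (hO : pPrimeCore 2 X = ⊥) (f : X →* Y) (hf : Function.Surjective f) [Nontrivial Y] :
    pPrimeCore 2 Y = ⊥ := by
  have ho : Odd (Nat.card (pPrimeCore 2 Y)) :=
    Nat.coprime_two_right.1 (H2.coprime_card_pPrimeCore 2 Y)
  rcases quasi_normal hq ((pPrimeCore 2 Y).comap f) with e | e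
  · have e1 : pPrimeCore 2 Y = ⊤ := eq_top_iff.2 fun y _ => by
      obtain ⟨x, rfl⟩ := hf y
      exact e.ge (mem_top x)
    exact absurd e1.ge (quasi_not_le_solvable (quasi_top_iff.2 (quasi_of_surjective hq f hf))
      (H31.S2.sol_of_odd ho))
  · refine eq_bot_iff.2 fun y hy => ?_
    obtain ⟨x, rfl⟩ := hf y
    obtain ⟨k, hk⟩ := H92.SolR.two_of_center hO (e hy)
    exact eq_one_of_two ⟨k, by rw [← map_pow, hk, map_one]⟩ (odd_of_mem ho hy)

theorem jobDg : JobDg.{u} := by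
  intro G _ _ c y J D hy hc hJ hn hD hle
  let x : cen1 c := ⟨y, mem_cen1.2 hc⟩
  have x2 : pq 2 _ x ^ 2 = 1 := by
    rw [← map_pow, show x ^ 2 = 1 from Subtype.ext ((pow_two y).trans hy), map_one]
  have hJ' := pc_cj hJ x.2
  have hs := hJ.cp_bar.sep (x := pq 2 _ x) Nat.prime_two (le_normalizer trivial)
    (by rw [x2]; exact one_mem _) fun e => hn (cj_eq_self_iff.1 (hJ'.eq_of_bar_eq hJ
      ((bar_cj x hJ.le).trans (cj_eq_self e))))
  have hDC : D ≤ cen1 c := hD.le.trans inf_le_left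
  have hb : bar 2 (cen1 c) D ≠ ⊥ := fun e => hD.not_le_opp _ ((bar_eq_bot_iff hDC).1 e)
  have he : bar 2 (cen1 c) D = hs.hom.range := by
    refine hJ.cp_bar.eq_range (le_normalizer trivial) hs two_pos (by rw [x2]; exact one_mem _) ?_
      (by rw [← bar_commutator hDC hDC, hD.perfect]) hb ?_
    · rw [← bar_centralizer x (two_of_sq (Subtype.ext hy)).isPGroup]
      exact (hD.subgroupOf inf_le_left).subN.map _
    · rw [orb_two, ← bar_cj x hJ.le, ← bar_sup hJ.le hJ'.le]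
      exact bar_mono hle
  let ψ : D →* hs.hom.range := ((pq 2 (cen1 c)).comp (inclusion hDC)).codRestrict _
    fun d => he ▸ mem_bar d.2
  have hψ : Function.Surjective ψ := fun r => by
    obtain ⟨a, ha, e⟩ := he.ge r.2
    exact ⟨⟨a, ha⟩, Subtype.ext e⟩
  have : Nontrivial hs.hom.range := (nontrivial_iff_ne_bot _).2 (he ▸ hb)
  have hO : pPrimeCore 2 hs.hom.range = ⊥ := odd_of_quasi hJ.cp_bar.quasi
    (opp_eq_bot_iff.1 (eq_bot_iff.2 ((opp_le_of_subN hJ.cp_bar.subN).trans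
      (opp_top_quotient _).le))) _ hs.hom.rangeRestrict_surjective
  have hk : pPrimeCore 2 D = ψ.ker := by
    rw [← H2.comap_pPrimeCore_of_coprime_ker ψ hψ, hO, MonoidHom.comap_bot]
    refine cop (odd_of_le (Y := (oc c).subgroupOf D) (fun d hd => ?_) ?_)
    · exact ⟨inclusion hDC d, (QuotientGroup.eq_one_iff _).1 (congrArg Subtype.val hd), rfl⟩
    · rw [← inf_subgroupOf_right, card_subgroupOf_of_le inf_le_right]
      exact odd_of_le inf_le_left (odd_opp _)
  let e := (QuotientGroup.quotientMulEquivOfEq hk).trans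
    (QuotientGroup.quotientKerEquivOfSurjective ψ hψ)
  let β : J →* bar 2 (cen1 c) J := ((pq 2 (cen1 c)).comp (inclusion hJ.le)).codRestrict _
    fun j => mem_bar j.2
  have hβ : Function.Surjective β := fun r => by
    obtain ⟨a, ha, e⟩ := r.2
    exact ⟨⟨a, ha⟩, Subtype.ext e⟩
  refine ⟨e.symm.toMonoidHom.comp (hs.hom.rangeRestrict.comp β),
    e.symm.surjective.comp (hs.hom.rangeRestrict_surjective.comp hβ), fun j d => ?_⟩
  have e1 : nrm (pq 2 _ x) 2 (pq 2 _ (inclusion hJ.le j)) =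
      pq 2 _ (inclusion hJ.le j * (x * inclusion hJ.le j * x⁻¹)) := by rw [← map_nrm, nrm_two]
  refine e.symm_apply_eq.trans (Subtype.ext_iff.trans ?_)
  change nrm (pq 2 _ x) 2 (pq 2 _ (inclusion hJ.le j)) = pq 2 _ (inclusion hDC d) ↔ _
  rw [e1]
  refine QuotientGroup.eq.trans ⟨fun h => ⟨_, h, rfl⟩, fun ⟨w, h, e2⟩ => ?_⟩
  exact (show w = (inclusion hJ.le j * (x * inclusion hJ.le j * x⁻¹))⁻¹ * inclusion hDC d from
    Subtype.ext e2) ▸ h

/-- The map of `PDg` factors through `J / O(J)` with central kernel. -/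
theorem PDg.bar (h : PDg G) (hy : y * y = 1) (hc : Commute y c) (hJ : PC 2 J (cen1 c))
    (hn : y ∉ nor J) (hD : PC 2 D (cen1 c ⊓ cen1 y)) (hle : D ≤ J ⊔ cj y J) :
    ∃ f : J ⧸ pPrimeCore 2 J →* D ⧸ pPrimeCore 2 D, Function.Surjective f ∧ f.ker ≤ center _ ∧
      ∀ (j : J) (d : D), f j = (d : D ⧸ pPrimeCore 2 D) ↔
        ((j : G) * (y * j * y⁻¹))⁻¹ * d ∈ oc c := by
  obtain ⟨f, hf, h1⟩ := h c y J D hy hc hJ hn hD hle
  let φ := QuotientGroup.lift (pPrimeCore 2 J) f fun j hj => (h1 j 1).2 (by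
    have k : (j : G) ∈ oc c := hJ.opp_le ⟨j, hj, rfl⟩
    rw [coe_one, mul_one]
    exact inv_mem (mul_mem k (conj_mem_of_mem_normalizer
      (H31.S2.cen1_le_nor_oc c (mem_cen1.2 hc)) k)))
  have hφ : Function.Surjective φ := fun w => let ⟨j, e⟩ := hf w; ⟨j, e⟩
  refine ⟨φ, hφ, (quasi_normal hJ.2.2 φ.ker).resolve_left fun e => ?_, h1⟩
  have := quasi_nontrivial hD.2.2
  obtain ⟨w, hw⟩ := exists_ne (1 : D ⧸ pPrimeCore 2 D)
  obtain ⟨j, rfl⟩ := hφ w
  exact hw (e.ge (mem_top j))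

/-- A central extension of a group with odd multiplier by a `2`-group. -/
theorem iso_of_mult {X Y Z : Type*} [Group X] [Finite X] [Group Y] [Group Z] {m : ℕ}
    (hq : IsQuasisimple X) (hO : pPrimeCore 2 X = ⊥) (f : X →* Y) (hf : Function.Surjective f)
    (hk : f.ker ≤ center X) (e : Y ≃* Z) (hm : HasCyclicSchurMultiplier Z m) (ho : Odd m) :
    Nonempty (X ≃* Z) := by
  have k : (e.toMonoidHom.comp f).ker = f.ker := by
    rw [← MonoidHom.comap_ker, (MonoidHom.ker_eq_bot_iff _).2 e.injective, MonoidHom.comap_bot]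
  have h1 := H21.card_ker_dvd_of_stem hm (e.toMonoidHom.comp f) ⟨e.surjective.comp hf, k ▸ hk,
    le_top.trans (quasi_perfect hq).commutator_eq_top.ge⟩
  rw [k, Nat.card_congr Multiplicative.toAdd, Nat.card_zmod] at h1
  exact ⟨(MulEquiv.ofBijective f ⟨(MonoidHom.ker_eq_bot_iff f).1 (eq_bot_iff.2 fun x hx =>
    eq_one_of_two (H92.SolR.two_of_center hO (hk hx)) (odd_of_mem (ho.of_dvd_nat h1) hx)),
    hf⟩).trans e⟩

theorem jobPU : JobPU.{u} := by
  intro G _ _ dg ind t s K h hs hq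
  have ss := mul_self_of_two hs
  obtain ⟨h1, -, h2⟩ := h.pc0 ss hq
  have hc : Commute t s := (mem_cen1.1 (cpc_le t K hq)).symm
  rw [inf_comm] at h1
  obtain ⟨J, h3, -, h4⟩ := exists_pump h.tt hc h1
  by_cases hn : t ∈ nor J
  · have h5 : JJ K s ≤ J := by rwa [cj_eq_self hn, sup_idem] at h4
    have h6 : t ∈ QQ s J := by
      by_contra k
      exact ind s t J _ (ne_one_of_two hs) h.tt hc h3 hn k h1 h5 h2
    exact ⟨J, ⟨hs, h3, (TyM.cover h5 (cover_of_QQ h.tt h3 h6 h1 h5).2).1 h2⟩, h4, Or.inl h6⟩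
  · obtain ⟨f, hf, hk, -⟩ := dg.bar h.tt hc h3 hn h1 h4
    have hO := H2.pPrimeCore_quotient_pPrimeCore 2 J
    exact ⟨J, ⟨hs, h3, h2.imp
      (fun ⟨e⟩ => iso_of_mult h3.2.2 hO f hf hk e Agent.S2047.result (by decide))
      fun ⟨e⟩ => iso_of_mult h3.2.2 hO f hf hk e Agent.S2050.result odd_one⟩, h4, Or.inr hn⟩

end H42.ML
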