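import Cfsg.Agent.H42.MLG2
import Cfsg.Agent.H77.Simple
import Cfsg.Agent.S1702
import Cfsg.Agent.S2076

/-! Tower MCLY, slots R, Ind and FS: reduction to smaller groups. -/

set_option autoImplicit false
set_option linter.unusedSectionVars false

namespace H42.ML

open Cfsg Subgroup H14 H98 H1.Gold H42.An
open H99.Wr (El Sy AS Blk)
open H31.S2 (oc)
open scoped commutatorElement

universe u

variable {G : Type u} [Group G] [Finite G] {a b c d e g k l q r s t v x y z : G} {n : ℕ}
  {A B D E E' J K L N P Q R S T : Subgroup G}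

theorem simple_M {X : Type*} [Group X] (h : Spor.IsoMcL X ∨ Spor.IsoLy X) : IsSimpleGroup X := by
  have := H77.simple_McL
  have := Agent.S1702.result.1
  exact h.elim (fun ⟨e⟩ => e.isSimpleGroup) fun ⟨e⟩ => e.isSimpleGroup

theorem card_M {X : Type*} [Group X] (h : Spor.IsoMcL X ∨ Spor.IsoLy X) :
    898128000 ∣ Nat.card X := by
  rcases h with ⟨⟨e⟩⟩ | ⟨⟨e⟩⟩
  · rw [Nat.card_congr e.toEquiv, H77.card_McL]
  · rw [Nat.card_congr e.toEquiv, Agent.S1702.result.2]; norm_num

theorem center_of_simple {X : Type*} [Group X] [IsSimpleGroup X] (h : IsQuasisimple X) :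
    center X = ⊥ :=
  (inferInstance : (center X).Normal).eq_bot_or_eq_top.resolve_right (quasi_center_ne_top h)

theorem TyM.inf_cen (ty : TyM D) (h : PQuasi 2 D) : D ⊓ cen D ≤ opp 2 D := fun a ha => by
  have := simple_M ty
  refine ⟨⟨a, ha.1⟩, (QuotientGroup.eq_one_iff _).1 (mem_bot.1 ((center_of_simple h.2).le
    (center_map_le _ pq_surjective ⟨⟨a, ha.1⟩, mem_center_iff.2 fun g => ?_, rfl⟩))), rfl⟩
  exact Subtype.ext (ha.2 g g.2)

/-- A component of type `M` inside a quasisimple group `F` survives in `N(F) / C(F)`. -/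
theorem sec_red {m : ℕ} (ih : Thm.{u} m) {F : Subgroup G} (hF : IsQuasisimple F)
    (hd : 2 ∣ Nat.card F) (ht : t * t = 1) (hn : t ∈ nor F) (hc : t ∉ cen F)
    (hD : PC 2 D (cen1 t)) (hle : D ≤ F) (ty : TyM D) (hm : (cen F).relIndex (nor F) < m) :
    False := by
  have := normal_centralizer_subgroupOf (K := F) (H := nor F) le_rfl
  have h := isSecRep_mk' (K := F) (H := nor F) le_normalizer le_rfl
  set σ := QuotientGroup.mk' ((cen F).subgroupOf (nor F))
  let t' : nor F := ⟨t, hn⟩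
  have hDN : D ≤ nor F := hle.trans le_normalizer
  have hk : (Nat.card (σ.ker ⊓ D.subgroupOf (nor F) : Subgroup _)).Coprime 2 := by
    refine cop (odd_of_le (Y := (opp 2 D).subgroupOf (nor F)) (fun a ha => ty.inf_cen hD.2
      ⟨ha.2, fun g hg => h.eq_one_iff.1 ha.1 g (hle hg)⟩) ?_)
    rw [card_subgroupOf_of_le ((opp_le D).trans hDN)]
    exact odd_opp D
  have h1 : SubN ((F ⊓ cen1 t).subgroupOf (nor F)) ((cen1 (σ t')).comap σ) := by
    refine SubN.of_normal (fun a ha => mem_cen1.2 (Commute.map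
      (Subtype.ext (mem_cen1.1 ha.2) : a * t' = t' * a) σ)) fun g hg => ?_
    refine mem_normalizer_of_cj_le ?_
    rintro _ ⟨a, ha, rfl⟩
    refine ⟨conj_mem_of_mem_normalizer g.2 ha.1, mem_cen1.2 ?_⟩
    have k1 : ((g⁻¹ * t' * g * t'⁻¹ : nor F) : G) ∈ cen F := h.eq_one_iff.1 (by
      simp only [map_mul, map_inv]
      rw [mul_assoc _⁻¹, ← mem_cen1.1 hg]
      group)
    have k2 : Commute (a : G) ((g : G)⁻¹ * t * g) := by
      rw [show (g : G)⁻¹ * t * g = ((g : G)⁻¹ * t * g * t⁻¹) * t by group]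
      exact Commute.mul_right (k1 a ha.1) (mem_cen1.1 ha.2)
    have k3 := k2.map (MulAut.conj (g : G))
    simp only [MulAut.conj_apply] at k3
    rwa [show g * ((g : G)⁻¹ * t * g) * (g : G)⁻¹ = t by group] at k3
  have h2 := ((hD.of_le (le_inf hle hD.le) inf_le_right).subgroupOf
    (inf_le_left.trans le_normalizer)).trans h1
  have h3 := h2.map σ (h2.pquasi.map_ne_bot σ hk)
  rw [map_comap_eq_self_of_surjective h.surj] at h3
  exact ih _ hm (h.pPrimeCore_eq_bot hF hd) (h.fstar_eq hF ▸ h.quasi_map hF) (σ t') _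
    ⟨orderOf_two_of_mul_self (by rw [← map_mul, show t' * t' = 1 from Subtype.ext ht, map_one])
      fun e => hc (h.eq_one_iff.1 e), h3,
      ty.congr ((quotOppCongr 2 (subgroupOfEquivOfLe hDN).symm).trans (quotOppMapEquiv σ _ hk))⟩

theorem MC.le_fstar (h : MC t K) (hO : oddCore G = ⊥) : K ≤ generalizedFittingSubgroup G := by
  have := h.pc.le_two_top (H31.S2.isPGroup_zpowers_of_order h.ot)
  rw [pLayer_eq_layer_of_pPrimeCore_eq_bot hO] at this
  exact this.trans layer_le_fstar

theorem jobR : JobR.{u} := by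
  intro G _ _ ih hO hq hA t K h
  set F := generalizedFittingSubgroup G
  have hK := h.le_fstar hO
  by_cases hc : t ∈ cen F
  · have h0 : opp 2 F = ⊥ := eq_bot_iff.2 ((opp_le_of_subN (subN_top_iff.2
      (inferInstance : F.Normal).isSubnormal)).trans (by rw [opp_top]; exact hO.le))
    have e : K = F := ((h.pc.of_le hK fun g hg => mem_cen1.2 (hc g hg)).cp_of_opp_eq_bot h0).eq_of_le
      ⟨SubN.refl F, hq⟩ hK
    have := simple_M h.ty
    rw [e] at this
    exact hA ⟨((QuotientGroup.quotientMulEquivOfEq (opp_eq_bot_iff.1 h0)).trans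
      QuotientGroup.quotientBot).symm.isSimpleGroup, quasi_not_comm hq⟩
  refine sec_red ih hq (h.pc.dvd_card.trans (card_dvd_of_le hK)) h.tt
    (by rw [nor, normalizer_eq_top]; trivial) hc h.pc hK h.ty ?_
  rw [nor, normalizer_eq_top, relIndex_top_right, ← (cen F).index_mul_card]
  refine lt_mul_of_one_lt_right (Nat.pos_of_ne_zero index_ne_zero_of_finite)
    ((one_lt_card_iff_ne_bot _).2 fun e => hA ⟨simple_of_quasi hq (eq_bot_iff.2 fun a ha => ?_),
      quasi_not_comm hq⟩)
  exact Subtype.ext (e.le fun g hg => congrArg Subtype.val (mem_center_iff.1 ha ⟨g, hg⟩))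

theorem jobInd : JobInd.{u} := by
  intro G _ _ mn c y J D hc1 hy hc hJ hn hq hD hle ty
  let x : cen1 c := ⟨y, mem_cen1.2 hc⟩
  have hDC : D ≤ cen1 c := hD.le.trans inf_le_left
  have h1 := (hD.subgroupOf inf_le_left).map_of_coprime_ker (pq 2 _) (coprime_ker_pq_inf _)
  have h2 := bar_centralizer x (two_of_sq (Subtype.ext hy)).isPGroup
  rw [top_inf_eq] at h2
  refine sec_red mn.ih hJ.cp_bar.quasi hJ.dvd_card_bar (t := pq 2 _ x)
    (by rw [← map_mul, show x * x = 1 from Subtype.ext hy, map_one])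
    (pq_mem_normalizer_bar hJ.le hn) (fun e => hq ((mem_cpc hJ.le).2 ⟨x.2, fun k hk => ?_⟩))
    ((congrArg (PC 2 _) h2).mp h1) (bar_mono hle) (ty.congr ((quotOppCongr 2 (subgroupOfEquivOfLe hDC).symm).trans
      (quotOppMapEquiv _ _ (coprime_ker_pq_inf _)))) ?_
  · refine ⟨⁅(⟨k, hJ.le hk⟩ : cen1 c), x⁆, (QuotientGroup.eq_one_iff _).1 ?_, rfl⟩
    exact (map_commutatorElement (pq 2 _) _ _).trans
      (commutatorElement_eq_one_iff_commute.2 (e _ (mem_bar hk)))
  · refine lt_of_le_of_lt (Nat.le_of_dvd Nat.card_pos ((relIndex_dvd_card _ _).trans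
      ((card_subgroup_dvd_card _).trans (card_quotient_dvd_card _))))
      (lt_of_le_of_ne (card_le_card_group _) fun e => hc1 (mem_bot.1 (mn.as.cen_eq.le fun g _ => ?_)))
    exact mem_cen1.1 ((eq_top_of_card_eq _ e).ge (mem_top g))

/-- Every automorphism of `Ly` is inner. -/
theorem nor_le_of_ly (h : Spor.IsoLy L) : nor L ≤ L ⊔ cen L := fun g hg => by
  obtain ⟨e⟩ := h
  have := (Nat.card_eq_one_iff_unique.1 Agent.S2076.result).1
  obtain ⟨b, hb⟩ := (QuotientGroup.eq_one_iff (N := Inn Spor.Ly) (e.symm.trans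
    ((L.normalizerMonoidHom ⟨g, hg⟩).trans e))).1 (Subsingleton.elim _ _)
  rw [show g = e.symm b * ((e.symm b : G)⁻¹ * g) by group]
  refine mul_mem_sup (e.symm b).2 fun a ha => ?_
  have k := congrArg (fun x => (e.symm x : G)) (DFunLike.congr_fun hb (e ⟨a, ha⟩))
  simp only [MulAut.conj_apply, map_mul, map_inv, MulEquiv.symm_apply_apply, MulEquiv.trans_apply,
    coe_mul, coe_inv, normalizerMonoidHom_apply_apply_coe] at k
  calc a * ((e.symm b : G)⁻¹ * g) = (e.symm b : G)⁻¹ * (e.symm b * a * (e.symm b : G)⁻¹) * g := by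
        group
    _ = _ := by rw [k]; group

theorem card_dc {X : Type*} [Group X] [Finite X]
    (h : IsNonsplitDoubleCover X (alternatingGroup (Fin n))) (hn : 2 ≤ n) :
    Nat.card X = n.factorial := by
  obtain ⟨h1, ⟨e⟩, -⟩ := h
  have : Nontrivial (Fin n) := Fin.nontrivial_iff_two_le.2 hn
  rw [card_eq_card_quotient_mul_card_subgroup (center X), h1, Nat.card_congr e.toEquiv, mul_comm,
    two_mul_nat_card_alternatingGroup, Nat.card_perm, Nat.card_eq_fintype_card, Fintype.card_fin]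

theorem jobFS : JobFS.{u} := by
  intro l0 G _ _ hA hO e t K h
  set F := generalizedFittingSubgroup G
  have hK := h.le_fstar hO
  have hd := Nat.le_of_dvd Nat.card_pos ((card_M h.ty).trans (card_quotient_dvd_card _))
  rcases e with ⟨⟨e⟩⟩ | e
  · have e1 : K = F := eq_of_le_of_card_ge hK (by rwa [Nat.card_congr e.toEquiv, H77.card_McL])
    exact h.t1 (mem_bot.1 (hA.cen_eq.le fun g hg => h.comm (e1.ge hg)))
  · have ht : t ∈ F := by
      have := nor_le_of_ly e (show t ∈ nor F by rw [nor, normalizer_eq_top]; trivial)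
      rwa [hA.cen_eq, sup_bot_eq] at this
    have h1 := card_dc ((l0 F e).2.2 ⟨t, ht⟩ ((orderOf_coe _).symm.trans h.ot)) (by norm_num)
    have h2 := card_le_of_le (H := K.subgroupOf F) (K := cen1 (⟨t, ht⟩ : F)) fun a ha =>
      mem_cen1.2 (Subtype.ext (h.comm ha))
    rw [card_subgroupOf_of_le hK, h1] at h2
    exact absurd (hd.trans h2) (by decide)

end H42.ML
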