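import Cfsg.Agent.H42.MLKit
import Cfsg.Agent.H53.WrJob1

/-! Tower MCLY (`blueprints/MCLY.md`): J1a, J1b, J2, AB0. -/

set_option autoImplicit false
set_option linter.unusedSectionVars false

namespace H42.ML

open Subgroup Cfsg H98 H1.Gold H99.Wr
open H53.Wr (UU th)
open scoped commutatorElement

universe u

variable {G : Type u} [Group G] [Finite G] {t z ρ a b c e f g k l n o v w x y τ σ : G}
  {L S E E' E₁ F₁ Y Y₁ S₁ T P Q A B D K M N W : Subgroup G}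

open H53.Wr (th_eq_one th_mul th_inv th_conj th_eq_dg conj_mem_UU mem_UU_of comm_of_th_eq le_UU)

theorem nor_sup_t (hc : c * t = t * c) (hn : c ∈ nor A) : c ∈ nor (A ⊔ zpowers t) :=
  cj_eq_self_iff.1 (by rw [cj_sup, cj_eq_self hn, cj_zpowers, cj_of_comm hc])

theorem nor_WW (hc : c * t = t * c) (hn : c ∈ nor A) : c ∈ nor (WW t A) :=
  cj_eq_self_iff.1 (by rw [WW, cj_sup, cj_eq_self hn, cj_eq_self (mem_nor_cj hc hn)])

theorem cen_WW : c ∈ cen (WW t A) ↔ c ∈ cen A ∧ c ∈ cen (cj t A) := by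
  show c ∈ centralizer _ ↔ _
  rw [WW, centralizer_sup]; rfl

theorem act_eq (h : n⁻¹ * c ∈ cen A) (ha : a ∈ A) : c * a * c⁻¹ = n * a * n⁻¹ := by
  calc _ = n * (n⁻¹ * c * a * (n⁻¹ * c)⁻¹) * n⁻¹ := by group
    _ = _ := by rw [cj_of_comm (mem_cen.1 h a ha).symm]

theorem sq_conj (h : a * a = 1) (g : G) : g * a * g⁻¹ * (g * a * g⁻¹) = 1 := by
  calc _ = g * (a * a) * g⁻¹ := by group
    _ = 1 := by rw [h]; group

theorem nor_diag (w : Wp t A B) (hc : c * t = t * c) (hn : c ∈ nor (WW t A)) : c ∈ nor B :=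
  mem_normalizer_of_cj_le (Ct.cj_diag w w hc (cj_eq_self hn))

theorem cen_diag (w : Wp t A B) (hc : c * t = t * c) (hn : c ∈ nor A) : c ∈ cen A ↔ c ∈ cen B :=
  ⟨fun h => mem_cen.2 fun s hs => by
    obtain ⟨a, ha, rfl⟩ := (w.diag s).1 hs
    exact (comm_of_cj (by rw [← dg_conj hc, cj_of_comm (mem_cen.1 h a ha).symm])).symm,
  fun h => mem_cen.2 fun a ha => (comm_of_cj (w.dg_inj (conj_mem_of_mem_normalizer hn ha) ha (by
    rw [dg_conj hc, cj_of_comm (mem_cen.1 h _ (w.dg_mem ha)).symm]))).symm⟩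

theorem dbl_of (w : Wp t A B) (he : El A) : Dbl t A B :=
  ⟨he, w.comm, fun _ => w.dg_mem, fun _ ha e => w.dg_inj ha (one_mem _) (by rw [e, dg_one]),
    fun s => (w.diag s).1⟩

theorem nor_UU {ht : t * t = 1} (hc : c * t = t * c) (hn : c ∈ nor E) : c ∈ nor (UU t ht E) :=
  mem_normalizer_of_cj_le (by rintro _ ⟨x, hx, rfl⟩; exact conj_mem_UU hc hn hx)

/-- `U = Q C_U(t)` -/
theorem decU {ht : t * t = 1} (he : El E) (h : IsSyl 2 Q (UU t ht E)) (hx : x ∈ UU t ht E) :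
    ∃ q ∈ Q, ∃ c ∈ cen1 t ⊓ cen E, x = q * c := by
  obtain ⟨q, hq, r, hr, e⟩ := h.exists_mul_res hx
  refine ⟨q, hq, r, ⟨res_le_of_forall_pow (K := cen1 t) (fun d hd => ⟨1, ?_⟩) hr, (res_le _ hr).1⟩, e⟩
  rw [pow_one, pow_two, mem_cen1, ← th_eq_one ht, th_mul ht hd.1 hd.2]
  exact he _ hd.2

theorem WW_le_UU {ht : t * t = 1} (h : Dbl t E₁ E) (hE : t ∈ cen E) :
    WW t E₁ ⊔ zpowers t ≤ UU t ht E :=
  sup_le (sup_le (le_UU ht h) (cj_le_of_le_of_mem (le_UU ht h) (mem_UU_of hE rfl)))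
    (zpowers_le.2 (mem_UU_of hE rfl))

theorem two_Wt (ht : t * t = 1) (h : IsPGroup 2 (WW t A)) : IsPGroup 2 ↥(WW t A ⊔ zpowers t) :=
  IsPGroup.to_sup_of_normal_left' h (el_zpowers ht).two (zpowers_le.2 (t_mem_nor ht A))

/-- an involution of `W⟨t⟩` outside `W` -/
theorem inv_Wt (w : Wp t A B) (hx : x ∈ WW t A ⊔ zpowers t) (h1 : x ∉ WW t A) (h2 : x * x = 1) :
    ∃ a ∈ A, a * t * a⁻¹ = x := by
  have e : x * t * t = x := by rw [mul_assoc, w.tt, mul_one]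
  obtain ⟨a, ha, e1⟩ := invol_coset w.tt w.comm w.bot
    ((mem_coset (t_mem_nor w.tt A) w.tt hx).resolve_left h1) (by rw [e, h2])
  exact ⟨a, ha, e1.trans e⟩

namespace Loc

variable (h : Loc t L S E E')
include h

theorem tF : t ∈ E ⊔ zpowers t := mem_sup_right (mem_zpowers t)

theorem thF (hg : g ∈ nor (E ⊔ zpowers t)) : g * t * g⁻¹ * t ∈ E :=
  (h.mem_F.1 (conj_mem_of_mem_normalizer hg h.tF)).resolve_left fun e => h.nconj g (h.EL e)

/-- an element of `E⟨t⟩` that is not conjugate to `t` -/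
theorem mem_E (hx : x ∈ E ⊔ zpowers t) (h1 : ∀ g : G, g * t * g⁻¹ ≠ x) : x ∈ E :=
  (h.mem_F.1 hx).resolve_right fun e => by
    obtain ⟨g, hg⟩ := h.tx (h.EL e) (h.sy.el _ e)
    exact h1 g (by rw [hg, ← h.cL (h.EL e), mul_assoc, h.tt, mul_one])

theorem norF_E (hg : g ∈ nor (E ⊔ zpowers t)) : g ∈ nor E := mem_normalizer_of_cj_le (by
  rintro _ ⟨e, he, rfl⟩
  refine h.mem_E (conj_mem_of_mem_normalizer hg (mem_sup_left he)) fun k hk => h.nconj (g⁻¹ * k) ?_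
  have : g⁻¹ * k * t * (g⁻¹ * k)⁻¹ = e := by
    calc _ = g⁻¹ * (k * t * k⁻¹) * g := by group
      _ = e := by rw [hk]; simp [mul_assoc]
  exact this ▸ h.EL he)

theorem move : ∃ g ∈ nor (E ⊔ zpowers t), g * t ≠ t * g := by
  by_contra hno
  push Not at hno
  obtain ⟨e, he, e1⟩ := (bot_or_exists_ne_one E).resolve_left fun e => by
    simpa [e] using h.sy.cE
  obtain ⟨k, hk⟩ := h.tx (h.EL he) (h.sy.el e he)
  have k1 : k⁻¹ * (t * e) * k⁻¹⁻¹ = t := by rw [← hk]; group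
  obtain ⟨l, hl, e2⟩ := h.big (h.elF.cj k⁻¹) (by
    have := conj_mem_cj (g := k⁻¹) (mul_mem h.tF (mem_sup_left he))
    rwa [k1] at this) (by rw [card_cj, h.cardF])
  rw [cj_cj] at e2
  have k2 : l * k⁻¹ * (t * e) * (l * k⁻¹)⁻¹ = t := by
    calc _ = l * (k⁻¹ * (t * e) * k⁻¹⁻¹) * l⁻¹ := by group
      _ = t := by rw [k1, cj_of_comm (h.cL hl)]
  generalize l * k⁻¹ = m at e2 k2
  have k3 : m * t * m⁻¹ ≠ t := fun e3 => e1 (by simpa using k2.trans e3.symm)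
  rcases e2 with e2 | e2
  · exact k3 (cj_of_comm (hno m (cj_eq_self_iff.1 e2)))
  have k4 : m * t * m⁻¹ * t ∈ E' := (h.symm.mem_F.1 (e2 ▸ conj_mem_cj h.tF)).resolve_left
    fun e => h.nconj m (h.symm.EL e)
  refine k3 ((eq_inv_of_mul_eq_one_left (h.symm.a7.fix k4 fun n hn => ?_)).trans h.tinv)
  have c1 : Commute n t := h.cL hn.1
  have c2 := hno _ (mem_cj.1 ((cj_normalizer m _).ge (e2 ▸ nor_sup_t c1 hn.2)))
  refine Commute.mul_right (show n * _ = _ * n from ?_) c1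
  calc n * (m * t * m⁻¹) = m * (m⁻¹ * n * m * t) * m⁻¹ := by group
    _ = _ := by rw [c2]; group

theorem transl : ∃ g ∈ cen E, g * t * g⁻¹ * t ∈ E ∧ g * t ≠ t * g := by
  obtain ⟨g, hg, h1⟩ := h.move
  refine (h.a7.job h.sylC inf_le_left).1 t h.ord (fun e => h.tnL (h.EL e))
    (centralizer_anti inf_le_left h.tL) (fun g e => h.nconj g (h.EL e)) (fun c hc hct => ?_)
    ⟨g, h.norF_E hg, h.thF hg, h1⟩
  obtain ⟨n, hn, e⟩ := h.a7.dec (h.act ⟨mem_cen1.2 hct, hc⟩)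
  exact ⟨n, hn, fun a ha => act_eq e ha⟩

theorem thU (he : e ∈ E) : ∃ u ∈ UU t h.tt E, th t u = e := by
  have ht := h.tt
  let T : Subgroup G :=
    { carrier := {e | ∃ d ∈ UU t ht E, th t d = e}
      one_mem' := ⟨1, one_mem _, (th_eq_one ht).2 (by simp)⟩
      mul_mem' := by
        rintro _ _ ⟨a, ha, rfl⟩ ⟨b, hb, rfl⟩
        exact ⟨b * a, mul_mem hb ha, th_mul ht hb.1 ha.2⟩
      inv_mem' := by
        rintro _ ⟨a, ha, rfl⟩
        exact ⟨a⁻¹, inv_mem ha, th_inv ht ha.1 ha.2⟩ }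
  refine ((h.a7.irr (B := T) (by rintro _ ⟨d, hd, rfl⟩; exact hd.2) ?_).resolve_left fun e => ?_).ge he
  · rw [le_normalizer_iff]
    rintro n hn _ ⟨d, hd, rfl⟩
    exact ⟨_, conj_mem_UU (h.cL hn.1) hn.2 hd, th_conj (h.cL hn.1)⟩
  · obtain ⟨g, hg, h1, h2⟩ := h.transl
    exact h2 ((th_eq_one ht).1 (mem_bot.1 (e ▸ (⟨g, ⟨hg, h1⟩, rfl⟩ : th t g ∈ T))))

theorem F_UU : E ⊔ zpowers t ≤ UU t h.tt E :=
  sup_le (fun _ he => mem_UU_of (h.sy.el.le_cen he) (h.cL (h.EL he)))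
    (zpowers_le.2 (mem_UU_of h.tE rfl))

theorem UU_F : UU t h.tt E ≤ nor (E ⊔ zpowers t) := fun u hu => mem_normalizer_of_cj_le (by
  rw [cj_sup, cj_eq_self (le_normalizer_of_le_centralizer le_rfl hu.1), cj_zpowers]
  exact sup_le le_sup_left (zpowers_le.2 (h.mem_F.2 (Or.inr hu.2))))

/-- a `2`-subgroup over `E⟨t⟩` meets `C(t) ∩ C(E)` in `E⟨t⟩` -/
theorem fixF (hP : IsPGroup 2 P) (h1 : E ⊔ zpowers t ≤ P) (hx : x ∈ P) (h2 : x * t = t * x)
    (h3 : x ∈ cen E) : x ∈ E ⊔ zpowers t :=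
  (h.cenF.eq_of_le (hP.to_le inf_le_left) (le_inf h1 h.cenF.le) inf_le_right).le
    ⟨hx, mem_cen1.2 h2, h3⟩

end Loc

theorem jobJ1a : JobJ1a.{u} := by
  intro G _ _ t L S E E' h
  have SU : S ≤ nor (UU t h.tt E) := fun s hs => nor_UU (h.cL (h.SL hs)) (h.sy.SN hs)
  obtain ⟨P, hP, SP⟩ := exists_isSyl_le h.sy.two (le_sup_left : S ≤ S ⊔ UU t h.tt E)
  have hQ := hP.inf_of_le_normalizer le_sup_right (hP.le.trans (sup_le SU le_normalizer))
  have FQ := hQ.le_of_le_normalizer h.elF.two h.F_UU (hQ.le.trans h.UU_F)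
  refine ⟨_, h.tt, ⟨hQ.isPGroup, FQ h.tF, le_sup_left.trans FQ, fun q hq => hq.2.1,
    fun q hq => hq.2.2, fun e he => ?_, fun q hq e => h.mem_F.1 (h.fixF hQ.isPGroup FQ hq e hq.2.1)⟩,
    hQ, le_normalizer_inf (SP.trans le_normalizer) SU⟩
  obtain ⟨u, hu, rfl⟩ := h.thU he
  obtain ⟨q, hq, c, hc, rfl⟩ := decU h.sy.el hQ hu
  refine ⟨q, hq, ?_⟩
  rw [th, show q * c * t * (q * c)⁻¹ = q * (c * t * c⁻¹) * q⁻¹ by group, cj_of_comm (mem_cen1.1 hc.1)]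

theorem cenW_of (w : Wp t E₁ E) (he : El E₁) (h1 : E₁ ≠ ⊥) {ht : t * t = 1}
    (hs : IsSyl 2 (WW t E₁ ⊔ zpowers t) (UU t ht E)) : IsSyl 2 (WW t E₁) (cen (WW t E₁)) := by
  have d := dbl_of w he
  have tW := t_mem_nor ht E₁
  have tC : t ∈ nor (cen (WW t E₁)) := normalizer_le_normalizer_centralizer _ tW
  have WC := d.elW.le_cen
  have tn : t ∉ cen (WW t E₁) := fun e =>
    Wp.not_nor w h1 (le_normalizer_of_le_centralizer le_rfl (cen_WW.1 e).1)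
  have tm : t ∈ WW t E₁ ⊔ zpowers t := mem_sup_right (mem_zpowers t)
  have hsyl : IsSyl 2 (WW t E₁ ⊔ zpowers t) (cen (WW t E₁) ⊔ zpowers t) := by
    refine isSyl_of_isSyl_normalizer ⟨le_inf (sup_le_sup_right WC _) le_normalizer, hs.isPGroup,
      fun P hP h1 h2 => le_antisymm ?_ h1⟩
    have key : ∀ x ∈ P, x ∈ cen (WW t E₁) → x ∈ WW t E₁ ⊔ zpowers t := fun x hx hC => by
      have h3 : th t x ∈ WW t E₁ := by
        refine (mem_coset tW ht (conj_mem_of_mem_normalizer (h2 hx).2 tm)).resolve_left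
          fun e => tn (WC ?_)
        have := cj_of_comm (mem_cen.1 (inv_mem hC) _ e).symm
        rw [← this] at e
        simpa [mul_assoc] using e
      have h4 : th t x ∈ E := H53.Wr.mem_of_sq ht d h3 (by
        rw [th, mul_assoc _ t t, ht, mul_one, sq_conj ht])
      obtain ⟨k, hk⟩ := isPGroup_iff_forall.1 hP x hx
      exact hs.le_of_le_normalizer' (isPGroup_zpowers hk)
        (zpowers_le.2 ⟨centralizer_anti w.B_le hC, h4⟩) (zpowers_le.2 (h2 hx).2) (mem_zpowers x)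
    intro y hy
    rcases mem_coset tC ht (h2 hy).1 with e | e
    · exact key y hy e
    · exact (mul_mem_cancel_right tm).1 (key _ (mul_mem hy (h1 tm)) e)
  have h2 := hsyl.inf_of_le_normalizer le_sup_left
    (sup_le (WC.trans le_normalizer) (zpowers_le.2 tC))
  rwa [show (WW t E₁ ⊔ zpowers t) ⊓ cen (WW t E₁) = WW t E₁ from le_antisymm (fun x hx =>
    (mem_coset tW ht hx.1).resolve_right fun e =>
      tn (((cen _).mul_mem_cancel_left hx.2).1 (WC e))) (le_inf le_sup_left WC)] at h2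

theorem jobJ1b : JobJ1b.{u} := by
  intro G _ _ t L S E E' Q h q
  have nC : cen1 t ⊓ cen E ≤ cen1 t ⊓ nor E :=
    inf_le_inf_left _ (le_normalizer_of_le_centralizer le_rfl)
  have c1 : L ⊓ nor E ≤ cen1 t ⊓ nor E ⊓ nor Q ⊔ cen E := fun n hn => by
    obtain ⟨u, hu, e⟩ := (q.syl.cj_of_mem_normalizer (nor_UU (h.cL hn.1) hn.2)).exists_cj_eq q.syl
    obtain ⟨p, hp, c, hc, rfl⟩ := decU h.sy.el q.syl hu
    have : c * n ∈ nor Q := by
      rw [cj_cj, cj_eq_self_iff, mul_assoc] at e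
      exact (mul_mem_cancel_left (le_normalizer hp)).1 e
    simpa using mul_mem (inv_mem (mem_sup_right hc.2))
      (mem_sup_left (T := cen E) (mem_inf.2 ⟨mul_mem (nC hc) ⟨h.Lt hn.1, hn.2⟩, this⟩))
  have a0 := h.a7.congr c1 (inf_le_left.trans h.act)
  have n0 : cen1 t ⊓ nor E ⊓ nor Q ≤ nor (L ⊓ (cen1 t ⊓ nor E ⊓ nor Q)) :=
    le_normalizer_inf (inf_le_left.trans (inf_le_left.trans h.norL)) le_normalizer
  have SN : S ≤ L ⊓ (cen1 t ⊓ nor E ⊓ nor Q) := le_inf h.SL (le_inf (le_inf h.St h.sy.SN) q.SN)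
  have s0 : ¬ L ⊓ (cen1 t ⊓ nor E ⊓ nor Q) ≤ cen E := fun e =>
    h.sy.symm.not_cen (h.sy.E'S.trans (SN.trans e))
  obtain ⟨E₁, hE, hn, d⟩ := ((a0.normal inf_le_right n0 s0).job h.sylC inf_le_left).2.1 t Q h.ord
    (fun e => h.tnL (h.EL e)) (centralizer_anti inf_le_left h.tL) q.aq
    (inf_le_right.trans inf_le_right)
  have w := d.wp h.tt
  have e : WW t E₁ ⊔ zpowers t = Q := by
    refine le_antisymm (sup_le (sup_le hE (cj_le_of_le_of_mem hE q.aq.tQ)) (zpowers_le.2 q.aq.tQ))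
      fun x hx => ?_
    obtain ⟨a, ha, e⟩ := d.sur _ (q.syl.le hx).2
    rw [← th_eq_dg h.tt (d.el a ha)] at e
    have := sup_le_sup_right w.B_le _ (h.mem_F.2 (q.aq.fix _ (mul_mem (inv_mem (hE ha)) hx)
      (comm_of_th_eq (q.syl.le (hE ha)) (q.syl.le hx) e)))
    exact (mul_mem_cancel_left (inv_mem (mem_sup_left (mem_sup_left ha)))).1 this
  refine ⟨E₁, ⟨h.tt, d, SN.trans hn, fun n hn' => hn ⟨hn'.1, ⟨h.Lt hn'.1,
    nor_diag w (h.cL hn'.1) hn'.2⟩, e ▸ nor_sup_t (h.cL hn'.1) hn'.2⟩, c1.trans (sup_le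
      (((a0.simp inf_le_right n0).resolve_left s0).trans (sup_le_sup (fun n hn' =>
        ⟨hn'.1, nor_WW (h.cL hn'.1) (hn hn')⟩) inf_le_right)) le_sup_right), e ▸ q.syl,
    cenW_of w d.el (fun e1 => ?_) (ht := q.tt) (by rw [e]; exact q.syl)⟩, e⟩
  simpa [e1, h.sy.cE] using w.card_eq

/-- A `2`-element of `y C(W)` is `C(W)`-conjugate into `y W`. -/
theorem conj_coset (he : El W) (hs : IsSyl 2 W (cen W)) (hy : y ∈ nor W) (hy2 : y * y ∈ W)
    (hyc : y ∉ cen W) (hx : x * y⁻¹ ∈ cen W) {k : ℕ} (hx2 : x ^ 2 ^ k = 1) :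
    ∃ c ∈ cen W, c * x * c⁻¹ * y⁻¹ ∈ W := by
  have yy : y ^ 2 ^ 2 = 1 := by
    have := he _ hy2
    rw [← this]; simp only [pow_succ, pow_zero, one_mul, mul_assoc]; norm_num [pow_succ, mul_assoc]
  have nC : zpowers y ≤ nor (cen W) := zpowers_le.2 (normalizer_le_normalizer_centralizer _ hy)
  have nW : zpowers y ≤ nor W := zpowers_le.2 hy
  have mem : ∀ {A : Subgroup G}, W ≤ A → zpowers y ≤ nor A → ∀ {g : G}, g ∈ A ⊔ zpowers y →
      g ∈ A ∨ g * y⁻¹ ∈ A := fun {A} hA hn {g} hg => by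
    obtain ⟨a, ha, _, ⟨j, rfl⟩, rfl⟩ := (mem_sup_right_norm hn).1 hg
    obtain ⟨m, rfl | rfl⟩ := Int.even_or_odd' j
    · exact Or.inl (A.mul_mem ha (by
        simp only [zpow_mul]; exact A.zpow_mem (hA (by rw [zpow_two]; exact hy2)) m))
    · refine Or.inr ?_
      simp only [zpow_add, zpow_mul, zpow_one, mul_assoc, mul_inv_cancel, mul_one]
      exact A.mul_mem ha (A.zpow_mem (hA (by rw [zpow_two]; exact hy2)) m)
  have WC : W ≤ cen W := he.le_cen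
  have p2 : IsPGroup 2 ↥(W ⊔ zpowers y) :=
    IsPGroup.to_sup_of_normal_left' he.two (isPGroup_zpowers yy) nW
  have syl : IsSyl 2 (W ⊔ zpowers y) (cen W ⊔ zpowers y) := by
    refine ⟨sup_le_sup_right WC _, p2, fun Q hQ h1 h2 => le_antisymm (fun q hq => ?_) h1⟩
    have e : Q ⊓ cen W = W :=
      hs.eq_of_le (hQ.to_le inf_le_left) (le_inf (le_sup_left.trans h1) WC) inf_le_right
    have yQ : y ∈ Q := h1 (mem_sup_right (mem_zpowers y))
    rcases mem WC nC (h2 hq) with e1 | e1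
    · exact mem_sup_left (e ▸ (⟨hq, e1⟩ : q ∈ Q ⊓ cen W))
    · have : q * y⁻¹ ∈ W := e ▸ (⟨Q.mul_mem hq (Q.inv_mem yQ), e1⟩ : q * y⁻¹ ∈ Q ⊓ cen W)
      simpa using mul_mem (mem_sup_left this : _ ∈ W ⊔ zpowers y) (mem_sup_right (mem_zpowers y))
  have xm : x ∈ cen W ⊔ zpowers y := by
    simpa using mul_mem (mem_sup_left hx : _ ∈ cen W ⊔ zpowers y) (mem_sup_right (mem_zpowers y))
  obtain ⟨c, hc, h1⟩ := syl.exists_cj_le (isPGroup_zpowers hx2) (zpowers_le.2 xm)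
  have h2 := h1 (conj_mem_cj (g := c) (mem_zpowers x))
  have fin : ∀ c ∈ cen W, c * x * c⁻¹ ∈ W ⊔ zpowers y → c * x * c⁻¹ * y⁻¹ ∈ W := fun c hc h3 => by
    refine (mem le_rfl nW h3).resolve_left fun h4 => hyc ?_
    have h5 : x ∈ cen W := by
      simpa [mul_assoc] using conj_mem_of_mem_normalizer' (le_normalizer hc) (WC h4)
    simpa using (cen W).mul_mem ((cen W).inv_mem hx) h5
  rcases mem WC nC hc with e | e
  · exact ⟨c, e, fin c e h2⟩
  · refine ⟨y⁻¹ * c, ?_, fin _ ?_ ?_⟩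
    · simpa [mul_assoc] using conj_mem_of_mem_normalizer' (nC (mem_zpowers y)) e
    · simpa [mul_assoc] using conj_mem_of_mem_normalizer' (nC (mem_zpowers y)) e
    · simpa [mul_assoc] using conj_mem_of_mem_normalizer'
        (le_normalizer (mem_sup_right (mem_zpowers y) : y ∈ W ⊔ zpowers y)) h2

namespace S1

variable (s : S1 t L S E E₁)
include s

theorem elW : El (WW t E₁) := s.dbl.elW
theorem EW : E ≤ WW t E₁ := s.w.B_le
theorem W_nor : WW t E₁ ≤ nor (WW t E₁) := le_normalizer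
theorem tW : t ∈ nor (WW t E₁) := t_mem_nor s.tt E₁
theorem cE (h : Loc t L S E E') : Nat.card E₁ = 16 := s.w.card_eq.trans h.sy.cE
theorem cW (h : Loc t L S E E') : Nat.card (WW t E₁) = 256 := by
  rw [s.w.card_pair le_rfl le_rfl, s.cE h]
theorem tn_cen (h : Loc t L S E E') : t ∉ cen (WW t E₁) := fun e =>
  s.t_not_E h (le_normalizer_of_le_centralizer le_rfl (cen_WW.1 e).1)
theorem N_le (h : Loc t L S E E') : L ⊓ nor (WW t E₁) ≤ L ⊓ nor E := fun _ hn =>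
  ⟨hn.1, nor_diag s.w (h.cL hn.1) hn.2⟩
theorem S_N (h : Loc t L S E E') : S ≤ L ⊓ nor (WW t E₁) := fun _ hx =>
  ⟨h.SL hx, nor_WW (h.cL (h.SL hx)) (s.SN hx)⟩
theorem oddO : Odd (Nat.card (OW t E₁)) := (decW s.cenW).1
theorem nor_O : nor (WW t E₁) ≤ nor (OW t E₁) :=
  (normalizer_le_normalizer_centralizer _).trans (normalizer_le_normalizer_res _)

end S1

theorem jobJ2 : JobJ2.{u} := by
  intro G _ _ t L S E E' E₁ h s
  have WU := le_sup_left.trans s.sylU.le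
  have a7 := h.a7.of_le (s.N_le h) s.cov
  have odd : ∀ o ∈ cen1 t ⊓ nor (WW t E₁) ⊓ cen E, Odd (orderOf o) → o ∈ OW t E₁ := by
    intro o ho h1
    refine mem_res_of_coprime (mem_cen.2 fun w hw => (comm_of_odd h1 (comm_of_cj ?_)).symm)
      (Nat.coprime_two_right.2 h1)
    have k := conj_mem_of_mem_normalizer ho.1.2 hw
    have e := s.w.fix (mul_mem (inv_mem hw) k) (comm_of_th_eq (WU hw) (WU k) (by
      rw [th_conj (mem_cen1.1 ho.1.1), cj_of_comm (mem_cen.1 ho.2 _ (WU hw).2).symm]))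
    calc _ = o * w * o⁻¹ * (o * (w⁻¹ * (o * w * o⁻¹)) * o⁻¹) := by group
      _ = w * (w⁻¹ * (o * w * o⁻¹) * (w⁻¹ * (o * w * o⁻¹))) := by
        rw [cj_of_comm (mem_cen.1 ho.2 _ e).symm]; group
      _ = w := by rw [h.sy.el _ e, mul_one]
  have tn : ∀ g : G, g * t * g⁻¹ ∉ WW t E₁ := fun g e => by
    have := h.rank s.elW e
    rw [s.cW h] at this; omega
  refine ⟨s, a7, ⟨s.dbl.el, s.cE h, s.norN, ?_⟩, odd, fun c hc => ?_, fun g hg hc => ?_, tn,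
    fun g hg => ?_⟩
  · rw [← a7.idx, ← inf_relIndex_right, ← inf_relIndex_right (cen E)]
    congr 1
    ext n
    exact and_congr_left fun hn => cen_diag s.w (h.cL hn.1) (s.norN hn)
  · obtain ⟨n, hn, e⟩ := a7.dec ((h.act.trans (sup_le s.cov le_sup_right))
      ⟨hc.1, nor_diag s.w (mem_cen1.1 hc.1) hc.2⟩)
    obtain ⟨f, hf, o, ho, h1, e1⟩ := h.decF ⟨Subgroup.mul_mem _ (inv_mem (h.Lt hn.1)) hc.1, e⟩
    have fW : f ∈ nor (WW t E₁) := sup_le (s.EW.trans s.W_nor) (zpowers_le.2 s.tW) hf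
    have oO : o ∈ cen1 t ⊓ OW t E₁ := ⟨ho.1, odd o ⟨⟨ho.1,
      (mul_mem_cancel_left fW).1 (e1 ▸ mul_mem (inv_mem hn.2) hc.2)⟩, ho.2⟩ h1⟩
    have e2 : c = n * f * o := by rw [mul_assoc, ← e1]; group
    rcases h.mem_F.1 hf with k | k
    · exact ⟨_, mul_mem hn (s.S_N h (h.sy.ES k)), o, oO, Or.inl e2⟩
    · exact ⟨_, mul_mem hn (s.S_N h (h.sy.ES k)), o, oO, Or.inr (by
        rw [e2, mul_assoc n _ t, mul_assoc f, h.tt, mul_one])⟩
  · obtain ⟨c, hc1, hc2⟩ := conj_coset s.elW s.cenW s.tW (h.tt ▸ one_mem _) (s.tn_cen h)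
      (x := g * t * g⁻¹) (by rwa [h.tinv]) (k := 1) (by rw [pow_one, pow_two, sq_conj h.tt])
    obtain ⟨a, ha, e⟩ := invol_coset h.tt s.dbl.comm s.w.bot hc2 (by
      rw [inv_mul_cancel_right, sq_conj (sq_conj h.tt g)])
    refine ⟨a⁻¹ * c, mul_mem (inv_mem (s.elW.le_cen (mem_sup_left ha))) hc1,
      mem_cen1.2 (comm_of_cj ?_)⟩
    calc _ = a⁻¹ * (c * (g * t * g⁻¹) * c⁻¹ * t⁻¹ * t) * a := by group
      _ = t := by rw [← e]; group
  · obtain ⟨u, hu, h1⟩ := s.sylU.exists_cj_le (s.elW.cj g).two hg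
    obtain ⟨q, hq, c, hc, rfl⟩ := decU h.sy.el s.sylU hu
    refine ⟨c, hc, mem_normalizer_of_cj_le fun x hx => ?_⟩
    rw [← cj_cj, cj_le_iff, cj_eq_self (le_normalizer (inv_mem hq)), cj_cj] at h1
    by_contra h2
    obtain ⟨a, -, e⟩ := inv_Wt s.w (h1 hx) h2 (s.elW.cj _ x hx)
    refine tn ((c * g)⁻¹ * a) ?_
    have := mem_cj.1 hx
    rw [← e] at this
    convert this using 1; group

theorem jobAB0 : JobAB0.{u} := by
  intro G _ _ t L S E E' S₁ h w hS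
  have w' := w.half_wp h.sy.E'S
  have d := dbl_of w' (w.el_half' h.sy.E'S h.sy.el')
  have two := two_Wt h.tt d.elW.two
  have QU := WW_le_UU (ht := h.tt) d h.symm.tE
  have FQ : E' ⊔ zpowers t ≤ WW t (half t S₁ E') ⊔ zpowers t := sup_le_sup_right w'.B_le _
  refine ⟨h.tt, ⟨two, FQ h.symm.tF, le_sup_left.trans FQ, fun q hq => (QU hq).1,
    fun q hq => (QU hq).2, fun e he => ?_, fun q hq e =>
      h.symm.mem_F.1 (h.symm.fixF two FQ hq e (QU hq).1)⟩,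
    ⟨QU, two, fun P hP h1 h2 => le_antisymm (fun p hp => ?_) h1⟩, fun s hs => nor_sup_t
      (h.cL (h.SL hs)) (w.nor_pair inf_le_left inf_le_left (w.nor_half h.sy.E'S h.sy.SN')
        (w.nor_half h.sy.E'S h.sy.SN') (w.B_le hs))⟩
  · obtain ⟨a, ha, rfl⟩ := d.sur e he
    exact ⟨a, mem_sup_left (mem_sup_left ha), d.th h.tt ha⟩
  · obtain ⟨a, ha, e⟩ := d.sur _ (h2 hp).2
    have aQ : a ∈ WW t (half t S₁ E') ⊔ zpowers t := mem_sup_left (mem_sup_left ha)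
    rw [← th_eq_dg h.tt (d.el a ha)] at e
    exact (mul_mem_cancel_left (inv_mem aQ)).1 (FQ (h.symm.fixF hP (FQ.trans h1)
      (mul_mem (inv_mem (h1 aQ)) hp) (comm_of_th_eq (QU aQ) (h2 hp) e)
      (mul_mem (inv_mem (QU aQ).1) (h2 hp).1)))

end H42.ML
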