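import Cfsg.Agent.H42.MLJ1
import Cfsg.Agent.H67.WrJob3

/-! Tower MCLY (`blueprints/MCLY.md`): J3a, J3b. -/

set_option autoImplicit false
set_option linter.unusedSectionVars false

namespace H42.ML

open Subgroup Cfsg H98 H1.Gold H99.Wr
open H53.Wr (UU th)
open scoped commutatorElement

universe u

variable {G : Type u} [Group G] [Finite G] {t z ρ a b c e f g k l n o v w x y τ σ : G}
  {L S E E' E₁ F₁ Y Y₁ S₁ T P Q A B D K M N W : Subgroup G}

theorem conj_cen_W (ha : a ∈ nor W) (hc : c ∈ cen W) : a * c * a⁻¹ ∈ cen W :=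
  conj_mem_of_mem_normalizer (normalizer_le_normalizer_centralizer _ ha) hc

namespace S2

variable (s : S2 t L S E E₁)
include s

theorem O_cen : OW t E₁ ≤ cen (WW t E₁) := res_le _

theorem fin3 (hy : y ∈ nor (WW t E₁)) (hg : g * y * g⁻¹ = t)
    (hB : cj g (WW t E₁ ⊓ cen1 y) = E) : ∃ g ∈ nor (WW t E₁), g * t * g⁻¹ = y := by
  have tt := s.tt
  have yy : y * y = 1 := by
    calc y * y = g⁻¹ * (g * y * g⁻¹ * (g * y * g⁻¹)) * g := by group
      _ = 1 := by rw [hg, tt]; group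
  obtain ⟨o, ho, h1⟩ := s.ctl g (by
    rintro _ ⟨w, hw, rfl⟩
    change g * w * g⁻¹ ∈ _
    refine ⟨?_, ?_⟩
    · rw [← hB, mem_cen]
      rintro _ ⟨b, hb, rfl⟩
      change g * b * g⁻¹ * _ = _ * (g * b * g⁻¹)
      calc _ = g * (b * w) * g⁻¹ := by group
        _ = _ := by rw [s.elW.comm hb.1 hw]; group
    · have hw' := conj_mem_of_mem_normalizer hy hw
      have e : th t (g * w * g⁻¹) = g * dg y w * g⁻¹ := by
        rw [← H53.Wr.th_eq_dg yy (s.elW w hw), th, th, ← hg]; group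
      rw [e, ← hB]
      exact conj_mem_cj ⟨mul_mem hw hw', mem_cen1.2 (dg_comm yy (s.elW.comm hw hw'))⟩)
  refine ⟨_, inv_mem h1, ?_⟩
  calc _ = g⁻¹ * (o⁻¹ * t * o⁻¹⁻¹) * g := by group
    _ = y := by rw [cj_of_comm (mem_cen1.1 (inv_mem ho.1)), ← hg]; group

theorem cen_lift (hg : g ∈ nor (WW t E₁)) (hc : g * t * g⁻¹ * t ∈ cen (WW t E₁))
    (h : Loc t L S E E') : ∃ n ∈ L ⊓ nor (WW t E₁),
      g * n⁻¹ ∈ cen (WW t E₁) ∨ g * n⁻¹ * t ∈ cen (WW t E₁) := by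
  obtain ⟨c, h1, h2⟩ := s.lift g hg hc
  obtain ⟨n, hn, o, ho, e⟩ := s.norF _ ⟨h2, mul_mem (le_normalizer_of_le_centralizer le_rfl h1) hg⟩
  refine ⟨n, hn, e.imp (fun e => ?_) fun e => ?_⟩
  · convert mul_mem (inv_mem h1) (conj_cen_W hn.2 (s.O_cen ho.2)) using 1
    rw [← e]; group
  · convert mul_mem (inv_mem h1) (conj_cen_W (mul_mem hn.2 s.tW) (s.O_cen ho.2)) using 1
    rw [← e, mul_inv_rev, h.tinv, ← h.cL (inv_mem hn.1)]; group

theorem not_fus (h : Loc t L S E E') (hg : g ∈ nor (WW t E₁)) (hn : n ∈ L ⊓ nor (WW t E₁))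
    (hc : g * t * g⁻¹ * n⁻¹ ∈ cen (WW t E₁)) : False := by
  have tt := h.tt
  have d := s.dbl
  have nC : cen (WW t E₁) ≤ nor (WW t E₁) := le_normalizer_of_le_centralizer le_rfl
  have yy := sq_conj tt g
  have hy : g * t * g⁻¹ ∈ nor (WW t E₁) := mul_mem (mul_mem hg s.tW) (inv_mem hg)
  have h2 : n * n ∈ cen (WW t E₁) := by
    have := inv_mem (mul_mem (conj_cen_W hy hc) hc)
    convert this using 1
    calc n * n = (g * t * g⁻¹ * (g * t * g⁻¹) * n⁻¹ * (1 * n⁻¹))⁻¹ := by rw [yy]; simp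
      _ = _ := by rw [← yy]; simp only [inv_of_sq yy]; group
  wlog hE : n * n ∈ E generalizing n
  · obtain ⟨_, ⟨k, rfl⟩, j, hj⟩ := exists_odd_pow n
    have h3 : n ^ (2 * k + 1) * n ^ (2 * k + 1) ∈ cen (WW t E₁) := by
      rw [← (Commute.refl n).mul_pow]; exact pow_mem h2 _
    refine this (pow_mem hn _) ?_ h3 ?_
    · convert mul_mem hc (inv_mem (pow_mem h2 k)) using 1
      rw [← pow_two, ← pow_mul]; group
    · have h4 := centralizer_anti s.EW h3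
      exact h.sylC.le_of_le_normalizer' (isPGroup_zpowers (k := j) (by
        rw [(Commute.refl _).mul_pow, hj, one_mul]))
        (zpowers_le.2 ⟨mul_mem (pow_mem hn.1 _) (pow_mem hn.1 _), h4⟩)
        (zpowers_le.2 (le_normalizer_of_le_centralizer le_rfl h4)) (mem_zpowers _)
  have hnC : n ∉ cen (WW t E₁) := fun h3 => s.tn_cen h (by
    have := conj_cen_W (inv_mem hg) (mul_mem hc h3)
    convert this using 1; group)
  obtain ⟨c, hc1, hw⟩ := conj_coset s.elW s.cenW hn.2 (s.EW hE) hnC hc (k := 1)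
    (by rw [pow_one, pow_two, yy])
  obtain ⟨a, ha, b, hb, ew⟩ := d.mem_W.1 hw
  obtain ⟨e, hd, ed⟩ := d.sur _ hE
  obtain ⟨y, hy'⟩ : ∃ y, y = c * (g * t * g⁻¹) * c⁻¹ := ⟨_, rfl⟩
  rw [← hy'] at ew hw
  have yy' : y * y = 1 := hy' ▸ sq_conj yy c
  have nt := h.cL hn.1
  have na := conj_mem_of_mem_normalizer (s.norN hn) ha
  have nb := conj_mem_of_mem_normalizer (s.norN hn) hb
  have e1 : a * (n * a * n⁻¹) * e * (t * (b * (n * b * n⁻¹) * e) * t⁻¹) = 1 * (t * 1 * t⁻¹) := by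
    have e2 : y = a * (t * b * t⁻¹) * n := by rw [← ew]; group
    have e3 : n * (t * b * t⁻¹) * n⁻¹ = t * (n * b * n⁻¹) * t⁻¹ := by
      calc _ = n * t * b * (n * t)⁻¹ := by group
        _ = _ := by rw [nt]; group
    calc _ = a * (n * a * n⁻¹ * e * (t * b * t⁻¹)) * (t * (n * b * n⁻¹) * t⁻¹) * (t * e * t⁻¹) := by
          group
      _ = a * (t * b * t⁻¹) * (n * a * n⁻¹) * (e * (t * (n * b * n⁻¹) * t⁻¹)) * (t * e * t⁻¹) := by
          rw [d.c' (mul_mem na hd) hb]; group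
      _ = a * (t * b * t⁻¹) * (n * a * n⁻¹) * (n * (t * b * t⁻¹) * n⁻¹) * dg t e := by
          rw [d.c' hd nb, e3, dg]; group
      _ = y * y := by rw [ed, e2]; group
      _ = _ := by rw [yy']; group
  have e4 := (d.uniq tt (mul_mem (mul_mem ha na) hd) (mul_mem (mul_mem hb nb) hd) (one_mem _)
    (one_mem _) e1).1
  have e5 : dg t a * n * (dg t a * n) = 1 := by
    calc _ = dg t a * (n * dg t a * n⁻¹) * (n * n) := by group
      _ = 1 := by
        rw [← dg_conj nt, ← ed, ← d.dg_mul ha na, ← d.dg_mul (mul_mem ha na) hd, e4, dg_one]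
  have hda := d.mem a ha
  have hb' : y * n⁻¹ * (dg t a)⁻¹ ∈ WW t E₁ := mul_mem hw (inv_mem (s.EW hda))
  obtain ⟨b', eb'⟩ : ∃ b', b' = y * n⁻¹ * (dg t a)⁻¹ := ⟨_, rfl⟩
  rw [← eb'] at hb'
  have e6 : y = b' * (dg t a * n) := by rw [eb']; group
  have bb := s.elW b' hb'
  have e7 : b' * y = y * b' := by
    rw [← inv_of_sq yy', e6, mul_inv_rev, inv_of_sq e5, inv_of_sq bb]
    nth_rewrite 1 [← inv_of_sq e5]
    nth_rewrite 1 [← inv_of_sq bb]
    have : b' * (dg t a * n) = dg t a * n * b' := by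
      rw [← e6, ← inv_of_sq yy', e6, mul_inv_rev, inv_of_sq e5, inv_of_sq bb]
    rw [inv_of_sq e5, inv_of_sq bb, ← this, mul_assoc b' _ b', ← this]
  have hγ : c * g ∈ nor (WW t E₁) := mul_mem (nC hc1) hg
  have ey : y = c * g * t * (c * g)⁻¹ := by rw [hy']; group
  have hE' : (c * g)⁻¹ * b' * (c * g) ∈ E :=
    d.fix tt (conj_mem_of_mem_normalizer' hγ hb') (by
      calc _ = (c * g)⁻¹ * (b' * (c * g * t * (c * g)⁻¹)) * (c * g) := by group
        _ = _ := by rw [← ey, e7, ey]; group)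
  obtain ⟨a', -, ea'⟩ := d.trans tt hE'
  refine h.nconj (c * g * a') ?_
  convert mul_mem (h.EL hda) hn.1 using 1
  calc _ = c * g * (a' * t * a'⁻¹) * (c * g)⁻¹ := by group
    _ = b' * (c * g * t * (c * g)⁻¹) := by rw [ea']; group
    _ = _ := by rw [← ey, e6, ← mul_assoc, bb, one_mul]

end S2

theorem jobJ3a : JobJ3a.{u} := by
  intro G _ _ t L S E E' E₁ h s f hf fE
  have tt := h.tt
  have y := h.sy
  have fL := h.symm.EL hf
  obtain ⟨z, ⟨hz, zS⟩, z1⟩ := (bot_or_exists_ne_one _).resolve_left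
    (inf_centralizer_ne_bot (y.el.mono inf_le_left).two y.two y.nor_Z fun e => by
      simpa [e] using y.cZ)
  obtain ⟨l, hl, el⟩ := h.symm.a7.tr hf hz.2 (by rintro rfl; exact fE (one_mem _)) z1
  obtain ⟨w, hw, ew⟩ := s.dbl.sur z hz.1
  have wS : w ∈ cen S := mem_cen.2 fun x hx => comm_of_cj (s.w.dg_inj
    (conj_mem_of_mem_normalizer (s.SN hx) hw) hw (by
      rw [dg_conj (h.cL (h.SL hx)), ew, cj_of_comm (mem_cen.1 zS x hx)]))
  have e1 : w * l * (t * f) * (w * l)⁻¹ = t := by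
    calc _ = w * (l * t * l⁻¹) * (l * f * l⁻¹ * w⁻¹) := by group
      _ = w * t * w⁻¹ * t * (t * z) := by
        rw [cj_of_comm (h.cL hl.1), el, mem_cen.1 (inv_mem wS) z (y.ES hz.1), mul_assoc _ t (t * z),
          ← mul_assoc t t, tt]; group
      _ = t := by rw [s.dbl.th tt hw, ew, ← h.cL (h.EL hz.1), ← mul_assoc, y.el z hz.1, one_mul]
  have gE : w * l ∈ nor E' :=
    mul_mem (le_normalizer_of_le_centralizer le_rfl (centralizer_anti y.E'S wS)) hl.2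
  generalize w * l = g at e1 gE
  have EW : E' ≤ nor (WW t E₁) := fun x hx => (s.S_N h (y.E'S hx)).2
  have hy : t * f ∈ nor (WW t E₁) := mul_mem s.tW (EW hf)
  have yy : t * f * (t * f) = 1 := by
    rw [mul_assoc, ← mul_assoc f, h.cL fL, mul_assoc, y.el' f hf, mul_one, tt]
  have e2 : g⁻¹ * t * g⁻¹⁻¹ = t * f := by conv_lhs => rw [← e1]
                                          group
  have cB := card_le_sq s.elW hy yy
  rw [s.cW h] at cB
  have eB : El (WW t E₁ ⊓ cen1 (t * f)) := s.elW.mono inf_le_left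
  have nE : E' ≤ nor (WW t E₁ ⊓ cen1 (t * f)) := le_normalizer_inf EW fun x hx =>
    le_normalizer (mem_cen1.2 (Commute.mul_right (h.cL (h.symm.EL hx)) (y.el'.comm hx hf)))
  have BW : WW t E₁ ⊓ cen1 (t * f) ≤ WW t E₁ := inf_le_left
  have fin := fun g => s.fin3 (g := g) hy
  have Bc : WW t E₁ ⊓ cen1 (t * f) ≤ cen1 (t * f) := inf_le_right
  generalize WW t E₁ ⊓ cen1 (t * f) = B at *
  have cB : 16 ≤ Nat.card B := by nlinarith
  have c2 := H67.Wr.two_card_le (le_sup_left : B ≤ B ⊔ zpowers (t * f))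
    (mem_sup_right (mem_zpowers _)) fun e => s.tnW g⁻¹ (e2 ▸ BW e)
  obtain ⟨l₀, hl₀, e3⟩ := h.big ((eB.sup (el_zpowers yy) fun a ha b hb =>
    (mem_cen1.1 (zpowers_le.2 (mem_cen1.2 (mem_cen1.1 (Bc ha)).symm) hb)).symm).cj g) (by
      have := conj_mem_cj (g := g) (mem_sup_right (S := B) (mem_zpowers (t * f)))
      rwa [e1] at this) (by rw [card_cj]; omega)
  have k : ∀ {E E' : Subgroup G}, Loc t L S E E' → cj l₀ (cj g (B ⊔ zpowers (t * f))) =
      E ⊔ zpowers t → cj l₀ (cj g B) = E := fun k e => eq_of_le_of_card_ge (fun x hx =>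
    k.mem_E (e ▸ cj_mono _ (cj_mono _ le_sup_left) hx) fun m hm => s.tnW (g⁻¹ * l₀⁻¹ * m) (by
      have := BW (mem_cj.1 (mem_cj.1 hx))
      rw [← hm] at this
      convert this using 1; group)) (by rw [card_cj, card_cj, k.sy.cE]; exact cB)
  have k2 : ∀ x ∈ L, cj x (cj g B) = E → ∃ g ∈ nor (WW t E₁), g * t * g⁻¹ = t * f :=
    fun x hx e => fin (x * g) (by
      calc _ = x * (g * (t * f) * g⁻¹) * x⁻¹ := by group
        _ = t := by rw [e1, cj_of_comm (h.cL hx)]) (by rw [← cj_cj, e])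
  rcases e3 with e3 | e3
  · exact k2 l₀ hl₀ (k h e3)
  have e4 := k h.symm e3
  obtain ⟨x, hx, h5⟩ := h.syl'.exists_cj_le (y.el'.cj l₀).two (le_inf
    (cj_le_of_le_of_mem h.symm.EL hl₀) (by
      have := cj_mono l₀ ((cj_eq_self gE).ge.trans (cj_mono g nE))
      rwa [cj_normalizer, cj_normalizer, e4] at this))
  rcases h.two _ h5 ((y.el'.cj _).cj _) (by rw [card_cj, card_cj, y.cE']) with e5 | e5
  · exact k2 (x * l₀ * l₀) (mul_mem (mul_mem hx.1 hl₀) hl₀) (by rw [← cj_cj, ← cj_cj, e4, e5])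
  · have e6 : B = E' := by
      rw [← cj_inj (g := g), ← cj_inj (g := l₀), ← cj_inj (g := x), e4, cj_eq_self gE, e5,
        cj_eq_self hx.2]
    exact (fE (s.w.fix (BW (e6 ▸ hf)) (h.cL fL))).elim

theorem jobJ3b : JobJ3b.{u} := by
  intro G _ _ t L S E E' E₁ h s f hf fE hg
  have tt := h.tt
  have d := s.dbl
  have fN := s.S_N h (h.sy.E'S hf)
  obtain ⟨η, hη⟩ := exists_aut (s.N_le h fN).2
  have hpr : ∀ n (hn : n ∈ L ⊓ nor (WW t E₁)) (α : MulAut E), (∀ e : E, (α e : G) = n * e * n⁻¹) →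
      d.act tt ⟨n, hn.2⟩ = pr α α := fun n hn α hα =>
    d.act_pr tt _ (h.cL hn.1) (h.cL hn.1) (s.norN hn) (s.norN hn) hα hα (fun _ _ => rfl)
      fun _ _ => rfl
  have hsw : d.act tt ⟨t, t_mem_nor tt E₁⟩ = sw E := d.act_t tt _ rfl
  obtain ⟨a, ha, u, hu⟩ := (s.a7.job h.sylC inf_le_left).2.2.2 η ⟨f, fN, hη⟩
    (fun e => fE (h.sy.cen_S (h.sy.E'S hf) (mem_cen.2 fun x hx =>
      (comm_of_cj (by rw [← hη ⟨x, hx⟩, e]; rfl)).symm)))
    (by
      ext x
      rw [MulAut.mul_apply, hη, hη, tt_conj (h.sy.el' f hf)]; rfl)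
    (d.act tt).range ⟨_, hsw⟩
    (by rintro α ⟨n, hn, hα⟩; exact ⟨_, hpr n hn α hα⟩)
    (by
      rintro _ ⟨g, rfl⟩ hc
      have h1 : d.act tt (g * ⟨t, t_mem_nor tt E₁⟩ * g⁻¹ * ⟨t, t_mem_nor tt E₁⟩) = 1 := by
        simp only [map_mul, map_inv, hsw]
        rw [hc, mul_inv_cancel_right, sw_sw]
      obtain ⟨n, hn, h2⟩ := s.cen_lift g.2 ((d.act_eq_one tt _).1 h1) h
      obtain ⟨α, hα⟩ := exists_aut (s.N_le h hn).2
      refine ⟨α, ⟨n, hn, hα⟩, ?_⟩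
      rcases h2 with h2 | h2
      · have := (d.act_eq_one tt (g * ⟨n, hn.2⟩⁻¹)).2 h2
        rw [map_mul, map_inv, hpr n hn α hα, mul_inv_eq_one] at this
        exact Or.inl this
      · have := (d.act_eq_one tt (g * ⟨n, hn.2⟩⁻¹ * ⟨t, t_mem_nor tt E₁⟩)).2 h2
        rw [map_mul, map_mul, map_inv, hpr n hn α hα, hsw, mul_eq_one_iff_eq_inv,
          inv_of_sq sw_sw, mul_inv_eq_iff_eq_mul] at this
        exact Or.inr this)
    (by
      rintro _ ⟨g, rfl⟩ α ⟨n, hn, hα⟩ e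
      refine s.not_fus h g.2 hn ((d.act_eq_one tt
        (g * ⟨t, t_mem_nor tt E₁⟩ * g⁻¹ * ⟨n, hn.2⟩⁻¹)).1 ?_)
      simp only [map_mul, map_inv, hsw, hpr n hn α hα, e, mul_inv_cancel])
    (by
      obtain ⟨g, hg, e⟩ := hg
      refine ⟨_, ⟨⟨g, hg⟩, rfl⟩, ?_⟩
      rw [← hsw, ← hpr f fN η hη, ← map_inv, ← map_mul, ← map_mul, ← map_mul]
      exact congrArg _ (Subtype.ext e))
  have h2 : (u : G) ∈ cen (cj t E₁) := by
    rw [mem_cen]
    rintro _ ⟨b, hb, rfl⟩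
    have := d.ψ_act tt u (d.δ 1, d.δ ⟨b, hb⟩)
    rw [hu, pr_apply, map_one, map_one, ← map_one d.δ, MulAut.one_apply, d.ψ_apply] at this
    simp only [coe_one, one_mul] at this
    exact (comm_of_cj this.symm).symm
  refine ⟨u, d.nor_of_act tt u fun v => by rw [hu]; rfl, h2, fun h3 => ha ?_⟩
  have h5 := (d.act_eq_one tt u).2 (cen_WW.2 ⟨h3, h2⟩)
  rw [hu] at h5
  ext v
  exact congrArg (fun γ : MulAut (E × E) => ((γ (v, 1)).1 : G)) h5

end H42.ML
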