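import Cfsg.Agent.H42.MLJ3

/-! Tower MCLY (`blueprints/MCLY.md`): J4a, J4b. -/

set_option autoImplicit false
set_option linter.unusedSectionVars false

namespace H42.ML

open Subgroup Cfsg H98 H1.Gold H99.Wr
open H53.Wr (UU th)
open scoped commutatorElement

universe u

variable {G : Type u} [Group G] [Finite G] {t z ρ a b c e f g k l n o v w x y τ σ : G}
  {L S E E' E₁ F₁ Y Y₁ S₁ T P Q A B D K M N W : Subgroup G}

theorem A7.comm_eq (h : A7 N A) : ⁅A, N⁆ = A :=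
  (h.irr (commutator_le_left' h.nor) (H1.le_normalizer_commutator_right _ _)).resolve_left fun e =>
    h.not_le (H1.commutator_eq_bot_iff_le_centralizer'.1 e)

theorem ttc (ht : t * t = 1) (x : G) : t * (t * x) = x := by rw [← mul_assoc, ht, one_mul]

theorem comm_le_N (h1 : B ≤ N) (h2 : A ≤ nor N) : ⁅A, B⁆ ≤ N :=
  (commutator_mono le_rfl h1).trans (commutator_le_right' h2)

theorem NN_W : nor A ⊓ nor (cj t A) ≤ nor (WW t A) := le_normalizer_sup inf_le_left inf_le_right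

theorem wp_of (tt : t * t = 1) (hc : ∀ a ∈ A, ∀ b ∈ cj t A, a * b = b * a) (hb : A ⊓ cj t A = ⊥) :
    Wp t A (WW t A ⊓ cen1 t) := ⟨tt, hc, hb, fun s => ⟨fun hs => by
  obtain ⟨a, ha, b, hb', rfl⟩ := (mem_sup_cj hc).1 hs.1
  have e : b⁻¹ * a = t * (a * b⁻¹) * t⁻¹ := by
    have e1 := cj_of_comm (mem_cen1.1 hs.2).symm
    rw [show t * (a * (t * b * t⁻¹)) * t⁻¹ = t * a * t⁻¹ * (t * (t * b * t⁻¹) * t⁻¹) by group,
      tt_conj tt, ← hc b hb' _ (conj_mem_cj ha)] at e1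
    calc _ = b⁻¹ * (a * (t * b * t⁻¹)) * (t * b⁻¹ * t⁻¹) := by group
      _ = _ := by rw [← e1]; group
  have : b⁻¹ * a ∈ A ⊓ cj t A :=
    mem_inf.2 ⟨mul_mem (inv_mem hb') ha, e ▸ conj_mem_cj (mul_mem ha (inv_mem hb'))⟩
  rw [hb, mem_bot, inv_mul_eq_one] at this
  exact ⟨a, ha, by rw [this]; rfl⟩, by
  rintro ⟨a, ha, rfl⟩
  exact ⟨mul_mem (mem_sup_left ha) (mem_sup_right (conj_mem_cj ha)),
    mem_cen1.2 (dg_comm tt (hc a ha _ (conj_mem_cj ha)))⟩⟩⟩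

namespace S2

variable (s : S2 t L S E E₁)
include s

theorem WO (hw : w ∈ WW t E₁) (ho : w ∈ OW t E₁) : w = 1 :=
  one_of_odd_sq (odd_of_mem s.oddO ho) (s.elW w hw)

theorem tO : cj t (OW t E₁) = OW t E₁ := cj_eq_self (s.nor_O s.tW)

theorem NN_O : nor E₁ ⊓ nor (cj t E₁) ≤ nor (OW t E₁) := NN_W.trans s.nor_O

theorem C_NN : cen (WW t E₁) ≤ nor E₁ ⊓ nor (cj t E₁) := fun _ h =>
  ⟨le_normalizer_of_le_centralizer le_rfl (cen_WW.1 h).1,
    le_normalizer_of_le_centralizer le_rfl (cen_WW.1 h).2⟩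

theorem W_NN : WW t E₁ ≤ nor E₁ ⊓ nor (cj t E₁) := s.elW.le_cen.trans s.C_NN

theorem N_NN (h : Loc t L S E E') : L ⊓ nor (WW t E₁) ≤ nor E₁ ⊓ nor (cj t E₁) := fun _ hn =>
  ⟨s.norN hn, mem_nor_cj (h.cL hn.1) (s.norN hn)⟩

theorem EO (h1 : x ∈ E₁ ⊔ OW t E₁) (h2 : x ∈ cj t E₁ ⊔ OW t E₁) : x ∈ OW t E₁ := by
  obtain ⟨a, ha, o, ho, rfl⟩ :=
    (mem_sup_left_norm (le_sup_left.trans (s.W_nor.trans s.nor_O))).1 h1
  obtain ⟨b, hb, o', ho', e⟩ :=
    (mem_sup_left_norm (le_sup_right.trans (s.W_nor.trans s.nor_O))).1 h2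
  have := s.WO (mul_mem (inv_mem (mem_sup_right hb)) (mem_sup_left ha)) (by
    rw [show b⁻¹ * a = b⁻¹ * (a * o) * o⁻¹ by group, e, inv_mul_cancel_left]
    exact mul_mem ho' (inv_mem ho))
  rw [inv_mul_eq_one] at this
  rwa [mem_bot.1 (s.w.bot ▸ mem_inf.2 ⟨ha, this ▸ hb⟩ : a ∈ ⊥), one_mul]

end S2

theorem jobJ4a : JobJ4a.{u} := by
  intro G _ _ t L S E E' E₁ h s ⟨u, u1, u2, u3⟩
  have tt := h.tt
  obtain ⟨X, hX⟩ : ∃ X, X = nor E₁ ⊓ cen (cj t E₁) := ⟨_, rfl⟩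
  have hX₂ : cj t X = nor (cj t E₁) ⊓ cen E₁ := by
    rw [hX, cj_inf, cj_normalizer, cj_centralizer, cj_tt tt]
  have X1 : X ≤ nor E₁ := hX ▸ inf_le_left
  have X2 : X ≤ cen (cj t E₁) := hX ▸ inf_le_right
  have X3 : cj t X ≤ nor (cj t E₁) := hX₂ ▸ inf_le_left
  have X4 : cj t X ≤ cen E₁ := hX₂ ▸ inf_le_right
  have XN : X ≤ nor E₁ ⊓ nor (cj t E₁) := le_inf X1 (le_normalizer_of_le_centralizer X2)
  have XN' : cj t X ≤ nor E₁ ⊓ nor (cj t E₁) := le_inf (le_normalizer_of_le_centralizer X4) X3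
  have NX : nor E₁ ⊓ nor (cj t E₁) ≤ nor X := hX ▸ le_normalizer_inf
    (inf_le_left.trans le_normalizer) (inf_le_right.trans (normalizer_le_normalizer_centralizer _))
  have CX : cen (WW t E₁) ≤ X := fun x hx => hX ▸ ⟨(s.C_NN hx).1, (cen_WW.1 hx).2⟩
  have XX : ⁅X, cj t X⁆ ≤ cen (WW t E₁) := fun x hx => cen_WW.2
    ⟨comm_le_N X4 (X1.trans (normalizer_le_normalizer_centralizer _)) hx,
      comm_le_N X2 (X3.trans (normalizer_le_normalizer_centralizer _))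
        (commutator_comm X _ ▸ hx)⟩
  have b : X ≤ L ⊓ nor (WW t E₁) ⊔ cen E₁ := fun x hx => by
    have hx' := conj_mem_cj (g := t) hx
    have g1 := mul_mem (XN hx) (XN' hx')
    obtain ⟨n, hn, e | e⟩ := s.cen_lift (NN_W g1) (by
      convert XX (commutator_mem_commutator hx hx') using 1
      simp [commutatorElement_def, h.tinv, mul_assoc, ttc tt]) h
    · convert mul_mem (mul_mem (mem_sup_right (cen_WW.1 e).1) (mem_sup_left hn))
        (inv_mem (mem_sup_right (S := L ⊓ nor (WW t E₁)) (X4 hx'))) using 1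
      group
    · exact (s.t_not_E h (((nor E₁).mul_mem_cancel_left
        ((nor E₁).mul_mem g1.1 (inv_mem (s.norN hn)))).1 (s.C_NN e).1)).elim
  have NX' : L ⊓ nor (WW t E₁) ≤ X ⊔ cen E₁ := (((s.a7'.simp (K := L ⊓ nor (WW t E₁) ⊓ (X ⊔ cen E₁))
    inf_le_left (le_normalizer_inf le_normalizer (le_normalizer_sup ((s.N_NN h).trans NX)
      s.a7'.norC))).resolve_left fun e => by
        have uX : u ∈ X := hX ▸ ⟨u1, u2⟩
        obtain ⟨n, hn, e1⟩ := s.a7'.dec (b uX)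
        exact u3 (by simpa using mul_mem (e ⟨hn, by
          simpa using mul_mem (mem_sup_left uX) (inv_mem (mem_sup_right (S := X) e1))⟩) e1)).trans
      (sup_le inf_le_right (inf_le_right.trans le_sup_right)))
  have aX : A7 X E₁ := s.a7'.congr NX' b
  have OX : OW t E₁ ≤ X := s.O_cen.trans CX
  have YX : ⁅X, X⁆ ⊔ OW t E₁ ≤ X := sup_le (commutator_le_of_le le_rfl le_rfl) OX
  have EY : E₁ ≤ ⁅X, X⁆ ⊔ OW t E₁ := aX.comm_eq.ge.trans
    ((commutator_mono (le_sup_left.trans (s.elW.le_cen.trans CX)) le_rfl).trans le_sup_left)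
  have nEO : nor E₁ ⊓ nor (cj t E₁) ≤ nor (E₁ ⊔ OW t E₁) := le_normalizer_sup inf_le_left s.NN_O
  have cO : ∀ {Z : Subgroup G}, Z ≤ nor E₁ ⊓ nor (cj t E₁) → ⁅OW t E₁, Z⁆ ≤ E₁ ⊔ OW t E₁ :=
    fun hZ => (commutator_le_left' (hZ.trans s.NN_O)).trans le_sup_right
  have c1 : ⁅cen (WW t E₁), X⁆ ≤ E₁ ⊔ OW t E₁ := by
    refine (commutator_mono (s.cenW.sup_res.ge) le_rfl).trans (commutator_sup_left_le
      (s.W_NN.trans nEO) ((s.O_cen.trans s.C_NN).trans nEO) (commutator_sup_left_le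
        ((le_sup_left.trans s.W_NN).trans nEO) ((le_sup_right.trans s.W_NN).trans nEO)
        ((commutator_le_left' X1).trans le_sup_left) ?_) (cO XN))
    rw [H1.commutator_eq_bot_iff_le_centralizer'.2 X2]; exact bot_le
  have c2 : ⁅⁅X, X⁆ ⊔ OW t E₁, cj t X⁆ ≤ E₁ ⊔ OW t E₁ := commutator_sup_left_le
    ((le_sup_left.trans YX).trans (XN.trans nEO)) ((OX.trans XN).trans nEO)
    (three_subgroups (XN.trans nEO) (XN.trans nEO) (XN'.trans nEO)
      ((commutator_mono XX le_rfl).trans c1)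
      ((commutator_mono (commutator_comm X _ ▸ XX) le_rfl).trans c1)) (cO XN')
  have nY : nor E₁ ⊓ nor (cj t E₁) ≤ nor (⁅X, X⁆ ⊔ OW t E₁) :=
    le_normalizer_sup (le_normalizer_commutator NX NX) s.NN_O
  have aY : A7 (⁅X, X⁆ ⊔ OW t E₁) E₁ := aX.comm.congr (le_sup_left.trans le_sup_left)
    (sup_le_sup_left (s.O_cen.trans fun _ hx => (cen_WW.1 hx).1) _)
  have OY : OW t E₁ ≤ ⁅X, X⁆ ⊔ OW t E₁ := le_sup_right
  have NY : L ⊓ nor (WW t E₁) ≤ ⁅X, X⁆ ⊔ OW t E₁ ⊔ cen E₁ :=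
    NX'.trans (sup_le (aX.perf.trans (sup_le_sup le_sup_left inf_le_right)) le_sup_right)
  generalize ⁅X, X⁆ ⊔ OW t E₁ = Y at *
  have c3 : ⁅Y, cj t Y⁆ ≤ OW t E₁ := fun x hx => s.EO
    (((commutator_mono le_rfl (cj_mono t YX)).trans c2) hx) (by
      have := cj_mono t c2
      rw [cj_commutator, cj_tt tt, cj_sup, s.tO, commutator_comm] at this
      exact this (commutator_mono YX le_rfl hx))
  refine ⟨Y, OY, hX ▸ YX, EY, nY, c3, fun y hy => ?_, fun n hn => ?_, aY⟩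
  · obtain ⟨w, hw, o, ho, rfl⟩ := (decW s.cenW).2 y (cen_WW.2 ⟨hy.2, X2 (YX hy.1)⟩)
    obtain ⟨a, ha, b, hb, rfl⟩ := s.w.mem_T.1 hw
    have hb' := conj_mem_cj (g := t) hb
    have bY : t * b * t⁻¹ ∈ Y := by
      convert mul_mem (mul_mem (inv_mem (EY ha)) hy.1) (inv_mem (OY ho)) using 1
      group
    rw [(aX.cj t).fix hb' fun n hn => ?_, mul_one]
    · exact mul_mem (mem_sup_left ha) (mem_sup_right ho)
    have k := commutator_le_left' X3 (commutator_mem_commutator hb' hn)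
    exact (commutatorElement_eq_one_iff_mul_comm.1 (s.WO (mem_sup_right k)
      (s.EO (c2 (commutator_mem_commutator bY hn)) (mem_sup_left k)))).symm
  · obtain ⟨y, hy, e⟩ := aY.dec (x := n) (NY hn)
    have hy' := conj_mem_cj (g := t) hy
    have e' : n⁻¹ * y ∈ cen E₁ := by simpa using inv_mem e
    obtain ⟨w, hw, o, ho, e1⟩ := (decW s.cenW).2 (n⁻¹ * dg t y) (cen_WW.2 ⟨by
      rw [dg, ← mul_assoc]; exact mul_mem e' (X4 (cj_mono t YX hy')), by
      have k1 := conj_mem_of_mem_normalizer' (normalizer_le_normalizer_centralizer _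
        (s.N_NN h hn).2) (X2 (YX hy))
      have k2 := conj_mem_cj (g := t) e'
      rw [cj_centralizer] at k2
      convert mul_mem k1 k2 using 1
      rw [← mul_assoc t, ← h.cL (inv_mem hn.1), dg]; group⟩)
    have wE : w ∈ E := s.w.fix hw (by
      have k := mul_mem (mul_mem ho (((commutator_comm _ _).le.trans c3) (commutator_mem_commutator
        (inv_mem hy') (inv_mem hy)))) (inv_mem (conj_mem_of_mem_normalizer (s.nor_O s.tW) ho))
      have e2 : t * (w * o) * t⁻¹ = w * o * ⁅(t * y * t⁻¹)⁻¹, y⁻¹⁆ := by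
        rw [← e1, ← mul_assoc t, ← h.cL (inv_mem hn.1)]
        simp [commutatorElement_def, dg, h.tinv, mul_assoc, ttc tt, tt]
      have := s.WO (mul_mem (inv_mem hw) (conj_mem_of_mem_normalizer s.tW hw)) (by
        rw [show w⁻¹ * (t * w * t⁻¹) = w⁻¹ * (t * (w * o) * t⁻¹) * (t * o * t⁻¹)⁻¹ by group, e2,
          mul_assoc w, inv_mul_cancel_left]
        exact k)
      exact (comm_of_cj (inv_mul_eq_one.1 this).symm).symm)
    obtain ⟨a, ha, rfl⟩ := s.dbl.sur w wE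
    refine ⟨y * a, mul_mem hy (EY ha), ?_⟩
    rw [dg_mul (mem_cen.1 (X4 (cj_mono t YX hy')) a ha), ← mul_assoc, e1, mul_assoc,
      ← mem_cen.1 (s.O_cen ho) _ hw, ← mul_assoc, s.elW _ hw, one_mul]
    exact ho

theorem jobJ4b : JobJ4b.{u} := by
  intro G _ _ t L S E E' E₁ Y h s y
  have tt := h.tt
  have YN : Y ≤ nor E₁ ⊓ nor (cj t E₁) :=
    y.le.trans (inf_le_inf_left _ (le_normalizer_of_le_centralizer le_rfl))
  have NN : cj t (nor E₁ ⊓ nor (cj t E₁)) = nor E₁ ⊓ nor (cj t E₁) := by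
    rw [cj_inf, cj_normalizer, cj_normalizer, cj_tt tt, inf_comm]
  have HN : WW t Y ≤ nor E₁ ⊓ nor (cj t E₁) := sup_le YN (NN ▸ cj_mono t YN)
  have nY₂ : nor E₁ ⊓ nor (cj t E₁) ≤ nor (cj t Y) := by
    have := cj_mono t y.norY
    rwa [NN, cj_normalizer] at this
  have YO := YN.trans s.NN_O
  have k0 : Y ⊓ cj t Y ≤ E₁ ⊔ OW t E₁ := (inf_le_inf_left _ (by
    have := cj_mono t (y.le.trans inf_le_right)
    rwa [cj_centralizer, cj_tt tt] at this)).trans y.inter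
  have YY : Y ⊓ cj t Y ≤ OW t E₁ := fun x hx => s.EO (k0 hx) (by
    have := cj_mono t k0
    rw [cj_inf, cj_tt tt, inf_comm, cj_sup, s.tO] at this
    exact this hx)
  have NH : L ⊓ nor (WW t E₁) ≤ WW t Y := fun n hn => by
    obtain ⟨x, hx, e⟩ := y.dbl n hn
    simpa [dg, mul_assoc] using mul_mem (mul_mem (mem_sup_left hx)
      (mem_sup_right (S := Y) (conj_mem_cj (g := t) hx))) (inv_mem (mem_sup_left (y.OY e)))
  have tH := t_mem_nor tt Y
  obtain ⟨R, hR, SR⟩ := exists_isSyl_le h.sylF.isPGroup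
    (sup_le_sup_right ((s.S_N h).trans NH) (zpowers t))
  have tR : t ∈ R := SR (mem_sup_right (mem_zpowers t))
  have R0 := hR.inf_of_le_normalizer le_sup_left
    (hR.le.trans (sup_le le_normalizer (zpowers_le.2 tH)))
  have R1 := R0.inf_of_le_normalizer le_sup_left (R0.le.trans (HN.trans y.norY))
  have e2 : cj t (R ⊓ WW t Y ⊓ Y) = R ⊓ WW t Y ⊓ cj t Y := by
    rw [cj_inf, cj_inf, cj_eq_self (le_normalizer tR), cj_eq_self tH]
  have e0 : WW t (R ⊓ WW t Y ⊓ Y) = R ⊓ WW t Y := by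
    have := R0.sup_inf_eq (SubN.of_normal le_sup_left (HN.trans y.norY))
      (SubN.of_normal le_sup_right (HN.trans nY₂))
    rw [inf_eq_right.2 inf_le_right, inf_comm Y, inf_comm (cj t Y)] at this
    rw [WW, e2, ← this]
  have e1 : R ⊓ WW t Y ⊓ Y = R ⊓ WW t Y ⊓ Y := rfl
  generalize hS₁ : R ⊓ WW t Y ⊓ Y = S₁ at e0 R1
  clear e1 e2
  have T0R : WW t S₁ ≤ R := e0 ▸ inf_le_left
  have one : ∀ x ∈ R, x ∈ OW t E₁ → x = 1 := fun x hx ho =>
    let ⟨_, hk⟩ := isPGroup_iff_forall.1 hR.isPGroup x hx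
    one_of_odd (odd_of_mem s.oddO ho) hk
  have cO : ∀ a ∈ Y, ∀ b ∈ cj t Y, ⁅a, b⁆ ∈ OW t E₁ := fun a ha b hb =>
    y.comm (commutator_mem_commutator ha hb)
  have w := wp_of tt (A := S₁) (fun a ha b hb => commutatorElement_eq_one_iff_mul_comm.1 (one _
    (commutator_le_of_le T0R T0R (commutator_mem_commutator (mem_sup_left ha) (mem_sup_right hb)))
    (cO a (R1.le ha) b (cj_mono t R1.le hb))))
    (eq_bot_iff.2 fun x hx => one x (T0R (mem_sup_left hx.1)) (YY ⟨R1.le hx.1, cj_mono t R1.le hx.2⟩))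
  have T0N : WW t S₁ ≤ nor E₁ ⊓ nor (cj t E₁) := (e0.le.trans inf_le_right).trans HN
  rw [show WW t S₁ ⊓ cen1 t = S from le_antisymm (fun x hx => (mem_coset h.tS tt
    ((h.sylF.eq_of_le (hR.isPGroup.to_le inf_le_left) (le_inf SR h.sylF.le) inf_le_right).le
      ⟨T0R hx.1, hx.2, nor_diag s.w (mem_cen1.1 hx.2) (NN_W (T0N hx.1))⟩)).resolve_right fun e =>
      s.t_not_E h (((nor E₁).mul_mem_cancel_left (T0N hx.1).1).1 (s.SN e)))
    (le_inf (e0 ▸ le_inf (le_sup_left.trans SR) ((s.S_N h).trans NH)) h.St)] at w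
  have ES : E₁ ≤ S₁ := R1.le_of_le_normalizer s.dbl.el.two y.EY (R1.le.trans y.a7.nor)
  have lf : ∀ x ∈ Y, ∃ x' ∈ Y ⊓ cen (cj t S₁), x⁻¹ * x' ∈ OW t E₁ := fun x hx => by
    obtain ⟨x', h1, h2⟩ := H42.An.lift_cen s.oddO (isPGroup_cj t R1.isPGroup)
      (le_sup_right.trans (T0N.trans s.NN_O)) (YO hx) fun a ha => by
        rw [← commutatorElement_inv]; exact inv_mem (cO x hx a (cj_mono t R1.le ha))
    exact ⟨x', ⟨by simpa using mul_mem hx (y.OY h2), h1⟩, h2⟩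
  have OE : OW t E₁ ≤ cen E₁ := fun _ ho => (cen_WW.1 (s.O_cen ho)).1
  have a7 : A7 (Y ⊓ cen (cj t S₁)) E₁ := y.a7.of_le inf_le_left fun x hx => by
    obtain ⟨x', h1, h2⟩ := lf x hx
    simpa using mul_mem (mem_sup_left h1) (inv_mem (mem_sup_right (OE h2)))
  have syl := R1.of_le (le_inf R1.le w.le_cen₁) inf_le_left
  refine ⟨_, S₁, w, ES, syl, inf_le_right, a7, syl.sup_res.ge.trans (sup_le ?_ le_rfl),
    fun c hc a ha e => hS₁ ▸ ⟨e0 ▸ e, conj_mem_of_mem_normalizer (y.norY hc) (R1.le ha)⟩,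
    fun c hc A hA hn => ?_⟩
  · have n1 := syl.le.trans (self_le_normalizer_res (p := 2) _)
    have ER := a7.res.comm_eq.ge.trans (commutator_le_right' (ES.trans n1))
    have s1 := syl.inf_of_le_normalizer (res_le _) n1
    have c1 := card_eq_relIndex_mul (H98.res 2 (Y ⊓ cen (cj t S₁))) (cen E₁)
    have c2 := card_eq_relIndex_mul (H98.res 2 (Y ⊓ cen (cj t S₁))) S₁
    have c3 := card_dvd_of_le (le_inf ER s.dbl.el.le_cen)
    have c4 := s1.not_dvd_relIndex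
    rw [inf_relIndex_right] at c4
    rw [s.cE h] at c3
    have c5 : 2 ^ 7 ∣ Nat.card ↥(H98.res 2 (Y ⊓ cen (cj t S₁)) ⊓ S₁) :=
      ((Nat.coprime_two_left.2 (Nat.not_even_iff_odd.1 fun e => c4 e.two_dvd)).pow_left 7).dvd_of_dvd_mul_left
        (by rw [← c2, c1, a7.res.idx]; exact (mul_dvd_mul (show 8 ∣ 2520 by norm_num) c3 : 8 * 16 ∣ _))
    exact inf_eq_right.1 (eq_of_le_of_card_ge inf_le_right (by
      rw [w.card_eq, h.sy.cS]; exact Nat.le_of_dvd Nat.card_pos c5))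
  · have ct := mem_cen1.1 hc.1
    obtain ⟨n, hn', o, ho, rfl | rfl⟩ := s.norF c ⟨hc.1, nor_WW ct hc.2⟩
    swap
    · exact (s.t_not_E h (by
        simpa [mul_assoc] using mul_mem (mul_mem (inv_mem (s.norN hn')) hc.2)
          (inv_mem (s.C_NN (s.O_cen ho.2)).1))).elim
    obtain ⟨y₀, h0, e3⟩ := y.dbl n hn'
    obtain ⟨y', h1, e4⟩ := lf y₀ h0
    have AY := hA.trans syl.le
    have nN : Y ⊓ cen (cj t S₁) ≤ nor (OW t E₁ ⊓ (Y ⊓ cen (cj t S₁))) :=
      le_normalizer_inf (inf_le_left.trans YO) le_normalizer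
    have od : Odd (Nat.card ↥(OW t E₁ ⊓ (Y ⊓ cen (cj t S₁)))) :=
      Odd.of_dvd_nat s.oddO (card_dvd_of_le inf_le_left)
    have key : ∀ a ∈ A, (y' * a * y'⁻¹)⁻¹ * (n * o * a * (n * o)⁻¹) ∈
        OW t E₁ ⊓ (Y ⊓ cen (cj t S₁)) := fun a ha => by
      refine mem_inf.2 ⟨?_, mul_mem (inv_mem (mul_mem (mul_mem h1 (AY ha)) (inv_mem h1)))
        (AY (conj_mem_of_mem_normalizer hn ha))⟩
      have aO := YO (AY ha).1
      have hu := conj_mem_cj (g := t) h0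
      have uO := s.NN_O (HN (mem_sup_right hu))
      have o3 := mul_mem (inv_mem e3) ho.2
      convert conj_mem_of_mem_normalizer (YO h0) (mul_mem (mul_mem (mul_mem (mul_mem e4
        (conj_mem_of_mem_normalizer' aO (inv_mem e4))) (cO _ (inv_mem (AY ha).1) _ hu))
        (conj_mem_of_mem_normalizer uO (conj_mem_of_mem_normalizer' aO o3)))
        (conj_mem_of_mem_normalizer uO (inv_mem o3))) using 1
      rw [commutatorElement_def, dg]; group
    have A2 := R1.isPGroup.to_le hA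
    obtain ⟨y₁, h2, e5⟩ := H42.An.lift_nor od A2 (AY.trans nN) (nN h1) fun a ha =>
      ⟨_, conj_mem_of_mem_normalizer hn ha, key a ha⟩
    exact ⟨y₁, by simpa using mul_mem h1 e5.2, fun a ha => H42.An.conj_eq_of_mod od A2 (AY.trans nN)
      (nN h1) h2 e5 ha (conj_mem_of_mem_normalizer hn ha) (key a ha)⟩

end H42.ML
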