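import Cfsg.Agent.H42.MLLoc
import Cfsg.Agent.H44.WrSW
import Cfsg.Agent.H99.WrOA

/-! Tower MCLY (`blueprints/MCLY.md`): shared lemmas of part 1. -/

set_option autoImplicit false
set_option linter.unusedSectionVars false

namespace H42.ML

open Subgroup Cfsg H98 H1.Gold H99.Wr
open H53.Wr (UU th)
open scoped commutatorElement

universe u

variable {G : Type u} [Group G] [Finite G] {t z ρ a b c g l n o v x τ : G}
  {L S E E' E₁ F₁ Y₁ S₁ T P A B K M : Subgroup G}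

theorem mem_cen1 : x ∈ cen1 a ↔ x * a = a * x := H99.Wr.mem_cen1

theorem G0_normal : (G0 G).Normal := by
  show (H98.res 2 (⊤ : Subgroup G)).Normal
  rw [H98.res_top]; exact pResidual_normal'

theorem nor_G0 (g : G) : g ∈ nor (G0 G) := self_le_normalizer_res ⊤ (mem_top g)

theorem cj_G0 (g : G) : cj g (G0 G) = G0 G := cj_eq_self (nor_G0 g)

theorem conj_G0 (g : G) (h : x ∈ G0 G) : g * x * g⁻¹ ∈ G0 G := G0_normal.conj_mem x h g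

theorem odd_G0 (h : Odd (orderOf x)) : x ∈ G0 G :=
  mem_res_of_coprime (mem_top x) (Nat.coprime_two_right.2 h)

/-- If `x²` centralises `a` and `x` has odd order, then `x` centralises `a`. -/
theorem comm_of_odd (h : Odd (orderOf x)) (e : x * x * a = a * (x * x)) : x * a = a * x :=
  mem_cen1.1 (mem_of_pow_mem_of_coprime (n := 2) (mem_cen1.2 (by rwa [pow_two]))
    (Nat.coprime_two_right.2 h))

/-- An element of odd order that normalises `E` and centralises `E'` centralises `E`. -/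
theorem Sy.quad (h : Sy S E E') (ho : Odd (orderOf o)) (h1 : o ∈ nor E) (h2 : o ∈ cen E') :
    o ∈ cen E := mem_cen.2 fun e he => by
  have k := conj_mem_of_mem_normalizer h1 he
  have h3 : e * (o * e * o⁻¹) ∈ E' := h.symm.cen_E (mem_sup_right (mul_mem he k))
    (mem_cen.2 fun f hf => by
      have c1 := cj_of_comm (mem_cen.1 h2 _ (conj_mem_of_mem_normalizer (h.SN' (h.ES he)) hf)).symm
      have c2 := cj_of_comm (mem_cen.1 h2 f hf).symm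
      have c3 : o * e * o⁻¹ * f * (o * e * o⁻¹)⁻¹ = e * f * e⁻¹ := by
        rw [← c1]; conv_lhs => rw [← c2]
        group
      refine (comm_of_cj ?_).symm
      calc _ = e * (o * e * o⁻¹ * f * (o * e * o⁻¹)⁻¹) * e⁻¹ := by group
        _ = f := by rw [c3, tt_conj (h.el e he)])
  refine (comm_of_odd ho (comm_of_cj ?_)).symm
  have c4 := cj_of_comm (mem_cen.1 h2 _ h3).symm
  have c5 : o * o * e * (o * o)⁻¹ = (o * e * o⁻¹)⁻¹ * (e * (o * e * o⁻¹)) := by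
    rw [← c4]; group
  rw [c5, h.el.comm he k, inv_mul_cancel_left]

namespace Bs

variable (h : Bs L S E E')
include h

theorem EL : E ≤ L := h.sy.ES.trans h.SL

theorem a7 : A7 (L ⊓ nor E) E := ⟨h.sy.el, h.sy.cE, inf_le_right, h.idx⟩

theorem sylC : IsSyl 2 E (L ⊓ cen E) := by
  have := Sy.sylC h.sy h.syl
  rwa [inf_assoc, inf_eq_right.2 (le_normalizer_of_le_centralizer le_rfl)] at this

/-- The involutions of `L` are conjugate to every involution of `E`. -/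
theorem conjE (hx : x ∈ L) (h2 : x * x = 1) (h1 : x ≠ 1) (ha : a ∈ E) (a1 : a ≠ 1) :
    ∃ l ∈ L, l * x * l⁻¹ = a :=
  h.one x hx a (h.EL ha) (H14.orderOf_two_of_mul_self h2 h1)
    (H14.orderOf_two_of_mul_self (h.sy.el a ha) a1)

theorem blkS (hv : v ∈ nor S) : Blk v E E' := by
  have e1 := h.two _ (cj_le_of_le h.sy.ES hv) (h.sy.el.cj v) (by rw [card_cj, h.sy.cE])
  have e2 := h.two _ (cj_le_of_le h.sy.E'S hv) (h.sy.el'.cj v) (by rw [card_cj, h.sy.cE'])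
  rcases e1 with e1 | e1 <;> rcases e2 with e2 | e2
  · exact (h.sy.ne (cj_inj.1 (e1.trans e2.symm))).elim
  · exact Or.inl ⟨e1, e2⟩
  · exact Or.inr ⟨e1, e2⟩
  · exact (h.sy.ne (cj_inj.1 (e1.trans e2.symm))).elim

end Bs

namespace Loc

variable (h : Loc t L S E E')
include h

theorem tt : t * t = 1 := H14.mul_self_of_two h.ord
theorem tinv : t⁻¹ = t := inv_of_sq h.tt
theorem t1 : t ≠ 1 := H14.ne_one_of_two h.ord
theorem cL (hl : l ∈ L) : l * t = t * l := mem_cen1.1 (h.Lt hl)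
theorem tL : t ∈ cen L := mem_cen.2 fun _ hl => h.cL hl
theorem tnL : t ∉ L := by simpa using h.nconj 1
theorem St : S ≤ cen1 t := h.SL.trans h.Lt
theorem tS : t ∈ nor S := le_normalizer_of_le_centralizer le_rfl (centralizer_anti h.SL h.tL)
theorem tE : t ∈ cen E := centralizer_anti h.EL h.tL
theorem L_G : L ≤ G0 G := h.resL.trans (res_mono le_top)

theorem mem_F : x ∈ E ⊔ zpowers t ↔ x ∈ E ∨ x * t ∈ E :=
  ⟨mem_coset (le_normalizer_of_le_centralizer le_rfl h.tE) h.tt, fun e => e.elim mem_sup_left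
    fun e => by simpa using mul_mem (mem_sup_left e) (inv_mem (mem_sup_right (mem_zpowers t)))⟩

theorem elF : El (E ⊔ zpowers t) := h.sy.el.sup (el_zpowers h.tt) fun a ha _ hb =>
  mem_cen.1 (zpowers_le.2 h.tE hb) a ha

theorem cardF : Nat.card ↥(E ⊔ zpowers t) = 32 := by
  have := H99.card_sup_mul_card_inf_of_le_normalizer (H := zpowers t) (K := E)
    (zpowers_le.2 (le_normalizer_of_le_centralizer le_rfl h.tE))
  rw [show zpowers t ⊓ E = ⊥ from eq_bot_iff.2 fun x hx =>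
    ((mem_zpowers_sq h.tt).1 hx.1).elim id fun e => (h.tnL (h.EL (e ▸ hx.2))).elim,
    card_bot, Nat.card_zpowers, h.ord, h.sy.cE, sup_comm] at this
  omega

theorem cenF : IsSyl 2 (E ⊔ zpowers t) (cen1 t ⊓ cen E) := by
  have := h.sylF.inf_centralizer (h.sylF.le.trans inf_le_right)
  rwa [inf_assoc, inf_eq_right.2 (le_normalizer_of_le_centralizer le_rfl),
    show (S ⊔ zpowers t) ⊓ centralizer (E : Set G) = E ⊔ zpowers t from le_antisymm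
      (fun x hx => h.mem_F.2 ((mem_coset h.tS h.tt hx.1).imp (fun e => h.sy.cen_S e hx.2)
        fun e => h.sy.cen_S e (mul_mem hx.2 h.tE)))
      (le_inf (sup_le_sup_right h.sy.ES _) (sup_le h.sy.el.le_cen (zpowers_le.2 h.tE)))] at this

/-- `t x` is conjugate to `t`. -/
theorem tx (hx : x ∈ L) (h2 : x * x = 1) : ∃ g : G, g * t * g⁻¹ = t * x := by
  by_cases h1 : x = 1
  · exact ⟨1, by simp [h1]⟩
  obtain ⟨g, y, hy, y1, yy, e⟩ := h.fus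
  obtain ⟨l, hl, rfl⟩ := h.one y hy x hx (H14.orderOf_two_of_mul_self yy y1)
    (H14.orderOf_two_of_mul_self h2 h1)
  refine ⟨l * g, ?_⟩
  calc _ = l * (g * t * g⁻¹) * l⁻¹ := by group
    _ = _ := by rw [e, ← mul_assoc, h.cL hl]; group

theorem big (he : El A) (ht : t ∈ A) (hc : 32 ≤ Nat.card A) :
    ∃ l ∈ L, cj l A = E ⊔ zpowers t ∨ cj l A = E' ⊔ zpowers t := by
  obtain ⟨l, hl, h1⟩ := h.ns A (fun a ha => mem_cen1.2 (he.comm ha ht)) he.two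
  refine ⟨l, hl, ?_⟩
  have ht' : t ∈ cj l A := cj_of_comm (h.cL hl) ▸ conj_mem_cj ht
  rw [← card_cj l] at hc
  have he := he.cj l
  generalize cj l A = B at *
  have k1 : ∀ x ∈ B, x ∈ nor E → x ∈ S ∨ x * t ∈ S := fun x hx h2 =>
    mem_coset h.tS h.tt (h.sylF.le_of_le_normalizer' (el_zpowers (he x hx)).two
      (zpowers_le.2 ⟨mem_cen1.2 (he.comm hx ht'), h2⟩) (zpowers_le.2 (le_normalizer_sup
        (H := zpowers x) (zpowers_le.2 (h1 hx)) (zpowers_le.2 (le_normalizer_of_le_centralizer le_rfl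
          (by rw [H14.centralizer_zpowers]; exact mem_cen1.2 (he.comm hx ht')))) (mem_zpowers x)))
      (mem_zpowers x))
  have k2 : ∀ D ≤ B, D ≤ nor E → Nat.card D ≤ 2 * Nat.card ↥(D ⊓ S) := fun D hD h2 => by
    rw [card_eq_relIndex_mul D S]
    refine Nat.mul_le_mul_right _ (relIndex_le_two fun x hx y hy h3 h4 => ?_)
    have := mul_mem ((k1 x (hD hx) (h2 hx)).resolve_left h3) ((k1 y (hD hy) (h2 hy)).resolve_left h4)
    rwa [he.comm (hD hy) ht', mul_assoc, ← mul_assoc t, h.tt, one_mul] at this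
  have k3 : B ≤ nor E := fun v hv => by
    by_contra h2
    obtain ⟨e1, e2⟩ := (h.blkS (h1 hv)).swap h2
    have n1 := (H44.WrO.jobSW G S E E' v h.sy e1 e2).1 (B ⊓ nor E ⊓ S) inf_le_right
      (he.mono (inf_le_left.trans inf_le_left)) fun x hx => mem_cen1.2 (he.comm hx.1.1 hv)
    have n2 := k2 _ inf_le_left (inf_le_right : B ⊓ nor E ≤ _)
    have n3 := card_eq_relIndex_mul B (nor E)
    have n4 : (nor E).relIndex B ≤ 2 := relIndex_le_two fun x hx y hy =>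
      (h.blkS (h1 hx)).mul (h.blkS (h1 hy))
    nlinarith
  have k4 : B = B ⊓ S ⊔ zpowers t := le_antisymm (fun x hx => (k1 x hx (k3 hx)).elim
    (fun e => mem_sup_left (mem_inf.2 ⟨hx, e⟩)) fun e => by
      simpa using mul_mem (mem_sup_left (S := B ⊓ S) (T := zpowers t) (mem_inf.2 ⟨mul_mem hx ht', e⟩))
        (inv_mem (mem_sup_right (mem_zpowers t)))) (sup_le inf_le_left (zpowers_le.2 ht'))
  have := k2 B le_rfl k3
  exact (h.two _ inf_le_right (he.mono inf_le_left) (by omega)).imp (fun e => by rw [← e, ← k4]) fun e => by rw [← e, ← k4]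

theorem rank (he : El A) (ht : g * t * g⁻¹ ∈ A) : Nat.card A ≤ 32 := by
  by_contra hc
  obtain ⟨l, -, e⟩ := h.big (he.cj g⁻¹) (mem_cj.2 (by simpa using ht)) (by rw [card_cj]; omega)
  have := congrArg (fun X : Subgroup G => Nat.card X) (rfl : cj l (cj g⁻¹ A) = _)
  rcases e with e | e
  · conv_lhs at this => rw [e, h.cardF]
    rw [card_cj, card_cj] at this; omega
  · conv_lhs at this => rw [e, h.symm.cardF]
    rw [card_cj, card_cj] at this; omega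

theorem quad (ho : Odd (orderOf o)) (h1 : o ∈ nor E) (h2 : o ∈ cen E') : o ∈ cen E :=
  Sy.quad h.sy ho h1 h2

/-- `C(t) ∩ C(E) = E⟨t⟩ × odd` -/
theorem decF (hc : c ∈ cen1 t ⊓ cen E) : ∃ f ∈ E ⊔ zpowers t, ∃ o ∈ cen1 t ⊓ cen E,
    Odd (orderOf o) ∧ c = f * o := by
  obtain ⟨h2, h3⟩ := dec_of_central h.cenF (sup_le
    (fun a ha => mem_cen.2 fun x hx => (mem_cen.1 hx.2 a ha).symm)
    (zpowers_le.2 (mem_cen.2 fun x hx => mem_cen1.1 hx.1)))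
  obtain ⟨w, hw, o, ho, e⟩ := h3 c hc
  exact ⟨w, hw, o, res_le _ ho, odd_of_mem h2 ho, e⟩

end Loc

/-- `C_L(E) = E × odd` -/
theorem Bs.decC (h : Bs L S E E') (hc : c ∈ L ⊓ cen E) : ∃ e ∈ E, ∃ o ∈ L ⊓ cen E,
    Odd (orderOf o) ∧ c = e * o := by
  obtain ⟨h2, h3⟩ := dec_of_central h.sylC
    fun a ha => mem_cen.2 fun x hx => (mem_cen.1 hx.2 a ha).symm
  obtain ⟨w, hw, o, ho, e⟩ := h3 c hc
  exact ⟨w, hw, o, res_le _ ho, odd_of_mem h2 ho, e⟩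

/-- `C(W) = W × O_W` -/
theorem decW (h : IsSyl 2 A (cen A)) : Odd (Nat.card (H98.res 2 (cen A))) ∧
    ∀ x ∈ cen A, ∃ w ∈ A, ∃ o ∈ H98.res 2 (cen A), x = w * o :=
  dec_of_central h (le_centralizer_centralizer _)

theorem S1.w (h : S1 t L S E E₁) : Wp t E₁ E := h.dbl.wp h.tt

theorem Wp.not_nor (h : Wp t A B) (hA : A ≠ ⊥) : t ∉ nor A := fun e =>
  hA (by rw [← h.bot, cj_eq_self e, inf_idem])

theorem S1.t_not_E (h : S1 t L S E E₁) (k : Loc t L S E E') : t ∉ nor E₁ :=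
  Wp.not_nor h.w fun e => by
    have := h.w.card_eq
    rw [e, card_bot, k.sy.cE] at this
    omega

namespace Cy

variable (h : Cy t L S E E' E₁ F₁ Y₁ S₁)
include h

theorem tt : t * t = 1 := h.w.tt
theorem sy₂ : Sy (cj t S₁) (cj t E₁) (cj t F₁) := h.sy₁.cj t
theorem SY : S₁ ≤ Y₁ := h.sylY.le
theorem norE : Y₁ ≤ nor E₁ := h.a7Y.nor
theorem a7Y₂ : A7 (cj t Y₁) (cj t E₁) := h.a7Y.cj t
theorem cenS₂ : cj t Y₁ ≤ cen S₁ := by
  have := cj_mono t h.cenS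
  rwa [cj_centralizer, cj_tt h.tt] at this

theorem two₂ (hK : K ≤ cj t S₁) (he : El K) (hc : 16 ≤ Nat.card K) :
    K = cj t E₁ ∨ K = cj t F₁ := by
  have := h.two₁ _ (cj_le_iff.2 (by rwa [h.tinv])) (he.cj t) (by rwa [card_cj])
  exact this.imp (fun e => by rw [← e, cj_tt h.tt]) fun e => by rw [← e, cj_tt h.tt]

/-- `S₁` has `2`-rank `4` -/
theorem rk₁ (hK : K ≤ S₁) (he : El K) : Nat.card K ≤ 16 := by
  by_contra hc
  rcases h.two₁ K hK he (by omega) with rfl | rfl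
  exacts [hc h.sy₁.cE.le, hc h.sy₁.cE'.le]

/-- elementary subgroups of order `2⁸` of `T₀` -/
theorem big0 (hR : A ≤ WW t S₁) (he : El A) (hc : 256 ≤ Nat.card A) :
    ∃ K M : Subgroup G, (K = E₁ ∨ K = F₁) ∧ (M = E₁ ∨ M = F₁) ∧ A = K ⊔ cj t M := by
  have w := h.w
  have e1 := w.el_half hR he
  have e2 := w.el_half (cj_le_of_le hR (t_mem_nor w.tt S₁)) (he.cj t)
  have c1 := h.rk₁ inf_le_left e1
  have c2 := h.rk₁ inf_le_left e2
  have c3 := card_le_of_le (w.le_halves hR)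
  have c4 := w.card_pair (K := half t S₁ A) (M := half t S₁ (cj t A)) inf_le_left inf_le_left
  exact ⟨_, _, h.two₁ _ inf_le_left e1 (by nlinarith), h.two₁ _ inf_le_left e2 (by nlinarith),
    eq_of_le_of_card_ge (w.le_halves hR) (by nlinarith)⟩

theorem card_W : Nat.card (WW t E₁) = 256 := by
  rw [h.w.card_pair h.sy₁.ES h.sy₁.ES, h.sy₁.cE]

theorem card_W' : Nat.card (WW t F₁) = 256 := by
  rw [h.w.card_pair h.sy₁.E'S h.sy₁.E'S, h.sy₁.cE']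

theorem card_T0 : Nat.card (WW t S₁) = 2 ^ 14 := by
  rw [h.w.card_pair le_rfl le_rfl, h.sy₁.cS]; norm_num

theorem elW : El (WW t E₁) := h.w.el_pair h.sy₁.ES h.sy₁.ES h.sy₁.el h.sy₁.el
theorem elW' : El (WW t F₁) := h.w.el_pair h.sy₁.E'S h.sy₁.E'S h.sy₁.el' h.sy₁.el'

/-- `Y₁` is transitive on `E₁#` -/
theorem tr₁ (ha : a ∈ E₁) (hb : b ∈ E₁) (h1 : a ≠ 1) (h2 : b ≠ 1) :
    ∃ y ∈ Y₁, y * a * y⁻¹ = b := h.a7Y.tr ha hb h1 h2

/-- `N_L(F₁)` is transitive on `F₁#` -/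
theorem trX (ha : a ∈ F₁) (hb : b ∈ F₁) (h1 : a ≠ 1) (h2 : b ≠ 1) :
    ∃ y ∈ L ⊓ nor F₁, y * a * y⁻¹ = b := h.a7X.tr ha hb h1 h2

theorem X_nor₂ : L ⊓ nor F₁ ≤ nor (cj t F₁) := fun _ hx => mem_nor_cj (h.cL hx.1) hx.2

theorem sq₁ (ha : a ∈ S₁) (h2 : a * a ∈ E₁) : ∃ y ∈ Y₁, y * a * y⁻¹ ∈ E₁ ⊔ F₁ :=
  h.a7Y.sq h.sy₁ h.sylY ha h2

/-- an involution of `S₁` is conjugate into `E₁ ∪ F₁` under `Y₁` -/
theorem invJ (ha : a ∈ S₁) (h2 : a * a = 1) :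
    ∃ y ∈ Y₁, y * a * y⁻¹ ∈ E₁ ∨ y * a * y⁻¹ ∈ F₁ := by
  obtain ⟨y, hy, e⟩ := h.sq₁ ha (h2 ▸ E₁.one_mem)
  refine ⟨y, hy, h.sy₁.inv_J e ?_⟩
  calc _ = y * (a * a) * y⁻¹ := by group
    _ = 1 := by rw [h2]; group

theorem mem_J₁ : a ∈ E₁ ⊔ F₁ ↔ a ∈ S₁ ∧ dg t a ∈ E ⊔ E' := by
  have k : ∀ {A B : Subgroup G}, Wp t A B → A ≤ S₁ → B ≤ S → A = half t S₁ B := fun w h1 h2 => by
    ext x
    rw [h.w.mem_half h2]
    refine ⟨fun hx => ⟨h1 hx, w.dg_mem hx⟩, fun ⟨h3, h4⟩ => ?_⟩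
    obtain ⟨y, hy, e⟩ := (w.diag _).1 h4
    exact h.w.dg_inj (h1 hy) h3 e ▸ hy
  rw [← h.w.mem_half h.sy.J_le, h.w.half_sup h.sy.ES h.sy.E'S, ← k h.wE h.sy₁.ES h.sy.ES,
    ← k h.wF h.sy₁.E'S h.sy.E'S]

theorem Y_G : Y₁ ≤ G0 G := h.resY.trans (res_mono le_top)
theorem Y₂_G : cj t Y₁ ≤ G0 G := cj_G0 t ▸ cj_mono t h.Y_G
theorem T0_G : WW t S₁ ≤ G0 G := sup_le (h.SY.trans h.Y_G) ((cj_mono t h.SY).trans h.Y₂_G)

theorem not_le₁₂ (h1 : A ≤ S₁) (h2 : A ≤ cj t S₁) (hc : Nat.card A = 16) : False := by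
  rw [eq_bot_iff.2 ((le_inf h1 h2).trans h.w.bot.le)] at hc
  simp at hc

theorem one₁₂ (h1 : a ∈ S₁) (h2 : a ∈ cj t S₁) : a = 1 := mem_bot.1 (h.w.bot ▸ mem_inf.2 ⟨h1, h2⟩)

theorem t_not_E : t ∉ nor E₁ := fun e =>
  h.not_le₁₂ h.sy₁.ES ((cj_eq_self e).ge.trans h.sy₂.ES) h.sy₁.cE

theorem t_not_star : t ∉ nor (E₁ ⊔ F₁) := fun e =>
  h.not_le₁₂ h.sy₁.ES (le_sup_left.trans ((cj_eq_self e).ge.trans (cj_mono t h.sy₁.J_le))) h.sy₁.cE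

theorem S₂_nor (hA : A ≤ S₁) : cj t S₁ ≤ nor A :=
  le_normalizer_of_le_centralizer (h.w.le_cen₂.trans (centralizer_anti hA))

theorem S₁_nor (hA : A ≤ cj t S₁) : S₁ ≤ nor A :=
  le_normalizer_of_le_centralizer (h.w.le_cen₁.trans (centralizer_anti hA))

theorem T0_nor : WW t S₁ ≤ nor E₁ ⊓ nor F₁ ⊓ (nor (cj t E₁) ⊓ nor (cj t F₁)) :=
  le_inf (le_inf (sup_le h.sy₁.SN (h.S₂_nor h.sy₁.ES)) (sup_le h.sy₁.SN' (h.S₂_nor h.sy₁.E'S)))
    (le_inf (sup_le (h.S₁_nor h.sy₂.ES) h.sy₂.SN) (sup_le (h.S₁_nor h.sy₂.E'S) h.sy₂.SN'))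

theorem T0_J₁ : WW t S₁ ≤ nor (E₁ ⊔ F₁) :=
  le_normalizer_sup (fun _ hx => (h.T0_nor hx).1.1) fun _ hx => (h.T0_nor hx).1.2

theorem tT0n : t ∈ nor (WW t S₁) := t_mem_nor h.tt S₁

theorem two_T1 : IsPGroup 2 ↥(WW t S₁ ⊔ zpowers t) :=
  IsPGroup.to_sup_of_normal_left' (h.w.two h.sy₁.two) (el_zpowers h.tt).two (zpowers_le.2 h.tT0n)

theorem mem_T1 (hx : x ∈ WW t S₁ ⊔ zpowers t) : x ∈ WW t S₁ ∨ x * t ∈ WW t S₁ :=
  mem_coset h.tT0n h.tt hx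

theorem T1_W : WW t S₁ ⊔ zpowers t ≤ nor (WW t E₁) :=
  sup_le (h.w.nor_pair h.sy₁.ES h.sy₁.ES h.sy₁.SN h.sy₁.SN) (zpowers_le.2 (t_mem_nor h.tt E₁))

theorem T1_J : WW t S₁ ⊔ zpowers t ≤ nor (WW t (E₁ ⊔ F₁)) :=
  sup_le (h.w.nor_pair h.sy₁.J_le h.sy₁.J_le h.sy₁.nor_J h.sy₁.nor_J)
    (zpowers_le.2 (t_mem_nor h.tt _))

/-- an involution of `T₀⟨t⟩` outside `T₀` -/
theorem inv_T1 (hx : x ∈ WW t S₁ ⊔ zpowers t) (h1 : x ∉ WW t S₁) (h2 : x * x = 1) :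
    ∃ a ∈ S₁, a * t * a⁻¹ = x := by
  have e : x * t * t = x := by rw [mul_assoc, h.tt, mul_one]
  obtain ⟨a, ha, e1⟩ := invol_coset h.tt h.w.comm h.w.bot ((h.mem_T1 hx).resolve_left h1)
    (by rw [e, h2])
  exact ⟨a, ha, e1.trans e⟩

theorem big1 : BigE t S₁ (WW t S₁ ⊔ zpowers t) := fun A hA he hc x hx => by
  by_contra h1
  obtain ⟨a, -, e⟩ := h.inv_T1 (hA hx) h1 (he x hx)
  have := h.rank he (e ▸ hx)
  omega

theorem J_le : WW t (E₁ ⊔ F₁) ≤ WW t S₁ := sup_le_sup h.sy₁.J_le (cj_mono t h.sy₁.J_le)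

theorem fam_le (hK : K = E₁ ∨ K = F₁) : K ≤ E₁ ⊔ F₁ ∧ K ≤ S₁ ∧ El K ∧ Nat.card K = 16 := by
  rcases hK with rfl | rfl
  exacts [⟨le_sup_left, h.sy₁.ES, h.sy₁.el, h.sy₁.cE⟩, ⟨le_sup_right, h.sy₁.E'S, h.sy₁.el', h.sy₁.cE'⟩]

theorem fam₂ (hK : K = cj t E₁ ∨ K = cj t F₁) :
    K ≤ cj t (E₁ ⊔ F₁) ∧ K ≤ cj t S₁ ∧ El K ∧ Nat.card K = 16 ∧ WW t S₁ ≤ nor K := by
  rcases hK with rfl | rfl
  exacts [⟨cj_mono t le_sup_left, h.sy₂.ES, h.sy₂.el, h.sy₂.cE, fun _ hx => (h.T0_nor hx).2.1⟩,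
    ⟨cj_mono t le_sup_right, h.sy₂.E'S, h.sy₂.el', h.sy₂.cE', fun _ hx => (h.T0_nor hx).2.2⟩]

/-- conjugates of the four groups of order `2⁸` inside `T₀` -/
theorem cj_pair (hK : K = E₁ ∨ K = F₁) (hM : M = E₁ ∨ M = F₁)
    (hn : cj n (K ⊔ cj t M) ≤ WW t S₁) :
    ∃ K' M' : Subgroup G, (K' = E₁ ∨ K' = F₁) ∧ (M' = E₁ ∨ M' = F₁) ∧
      cj n (K ⊔ cj t M) = K' ⊔ cj t M' := by
  obtain ⟨-, a, b, c⟩ := h.fam_le hK
  obtain ⟨-, a', b', c'⟩ := h.fam_le hM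
  exact h.big0 hn ((h.w.el_pair a a' b b').cj n) (by rw [card_cj, h.w.card_pair a a', c, c'])

theorem pair_le (hK : K = E₁ ∨ K = F₁) (hM : M = E₁ ∨ M = F₁) :
    K ⊔ cj t M ≤ WW t (E₁ ⊔ F₁) :=
  sup_le_sup (h.fam_le hK).1 (cj_mono t (h.fam_le hM).1)

/-- `J` is weakly closed in `T` -/
theorem wcJ (hb : BigE t S₁ T) (hn : cj n (WW t (E₁ ⊔ F₁)) ≤ T) : n ∈ nor (WW t (E₁ ⊔ F₁)) :=
  mem_normalizer_of_cj_le (by
    have key : ∀ K, K = E₁ ∨ K = F₁ → cj n (K ⊔ cj t K) ≤ WW t (E₁ ⊔ F₁) := fun K hK => by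
      obtain ⟨-, a, b, c⟩ := h.fam_le hK
      obtain ⟨K', M', h1, h2, e⟩ := h.cj_pair hK hK (hb _ ((cj_mono n (h.pair_le hK hK)).trans hn)
        ((h.w.el_pair a a b b).cj n) (by rw [card_cj, h.w.card_pair a a, c]))
      exact e ▸ h.pair_le h1 h2
    refine le_trans (le_of_eq ?_) (sup_le (key _ (Or.inl rfl)) (key _ (Or.inr rfl)))
    rw [WW, cj_sup t, sup_sup_sup_comm, cj_sup])

theorem norJ (hT : WW t S₁ ≤ T) (hb : BigE t S₁ T) : nor T ≤ nor (WW t (E₁ ⊔ F₁)) :=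
  fun _ hn => h.wcJ hb (cj_le_of_le (h.J_le.trans hT) hn)

/-- `C_{T₀}(W) = W` -/
theorem cen_W (hx : x ∈ WW t S₁) (hc : x ∈ cen (WW t E₁)) : x ∈ WW t E₁ := by
  obtain ⟨k, hk⟩ := isPGroup_iff_forall.1 (h.w.two h.sy₁.two) x hx
  exact h.cenW.le_of_le_normalizer (isPGroup_zpowers hk) (zpowers_le.2 hc)
    (le_normalizer_of_le_centralizer fun w hw => mem_cen.2 fun y hy =>
      (mem_cen.1 (zpowers_le.2 hc hy) w hw).symm) (mem_zpowers x)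

end Cy

namespace Cz

variable (h : Cz t z L S E E' E₁ F₁ Y₁ S₁)
include h

theorem tT0 : t ∉ WW t S₁ := by simpa using h.tnT 1
theorem zz : z * z = 1 := h.sy₁.el z h.zZ.1
theorem zS₁ : z ∈ S₁ := h.sy₁.ES h.zZ.1
theorem dE : dg t z ∈ E ⊓ E' := ⟨h.wE.dg_mem h.zZ.1, h.wF.dg_mem h.zZ.2⟩
theorem d1 : dg t z ≠ 1 := fun e => h.z1 (h.w.dg_inj h.zS₁ (one_mem _) (by rw [e, dg_one]))
theorem T0_z : WW t S₁ ≤ cen1 z :=
  sup_le h.zS fun _ hb => mem_cen1.2 (h.w.comm z h.zS₁ _ hb).symm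

theorem card_T1 : Nat.card ↥(WW t S₁ ⊔ zpowers t) = 2 ^ 15 := by
  have := H99.card_sup_mul_card_inf_of_le_normalizer (H := zpowers t) (K := WW t S₁)
    (zpowers_le.2 h.tT0n)
  rw [show zpowers t ⊓ WW t S₁ = ⊥ from eq_bot_iff.2 fun x hx =>
    ((mem_zpowers_sq h.tt).1 hx.1).elim id fun e => (h.tT0 (e ▸ hx.2)).elim,
    card_bot, Nat.card_zpowers, h.ord, h.card_T0, sup_comm] at this
  omega

/-- involutions of `S₁^t` are conjugate to `z^t` in `G₀` -/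
theorem c2 (ha : a ∈ cj t S₁) (h2 : a * a = 1) (h1 : a ≠ 1) :
    ∃ g ∈ G0 G, g * a * g⁻¹ = t * z * t⁻¹ := by
  obtain ⟨b, hb, rfl⟩ := ha
  obtain ⟨g, hg, e⟩ := h.c1 b hb (by simpa [mul_assoc] using congrArg (fun x => t⁻¹ * x * t) h2)
    (by rintro rfl; simp at h1)
  exact ⟨t * g * t⁻¹, conj_G0 t hg, by rw [← e]; simp [mul_assoc]⟩

/-- the three classes of involutions of `T₀` -/
theorem cls (hx : x ∈ WW t S₁) (h2 : x * x = 1) (h1 : x ≠ 1) : x ∈ S₁ ∨ x ∈ cj t S₁ ∨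
    ∃ g ∈ G0 G, g * x * g⁻¹ = dg t z := by
  obtain ⟨a, ha, b, hb, rfl⟩ := h.w.mem_T.1 hx
  obtain ⟨e1, e2⟩ := h.w.sq_pair ha hb h2
  by_cases a1 : a = 1
  · exact Or.inr (Or.inl (by rw [a1, one_mul]; exact conj_mem_cj hb))
  by_cases b1 : b = 1
  · exact Or.inl (by simpa [b1] using ha)
  exact Or.inr (Or.inr (h.c12 a ha b hb e1 e2 a1 b1))

end Cz

/-- `z` is not conjugate to `z z^t` in a subgroup whose Sylow subgroup controls `J`. -/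
theorem Cw.pure' (h : Cw t z L S E E' E₁ F₁ Y₁ S₁) (hT : IsSyl 2 T M) (h1 : WW t S₁ ≤ T)
    (hb : BigE t S₁ T) (hg : g ∈ M) : g * z * g⁻¹ ≠ dg t z := fun e => by
  have le : E₁ ⊓ F₁ ≤ S₁ := inf_le_left.trans h.sy₁.ES
  obtain ⟨n, hn, e1⟩ := h.fusJ M T hT h1 hb z (mem_sup_left h.zZ) g hg
    (e ▸ mul_mem (mem_sup_left h.zZ) (mem_sup_right (conj_mem_cj h.zZ)))
  rcases (h.zJ n hn.2).mem h.zZ with k | k <;> rw [e1, e] at k
  · have := h.one₁₂ (by simpa [dg] using mul_mem (inv_mem h.zS₁) (le k)) (conj_mem_cj h.zS₁)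
    exact h.z1 (by simpa using this)
  · have := mul_mem (cj_mono t le k) (inv_mem (conj_mem_cj (g := t) h.zS₁))
    rw [dg, mul_inv_cancel_right] at this
    exact h.z1 (h.one₁₂ h.zS₁ this)

namespace Cq

variable (h : Cq t z L S E E' E₁ F₁ Y₁ S₁ T)
include h

theorem T0 : WW t S₁ ≤ T := le_sup_left.trans h.T1
theorem tT : t ∈ T := h.T1 (mem_sup_right (mem_zpowers t))
theorem two_T : IsPGroup 2 T := h.sylT.isPGroup

theorem pure (g : G) : g * z * g⁻¹ ≠ dg t z := h.pure' h.sylT h.T0 h.big (mem_top g)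

/-- no involution of `S₁` or `S₁^t` is conjugate to `z z^t` -/
theorem pure₁ (ha : a ∈ S₁ ∨ a ∈ cj t S₁) (g : G) : g * a * g⁻¹ ≠ dg t z := fun e => by
  have a1 : a ≠ 1 := by rintro rfl; exact h.d1 (by simpa using e.symm)
  have aa : a * a = 1 := by
    have := h.sy.el _ h.dE.1
    rw [← e] at this
    simpa [mul_assoc] using congrArg (fun x => g⁻¹ * x * g) this
  rcases ha with ha | ha
  · obtain ⟨k, -, e1⟩ := h.c1 a ha aa a1
    exact h.pure (g * k⁻¹) (by rw [← e, ← e1]; group)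
  · obtain ⟨k, -, e1⟩ := h.c2 ha aa a1
    exact h.pure (g * k⁻¹ * t) (by
      calc _ = g * k⁻¹ * (t * z * t⁻¹) * (g * k⁻¹)⁻¹ := by group
        _ = _ := by rw [← e1, ← e]; group)

theorem star (hτ : τ ∈ T ⊓ nor (E₁ ⊔ F₁)) : Blk τ E₁ F₁ ∧ Blk τ (cj t E₁) (cj t F₁) :=
  (h.blk τ hτ.1).resolve_right fun e =>
    h.t_not_star (by simpa using Subgroup.mul_mem _ (Subgroup.inv_mem _ hτ.2) e.1.nor)

theorem star_or (hτ : τ ∈ T) : τ ∈ T ⊓ nor (E₁ ⊔ F₁) ∨ τ * t ∈ T ⊓ nor (E₁ ⊔ F₁) :=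
  (h.blk τ hτ).imp (fun e => ⟨hτ, e.1.nor⟩) fun e => ⟨mul_mem hτ h.tT, e.1.nor⟩

theorem star_J₂ : T ⊓ nor (E₁ ⊔ F₁) ≤ nor (cj t (E₁ ⊔ F₁)) := fun _ hτ =>
  cj_sup t E₁ F₁ ▸ (h.star hτ).2.nor

theorem T0_star : WW t S₁ ≤ T ⊓ nor (E₁ ⊔ F₁) := le_inf h.T0 h.T0_J₁

/-- an element of `T` that normalises one of the four groups lies in `T*` -/
theorem star_of (hτ : τ ∈ T) (hA : Fam t E₁ F₁ A) (hn : τ ∈ nor A) : τ ∈ T ⊓ nor (E₁ ⊔ F₁) := by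
  refine (h.star_or hτ).resolve_right fun e => ?_
  obtain ⟨b1, b2⟩ := h.star e
  have k : ∀ X : Subgroup G, cj (τ * t) (cj t X) = cj τ X := fun X => by
    rw [cj_cj, mul_assoc, h.tt, mul_one]
  have k' : ∀ X : Subgroup G, cj (τ * t) X = cj τ (cj t X) := fun X => (cj_cj _ _ _).symm
  have n1 := cj_le_of_le le_rfl b1.nor
  have n2 := cj_le_of_le le_rfl b2.nor
  rw [← cj_sup t, k] at n2
  rw [k'] at n1
  have e1 := cj_eq_self hn
  rcases hA with rfl | rfl | rfl | rfl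
  · exact h.not_le₁₂ h.sy₁.ES (e1.ge.trans (((cj_mono τ le_sup_left).trans n2).trans
      (cj_mono t h.sy₁.J_le))) h.sy₁.cE
  · exact h.not_le₁₂ h.sy₁.E'S (e1.ge.trans (((cj_mono τ le_sup_right).trans n2).trans
      (cj_mono t h.sy₁.J_le))) h.sy₁.cE'
  · exact h.not_le₁₂ (e1.ge.trans (((cj_mono τ (cj_mono t le_sup_left)).trans n1).trans
      h.sy₁.J_le)) h.sy₂.ES h.sy₂.cE
  · exact h.not_le₁₂ (e1.ge.trans (((cj_mono τ (cj_mono t le_sup_right)).trans n1).trans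
      h.sy₁.J_le)) h.sy₂.E'S h.sy₂.cE'

/-- squares of `T*` lie in `T₀` -/
theorem sq_mem (hτ : τ ∈ T ⊓ nor (E₁ ⊔ F₁)) : τ * τ ∈ WW t S₁ :=
  h.ker _ (mul_mem hτ.1 hτ.1) (h.star hτ).1.sq (h.star hτ).2.sq

theorem relIndex_star : (T ⊓ nor (E₁ ⊔ F₁)).relIndex T = 2 :=
  index_eq_two_iff.2 ⟨⟨t, h.tT⟩, fun b => by
    simp only [mem_subgroupOf, coe_mul]
    rcases h.star_or b.2 with e | e
    · exact Or.inr ⟨e, fun e' => h.t_not_star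
        (by simpa using Subgroup.mul_mem _ (Subgroup.inv_mem _ e.2) e'.2)⟩
    · exact Or.inl ⟨e, fun e' => h.t_not_star
        (by simpa using Subgroup.mul_mem _ (Subgroup.inv_mem _ e'.2) e.2)⟩⟩

theorem mul_star (ha : a ∈ T) (hb : b ∈ T) : a * b ∈ T ⊓ nor (E₁ ⊔ F₁) ↔
    (a ∈ T ⊓ nor (E₁ ⊔ F₁) ↔ b ∈ T ⊓ nor (E₁ ⊔ F₁)) :=
  mul_mem_iff_of_index_two (H := (T ⊓ nor (E₁ ⊔ F₁)).subgroupOf T) h.relIndex_star
    (a := ⟨a, ha⟩) (b := ⟨b, hb⟩)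

theorem T_nor_star : T ≤ nor (T ⊓ nor (E₁ ⊔ F₁)) := fun τ hτ => mem_normalizer_of_cj_le (by
  rintro _ ⟨x, hx, rfl⟩
  have := (normal_of_index_eq_two h.relIndex_star).conj_mem ⟨x, hx.1⟩ hx ⟨τ, hτ⟩
  exact this)

/-- `T` permutes the four groups -/
theorem fam (hτ : τ ∈ T) (hA : Fam t E₁ F₁ A) : Fam t E₁ F₁ (cj τ A) := by
  have k : ∀ σ, Blk σ E₁ F₁ ∧ Blk σ (cj t E₁) (cj t F₁) → ∀ A, Fam t E₁ F₁ A →
      Fam t E₁ F₁ (cj σ A) := by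
    rintro σ ⟨b1 | b1, b2 | b2⟩ A (rfl | rfl | rfl | rfl) <;> simp [Fam, b1, b2]
  rcases h.blk τ hτ with e | e
  · exact k τ e A hA
  · have := k _ e (cj t A) (by rcases hA with rfl | rfl | rfl | rfl <;> simp [Fam, cj_tt h.tt])
    rwa [cj_cj, mul_assoc, h.tt, mul_one] at this

theorem T_nor_T0 : T ≤ nor (WW t S₁) := fun τ hτ => mem_normalizer_of_cj_le (by
  rintro _ ⟨x, hx, rfl⟩
  have key : ∀ A, Fam t E₁ F₁ A → τ * x * τ⁻¹ ∈ nor A := fun A hA => by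
    have h1 : x ∈ nor (cj τ⁻¹ A) := by
      rcases h.fam (inv_mem hτ) hA with e | e | e | e <;> rw [e]
      exacts [(h.T0_nor hx).1.1, (h.T0_nor hx).1.2, (h.T0_nor hx).2.1, (h.T0_nor hx).2.2]
    rw [← cj_eq_self_iff, ← cj_cj, ← cj_cj, cj_eq_self h1, cj_cj_inv]
  exact h.ker _ (mul_mem (mul_mem hτ (h.T0 hx)) (inv_mem hτ)) (key _ (Or.inl rfl))
    (key _ (Or.inr (Or.inr (Or.inl rfl)))))

theorem T_J : T ≤ nor (WW t (E₁ ⊔ F₁)) := le_normalizer.trans (h.norJ h.T0 h.big)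

/-- `T ∩ G₀` is a Sylow `2`-subgroup of `G₀` -/
theorem sylU : IsSyl 2 (T ⊓ G0 G) (G0 G) :=
  h.sylT.inf_of_le_normalizer le_top fun g _ => nor_G0 g

theorem T0_U : WW t S₁ ≤ T ⊓ G0 G := le_inf h.T0 h.T0_G

end Cq

namespace Cp

variable (h : Cp t z ρ L S E E' E₁ F₁ Y₁ S₁ T P)
include h

theorem P_T : P ≤ T := h.PT.trans inf_le_left
theorem P_cen : P ≤ cen (cj t S₁) := h.PT.trans inf_le_right
theorem P_nor (hA : A ≤ cj t S₁) : P ≤ nor A :=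
  le_normalizer_of_le_centralizer (h.P_cen.trans (centralizer_anti hA))
theorem P_star : P ≤ T ⊓ nor (E₁ ⊔ F₁) := fun _ hp =>
  h.star_of (h.P_T hp) (Or.inr (Or.inr (Or.inl rfl))) (h.P_nor h.sy₂.ES hp)
theorem one_P (h1 : a ∈ P) (h2 : a ∈ cj t S₁) : a = 1 := mem_bot.1 (h.bot ▸ mem_inf.2 ⟨h1, h2⟩)

theorem inf0 (h1 : x ∈ P) (h2 : x ∈ WW t S₁) : x ∈ S₁ := by
  obtain ⟨a, ha, b, hb, rfl⟩ := h.w.mem_T.1 h2
  rwa [h.one_P (by simpa using mul_mem (inv_mem (h.SP ha)) h1) (conj_mem_cj hb), mul_one]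

/-- `P ∩ N(E₁) = S₁` -/
theorem mem_S₁ (h1 : x ∈ P) (h2 : x ∈ nor E₁) : x ∈ S₁ :=
  h.inf0 h1 (h.ker x (h.P_T h1) h2 (h.P_nor h.sy₂.ES h1))

/-- `|P : S₁| ≤ 2` -/
theorem idxP (ha : a ∈ P) (hb : b ∈ P) (h1 : a ∉ S₁) (h2 : b ∉ S₁) : a * b ∈ S₁ :=
  h.mem_S₁ (mul_mem ha hb) ((h.star (h.P_star ha)).1.mul (h.star (h.P_star hb)).1
    (fun e => h1 (h.mem_S₁ ha e)) fun e => h2 (h.mem_S₁ hb e))

/-- `N_T(E₁^t) = P × S₁^t` -/
theorem dec (h1 : τ ∈ T) (h2 : τ ∈ nor (cj t E₁)) : ∃ p ∈ P, ∃ s ∈ cj t S₁, τ = p * s :=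
  (mem_sup_left_norm (h.P_nor le_rfl)).1 (h.cov ⟨h1, h2⟩)

end Cp

theorem KA_le : KA A ≤ G0 G ⊓ cen A := fun _ h => h.1

theorem res_le_KA : H98.res 2 (G0 G ⊓ cen A) ≤ KA A := fun x hx => ⟨res_le _ hx, fun n hn => by
  have : n ∈ nor (H98.res 2 (G0 G ⊓ cen A)) := by
    rw [← cj_eq_self_iff, cj_res, cj_inf, cj_G0, cj_centralizer, cj_eq_self hn.2]
  exact mul_mem (conj_mem_of_mem_normalizer this hx) (inv_mem hx)⟩

theorem KA_cj (g : G) : cj g (KA A) = KA (cj g A) := by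
  have k : ∀ (g : G) (A : Subgroup G), cj g (KA A) ≤ KA (cj g A) := by
    rintro g A _ ⟨x, hx, rfl⟩
    have e : G0 G ⊓ cen (cj g A) = cj g (G0 G ⊓ cen A) := by rw [cj_inf, cj_G0, cj_centralizer]
    refine mem_KA.2 ⟨e ▸ conj_mem_cj hx.1, fun n hn => ?_⟩
    rw [e, ← cj_res]
    have := conj_mem_cj (g := g) (hx.2 (g⁻¹ * n * g)
      (mem_cj.1 (by rwa [cj_inf, cj_G0, cj_normalizer])))
    convert this using 1
    simp only [commutatorElement_def, MulEquiv.coe_toMonoidHom, MulAut.conj_apply]; group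
  exact le_antisymm (k g A) (by simpa [cj_le_iff] using cj_mono g (k g⁻¹ (cj g A)))

theorem nor_KA : nor A ≤ nor (KA A) := fun _ hg =>
  cj_eq_self_iff.1 (by rw [KA_cj, cj_eq_self hg])

theorem cen_nor_KA : G0 G ⊓ cen A ≤ nor (KA A) :=
  inf_le_right.trans ((le_normalizer_of_le_centralizer le_rfl).trans nor_KA)

end H42.ML
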