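import Cfsg.Agent.H42.MLA7
import Cfsg.Agent.H53.WrU

/-! Tower MCLY (`blueprints/MCLY.md`), part 1: the local theorem. -/

set_option autoImplicit false
set_option linter.unusedSectionVars false

namespace H42.ML

open Subgroup Cfsg H98 H1.Gold H99.Wr
open H53.Wr (UU th)
open scoped commutatorElement

universe u

section Defs

variable {G : Type u} [Group G] [Finite G]

/-- `A × A^t` -/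
abbrev WW (t : G) (A : Subgroup G) : Subgroup G := A ⊔ cj t A

/-- `O²(C(A × A^t))` -/
abbrev OW (t : G) (A : Subgroup G) : Subgroup G := H98.res 2 (cen (WW t A))

/-- `O²(G)` -/
abbrev G0 (G : Type u) [Group G] : Subgroup G := H98.res 2 ⊤

/-- An `S`-invariant Sylow `2`-subgroup of the group of translations of `t E`. -/
structure Q1 (t : G) (S E Q : Subgroup G) : Prop where
  tt : t * t = 1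
  aq : AQ t E Q
  syl : IsSyl 2 Q (UU t tt E)
  SN : S ≤ nor Q

/-- `W = E₁ × E₁^t` -/
structure S1 (t : G) (L S E E₁ : Subgroup G) : Prop where
  tt : t * t = 1
  dbl : Dbl t E₁ E
  SN : S ≤ nor E₁
  norN : L ⊓ nor (WW t E₁) ≤ nor E₁
  cov : L ⊓ nor E ≤ L ⊓ nor (WW t E₁) ⊔ cen E
  sylU : IsSyl 2 (WW t E₁ ⊔ zpowers t) (UU t tt E)
  cenW : IsSyl 2 (WW t E₁) (cen (WW t E₁))

structure S2 (t : G) (L S E E₁ : Subgroup G) : Prop extends S1 t L S E E₁ where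
  a7 : A7 (L ⊓ nor (WW t E₁)) E
  a7' : A7 (L ⊓ nor (WW t E₁)) E₁
  oddW : ∀ o ∈ cen1 t ⊓ nor (WW t E₁) ⊓ cen E, Odd (orderOf o) → o ∈ OW t E₁
  norF : ∀ c ∈ cen1 t ⊓ nor (WW t E₁), ∃ n ∈ L ⊓ nor (WW t E₁), ∃ o ∈ cen1 t ⊓ OW t E₁,
    c = n * o ∨ c = n * t * o
  lift : ∀ g ∈ nor (WW t E₁), g * t * g⁻¹ * t ∈ cen (WW t E₁) →
    ∃ c ∈ cen (WW t E₁), c * g ∈ cen1 t
  tnW : ∀ g : G, g * t * g⁻¹ ∉ WW t E₁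
  ctl : ∀ g : G, cj g (WW t E₁) ≤ UU t tt E → ∃ o ∈ cen1 t ⊓ cen E, o * g ∈ nor (WW t E₁)

/-- The first factor of the wreath product modulo `O_W`. -/
structure Y4 (t : G) (L E₁ Y : Subgroup G) : Prop where
  OY : OW t E₁ ≤ Y
  le : Y ≤ nor E₁ ⊓ cen (cj t E₁)
  EY : E₁ ≤ Y
  norY : nor E₁ ⊓ nor (cj t E₁) ≤ nor Y
  comm : ⁅Y, cj t Y⁆ ≤ OW t E₁
  inter : Y ⊓ cen E₁ ≤ E₁ ⊔ OW t E₁
  dbl : ∀ n ∈ L ⊓ nor (WW t E₁), ∃ y ∈ Y, n⁻¹ * dg t y ∈ OW t E₁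
  a7 : A7 Y E₁

structure S4 (t : G) (S E₁ Y₁ S₁ : Subgroup G) : Prop where
  w : Wp t S₁ S
  ES : E₁ ≤ S₁
  syl : IsSyl 2 S₁ Y₁
  cenS : Y₁ ≤ cen (cj t S₁)
  a7 : A7 Y₁ E₁
  resY : Y₁ ≤ H98.res 2 Y₁
  pur : ∀ c ∈ nor E₁ ⊓ nor (cj t E₁), ∀ a ∈ S₁, c * a * c⁻¹ ∈ WW t S₁ → c * a * c⁻¹ ∈ S₁
  mv : ∀ c ∈ cen1 t ⊓ nor E₁, ∀ A ≤ S₁, c ∈ nor A → ∃ y ∈ Y₁, ∀ a ∈ A, y * a * y⁻¹ = c * a * c⁻¹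

/-- The action of `N_L(E) ∩ N(E')` is induced in `N(E₁) ∩ N(F₁)`. -/
def BB (t : G) (L E E' E₁ F₁ : Subgroup G) : Prop :=
  ∀ b ∈ L ⊓ nor E ⊓ nor E', ∃ c ∈ cen1 t ⊓ nor E₁ ⊓ nor F₁, b⁻¹ * c ∈ cen (E ⊔ E')

/-- The wreathed configuration. -/
structure Cy (t : G) (L S E E' E₁ F₁ Y₁ S₁ : Subgroup G) : Prop extends Loc t L S E E' where
  w : Wp t S₁ S
  sy₁ : Sy S₁ E₁ F₁
  wE : Wp t E₁ E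
  wF : Wp t F₁ E'
  two₁ : ∀ A ≤ S₁, El A → 16 ≤ Nat.card A → A = E₁ ∨ A = F₁
  sylY : IsSyl 2 S₁ Y₁
  cenS : Y₁ ≤ cen (cj t S₁)
  a7Y : A7 Y₁ E₁
  resY : Y₁ ≤ H98.res 2 Y₁
  a7X : A7 (L ⊓ nor F₁) F₁
  rho₁ : ∃ ρ ∈ Y₁ ⊓ nor F₁, Odd (orderOf ρ) ∧ ∀ j ∈ E₁ ⊔ F₁, ρ * j = j * ρ → j = 1
  cenW : IsSyl 2 (WW t E₁) (cen (WW t E₁))

/-- The classes of involutions of `T₀ = S₁ × S₁^t`. -/
structure Cz (t z : G) (L S E E' E₁ F₁ Y₁ S₁ : Subgroup G) : Prop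
    extends Cy t L S E E' E₁ F₁ Y₁ S₁ where
  zZ : z ∈ E₁ ⊓ F₁
  z1 : z ≠ 1
  zS : S₁ ≤ cen1 z
  zu : ∀ a ∈ S₁ ⊓ cen S₁, a = 1 ∨ a = z
  c1 : ∀ a ∈ S₁, a * a = 1 → a ≠ 1 → ∃ g ∈ G0 G, g * a * g⁻¹ = z
  c12 : ∀ a ∈ S₁, ∀ b ∈ S₁, a * a = 1 → b * b = 1 → a ≠ 1 → b ≠ 1 →
    ∃ g ∈ G0 G, g * (a * (t * b * t⁻¹)) * g⁻¹ = dg t z
  tnT : ∀ g : G, g * t * g⁻¹ ∉ WW t S₁
  sylW : IsSyl 2 (WW t S₁ ⊔ zpowers t) (nor (WW t E₁))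

/-- The elementary subgroups of order `2⁸` of `T` lie in `T₀`. -/
def BigE (t : G) (S₁ T : Subgroup G) : Prop :=
  ∀ A ≤ T, El A → 256 ≤ Nat.card A → A ≤ WW t S₁

/-- Control of fusion by `J = J₁ × J₁^t`, `J₁ = E₁ F₁`. -/
structure Cw (t z : G) (L S E E' E₁ F₁ Y₁ S₁ : Subgroup G) : Prop
    extends Cz t z L S E E' E₁ F₁ Y₁ S₁ where
  zJ : ∀ n ∈ nor (WW t (E₁ ⊔ F₁)), Blk n (E₁ ⊓ F₁) (cj t (E₁ ⊓ F₁))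
  fusJ : ∀ M T : Subgroup G, IsSyl 2 T M → WW t S₁ ≤ T → BigE t S₁ T →
    ∀ a ∈ WW t (E₁ ⊓ F₁), ∀ g ∈ M, g * a * g⁻¹ ∈ WW t (E₁ ⊓ F₁) →
      ∃ n ∈ M ⊓ nor (WW t (E₁ ⊔ F₁)), n * a * n⁻¹ = g * a * g⁻¹
  blkW : ∀ n ∈ nor (WW t E₁), Blk n E₁ (cj t E₁)

/-- The Sylow `2`-subgroup `T`; `T* = T ⊓ nor (E₁ ⊔ F₁)`. -/
structure Cq (t z : G) (L S E E' E₁ F₁ Y₁ S₁ T : Subgroup G) : Prop
    extends Cw t z L S E E' E₁ F₁ Y₁ S₁ where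
  sylT : IsSyl 2 T ⊤
  T1 : WW t S₁ ⊔ zpowers t ≤ T
  blk : ∀ τ ∈ T, (Blk τ E₁ F₁ ∧ Blk τ (cj t E₁) (cj t F₁)) ∨
    (Blk (τ * t) E₁ F₁ ∧ Blk (τ * t) (cj t E₁) (cj t F₁))
  ker : ∀ τ ∈ T, τ ∈ nor E₁ → τ ∈ nor (cj t E₁) → τ ∈ WW t S₁
  big : BigE t S₁ T
  sig : T = WW t S₁ ⊔ zpowers t ∨ ∃ σ ∈ T, σ * t = t * σ ∧ σ * σ = 1 ∧ cj σ E₁ = F₁

structure Cv (t z : G) (L S E E' E₁ F₁ Y₁ S₁ T : Subgroup G) : Prop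
    extends Cq t z L S E E' E₁ F₁ Y₁ S₁ T where
  norS : T ⊓ nor (E₁ ⊔ F₁) ≤ nor S₁ ⊓ nor (cj t S₁)
  tn : ∀ g : G, g * t * g⁻¹ ∉ T ⊓ nor (E₁ ⊔ F₁)
  sylZ : IsSyl 2 (T ⊓ nor (E₁ ⊔ F₁)) (cen1 z)
  out : ∀ v : G, v * t = t * v → v * v = 1 → v ≠ 1 → ∀ g : G, g * v * g⁻¹ ∈ WW t S₁ →
    (∃ g : G, g * v * g⁻¹ = dg t z) ∧ (v ∈ L ∨ t * v ∈ L)

/-- The complement `P` of `S₁^t` in `N_T(E₁^t)`. -/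
structure Cp (t z ρ : G) (L S E E' E₁ F₁ Y₁ S₁ T P : Subgroup G) : Prop
    extends Cv t z L S E E' E₁ F₁ Y₁ S₁ T where
  SP : S₁ ≤ P
  PT : P ≤ T ⊓ cen (cj t S₁)
  cov : T ⊓ nor (cj t E₁) ≤ P ⊔ cj t S₁
  bot : P ⊓ cj t S₁ = ⊥
  norP : T ⊓ nor (E₁ ⊔ F₁) ≤ nor P
  ρo : Odd (orderOf ρ)
  ρn : ρ ∈ nor P ⊓ nor S₁ ⊓ (nor (cj t E₁) ⊓ nor (cj t F₁))
  ρf : ∀ j ∈ cj t (E₁ ⊔ F₁), ρ * j = j * ρ → j = 1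

/-- Fusion in `G₀ = O²(G)`. -/
structure Cu (t z ρ : G) (L S E E' E₁ F₁ Y₁ S₁ T P : Subgroup G) : Prop
    extends Cp t z ρ L S E E' E₁ F₁ Y₁ S₁ T P where
  ug : T ⊓ G0 G ≤ nor (E₁ ⊔ F₁)
  pur : ∀ v ∈ cj t S₁, v * v = 1 → ∀ g ∈ G0 G, g * v * g⁻¹ ∈ WW t S₁ → g * v * g⁻¹ ∈ cj t S₁
  wc : ∀ A, A = cj t E₁ ∨ A = cj t F₁ → ∀ k ∈ G0 G, cj k A ≤ T →
    cj k A = cj t E₁ ∨ cj k A = cj t F₁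

/-- The elements of `C = C_{G₀}(A)` centralised by `N_{G₀}(A)` modulo `O²(C)`. -/
def KA (A : Subgroup G) : Subgroup G where
  carrier := {x | x ∈ G0 G ⊓ cen A ∧ ∀ n ∈ G0 G ⊓ nor A, ⁅n, x⁆ ∈ H98.res 2 (G0 G ⊓ cen A)}
  one_mem' := ⟨one_mem _, fun n _ => by simp⟩
  mul_mem' := fun {x y} hx hy => ⟨mul_mem hx.1 hy.1, fun n hn => by
    have := mul_mem (hx.2 n hn)
      (conj_mem_of_mem_normalizer (self_le_normalizer_res _ hx.1) (hy.2 n hn))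
    convert this using 1
    simp only [commutatorElement_def]; group⟩
  inv_mem' := fun {x} hx => ⟨inv_mem hx.1, fun n hn => by
    have := conj_mem_of_mem_normalizer' (self_le_normalizer_res _ hx.1) (inv_mem (hx.2 n hn))
    convert this using 1
    simp only [commutatorElement_def]; group⟩

theorem mem_KA {A : Subgroup G} {x : G} : x ∈ KA A ↔ x ∈ G0 G ⊓ cen A ∧
    ∀ n ∈ G0 G ⊓ nor A, ⁅n, x⁆ ∈ H98.res 2 (G0 G ⊓ cen A) := Iff.rfl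

structure Ck (t z ρ : G) (L S E E' E₁ F₁ Y₁ S₁ T P : Subgroup G) : Prop
    extends Cu t z ρ L S E E' E₁ F₁ Y₁ S₁ T P where
  kaT : ∀ A, A = cj t E₁ ∨ A = cj t F₁ → KA A ⊓ T = P ⊓ G0 G
  kaS : ∀ A, A = cj t E₁ ∨ A = cj t F₁ → IsSyl 2 (P ⊓ G0 G) (KA A)

end Defs

def JobJ1a : Prop := All.{u} fun G _ _ => ∀ (t : G) (L S E E' : Subgroup G), Loc t L S E E' →
  ∃ Q, Q1 t S E Q

def JobJ1b : Prop := All.{u} fun G _ _ => ∀ (t : G) (L S E E' Q : Subgroup G), Loc t L S E E' →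
  Q1 t S E Q → ∃ E₁, S1 t L S E E₁ ∧ WW t E₁ ⊔ zpowers t = Q

def JobJ2 : Prop := All.{u} fun G _ _ => ∀ (t : G) (L S E E' E₁ : Subgroup G), Loc t L S E E' →
  S1 t L S E E₁ → S2 t L S E E₁

def JobJ3a : Prop := All.{u} fun G _ _ => ∀ (t : G) (L S E E' E₁ : Subgroup G), Loc t L S E E' →
  S2 t L S E E₁ → ∀ f ∈ E', f ∉ E → ∃ g ∈ nor (WW t E₁), g * t * g⁻¹ = t * f

def JobJ3b : Prop := All.{u} fun G _ _ => ∀ (t : G) (L S E E' E₁ : Subgroup G), Loc t L S E E' →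
  S2 t L S E E₁ → ∀ f ∈ E', f ∉ E → (∃ g ∈ nor (WW t E₁), g * t * g⁻¹ = t * f) →
  ∃ u ∈ nor E₁, u ∈ cen (cj t E₁) ∧ u ∉ cen E₁

def JobJ4a : Prop := All.{u} fun G _ _ => ∀ (t : G) (L S E E' E₁ : Subgroup G), Loc t L S E E' →
  S2 t L S E E₁ → (∃ u ∈ nor E₁, u ∈ cen (cj t E₁) ∧ u ∉ cen E₁) → ∃ Y, Y4 t L E₁ Y

def JobJ4b : Prop := All.{u} fun G _ _ => ∀ (t : G) (L S E E' E₁ Y : Subgroup G),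
  Loc t L S E E' → S2 t L S E E₁ → Y4 t L E₁ Y → ∃ Y₁ S₁, S4 t S E₁ Y₁ S₁

def JobAB0 : Prop := All.{u} fun G _ _ => ∀ (t : G) (L S E E' S₁ : Subgroup G),
  Loc t L S E E' → Wp t S₁ S → IsPGroup 2 S₁ → Q1 t S E' (WW t (half t S₁ E') ⊔ zpowers t)

def JobAB1 : Prop := All.{u} fun G _ _ => ∀ (t : G) (L S E E' E₁ Y₁ S₁ D : Subgroup G),
  Loc t L S E E' → S2 t L S E E₁ → S4 t S E₁ Y₁ S₁ → S2 t L S E' D →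
  WW t D ⊔ zpowers t = WW t (half t S₁ E') ⊔ zpowers t →
  WW t D = WW t (half t S₁ E') ∧ BB t L E E' E₁ (half t S₁ E')

def JobAB2 : Prop := All.{u} fun G _ _ => ∀ (t : G) (L S E E' E₁ F₁ D : Subgroup G),
  Loc t L S E E' → En L E E' → S2 t L S E' D → Wp t F₁ E' → S ≤ nor F₁ → WW t D = WW t F₁ →
  BB t L E E' E₁ F₁ → F₁ = D ∨ F₁ = cj t D

def JobCY : Prop := All.{u} fun G _ _ => ∀ (t : G) (L S E E' E₁ Y₁ S₁ D : Subgroup G),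
  Loc t L S E E' → S2 t L S E E₁ → S4 t S E₁ Y₁ S₁ → S2 t L S E' D →
  (half t S₁ E' = D ∨ half t S₁ E' = cj t D) → BB t L E E' E₁ (half t S₁ E') →
  Cy t L S E E' E₁ (half t S₁ E') Y₁ S₁

def JobCZ : Prop := All.{u} fun G _ _ => ∀ (t : G) (L S E E' E₁ F₁ Y₁ S₁ : Subgroup G),
  Cy t L S E E' E₁ F₁ Y₁ S₁ → ∃ z, Cz t z L S E E' E₁ F₁ Y₁ S₁

def JobCW : Prop := All.{u} fun G _ _ => ∀ (t z : G) (L S E E' E₁ F₁ Y₁ S₁ : Subgroup G),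
  Cz t z L S E E' E₁ F₁ Y₁ S₁ → Cw t z L S E E' E₁ F₁ Y₁ S₁

def JobOA1 : Prop := All.{u} fun G _ _ => ∀ (t z : G) (L S E E' E₁ F₁ Y₁ S₁ : Subgroup G),
  Cw t z L S E E' E₁ F₁ Y₁ S₁ → ∀ n ∈ nor (WW t (E₁ ⊔ F₁)), Fam t E₁ F₁ (cj n E₁)

def JobOA2 : Prop := All.{u} fun G _ _ => ∀ (t z : G) (L S E E' E₁ F₁ Y₁ S₁ : Subgroup G),
  Cw t z L S E E' E₁ F₁ Y₁ S₁ → (∀ n ∈ nor (WW t (E₁ ⊔ F₁)), Fam t E₁ F₁ (cj n E₁)) →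
  ∃ T, Cq t z L S E E' E₁ F₁ Y₁ S₁ T

def JobOB : Prop := All.{u} fun G _ _ => ∀ (t z : G) (L S E E' E₁ F₁ Y₁ S₁ T : Subgroup G),
  Cq t z L S E E' E₁ F₁ Y₁ S₁ T → Cv t z L S E E' E₁ F₁ Y₁ S₁ T

def JobPQ1 : Prop := All.{u} fun G _ _ => ∀ (t z : G) (L S E E' E₁ F₁ Y₁ S₁ T : Subgroup G),
  Cv t z L S E E' E₁ F₁ Y₁ S₁ T → T ⊓ nor (cj t E₁) ≤ T ⊓ cen (cj t (E₁ ⊔ F₁)) ⊔ cj t S₁

def JobPQ2 : Prop := All.{u} fun G _ _ => ∀ (t z : G) (L S E E' E₁ F₁ Y₁ S₁ T : Subgroup G),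
  Cv t z L S E E' E₁ F₁ Y₁ S₁ T → T ⊓ nor (cj t E₁) ≤ T ⊓ cen (cj t (E₁ ⊔ F₁)) ⊔ cj t S₁ →
  ∃ P ρ, Cp t z ρ L S E E' E₁ F₁ Y₁ S₁ T P

def JobUG : Prop := All.{u} fun G _ _ => ∀ (t z ρ : G) (L S E E' E₁ F₁ Y₁ S₁ T P : Subgroup G),
  Cp t z ρ L S E E' E₁ F₁ Y₁ S₁ T P → T ⊓ G0 G ≤ nor (E₁ ⊔ F₁)

def JobWK : Prop := All.{u} fun G _ _ => ∀ (t z ρ : G) (L S E E' E₁ F₁ Y₁ S₁ T P : Subgroup G),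
  Cp t z ρ L S E E' E₁ F₁ Y₁ S₁ T P → T ⊓ G0 G ≤ nor (E₁ ⊔ F₁) →
  Cu t z ρ L S E E' E₁ F₁ Y₁ S₁ T P

/-- A cocycle that vanishes on a subgroup of odd index and on a fixed point free element. -/
def JobCoc : Prop := All.{u} fun G _ _ => ∀ (N R D A : Subgroup G) (c ρ : G), El A →
  A ⊓ D = ⊥ → A ≤ nor D → N ≤ nor A → N ≤ nor D → R ≤ N → Odd (R.relIndex N) →
  (∀ n ∈ N, ⁅n, c⁆ ∈ A ⊔ D) → (∀ r ∈ R, ⁅r, c⁆ ∈ D) → ρ ∈ N → ⁅ρ, c⁆ ∈ D →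
  (∀ a ∈ A, ρ * a = a * ρ → a = 1) → ∀ n ∈ N, ⁅n, c⁆ ∈ D

def JobKA : Prop := JobCoc.{u} → All.{u} fun G _ _ => ∀ (t z ρ : G)
  (L S E E' E₁ F₁ Y₁ S₁ T P : Subgroup G), Cu t z ρ L S E E' E₁ F₁ Y₁ S₁ T P →
  Ck t z ρ L S E E' E₁ F₁ Y₁ S₁ T P

def JobSC : Prop := All.{u} fun G _ _ => ∀ (t z ρ : G) (L S E E' E₁ F₁ Y₁ S₁ T P : Subgroup G),
  Ck t z ρ L S E E' E₁ F₁ Y₁ S₁ T P →
  ∀ x ∈ P ⊓ G0 G, ∀ g ∈ G0 G, g * x * g⁻¹ ∈ T → g * x * g⁻¹ ∈ P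

def JobFIN : Prop := All.{u} fun G _ _ => AS G → oddCore G = ⊥ → ∀ (t z ρ : G)
  (L S E E' E₁ F₁ Y₁ S₁ T P : Subgroup G), Ck t z ρ L S E E' E₁ F₁ Y₁ S₁ T P →
  (∀ x ∈ P ⊓ G0 G, ∀ g ∈ G0 G, g * x * g⁻¹ ∈ T → g * x * g⁻¹ ∈ P) → False

theorem Bs.symm {G : Type u} [Group G] [Finite G] {L S E E' : Subgroup G} (h : Bs L S E E') :
    Bs L S E' E :=
  ⟨h.sy.symm, h.SL, fun A h1 h2 h3 => (h.two A h1 h2 h3).symm, h.one, h.idx', h.idx, h.syl', h.syl,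
    h.rho.imp fun _ k => ⟨inf_right_comm L (nor E) (nor E') ▸ k.1, k.2.1, sup_comm E E' ▸ k.2.2⟩⟩

theorem Loc.symm {G : Type u} [Group G] [Finite G] {t : G} {L S E E' : Subgroup G}
    (h : Loc t L S E E') : Loc t L S E' E :=
  ⟨h.toBs.symm, h.ord, h.Lt, h.norL, h.resL, h.nconj, h.fus, h.ns, h.act', h.act, h.sylF', h.sylF,
    h.sqL, fun v hv h1 h2 => h.oi v hv h2 h1⟩

theorem locThm_of (j1a : JobJ1a.{u}) (j1b : JobJ1b.{u}) (j2 : JobJ2.{u}) (j3a : JobJ3a.{u})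
    (j3b : JobJ3b.{u}) (j4a : JobJ4a.{u}) (j4b : JobJ4b.{u}) (ab0 : JobAB0.{u}) (ab1 : JobAB1.{u})
    (ab2 : JobAB2.{u}) (cy : JobCY.{u}) (cz : JobCZ.{u}) (cw : JobCW.{u}) (oa1 : JobOA1.{u})
    (oa2 : JobOA2.{u}) (ob : JobOB.{u}) (pq1 : JobPQ1.{u}) (pq2 : JobPQ2.{u}) (ug : JobUG.{u})
    (wk : JobWK.{u}) (coc : JobCoc.{u}) (ka : JobKA.{u}) (sc : JobSC.{u}) (fin : JobFIN.{u}) :
    LocThm.{u} := by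
  intro G _ _ hA hO t L S E E' h en
  obtain ⟨Q, q⟩ := j1a G t L S E E' h
  obtain ⟨E₁, s1, -⟩ := j1b G t L S E E' Q h q
  have s2 := j2 G t L S E E' E₁ h s1
  obtain ⟨f, hf, hf'⟩ := h.sy.symm.exists_not
  obtain ⟨Y, y⟩ := j4a G t L S E E' E₁ h s2
    (j3b G t L S E E' E₁ h s2 f hf hf' (j3a G t L S E E' E₁ h s2 f hf hf'))
  obtain ⟨Y₁, S₁, s4⟩ := j4b G t L S E E' E₁ Y h s2 y
  obtain ⟨D, d1, e⟩ := j1b G t L S E' E _ h.symm (ab0 G t L S E E' S₁ h s4.w s4.syl.isPGroup)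
  have d2 := j2 G t L S E' E D h.symm d1
  obtain ⟨e', bb⟩ := ab1 G t L S E E' E₁ Y₁ S₁ D h s2 s4 d2 e
  have hS : S ≤ nor (half t S₁ E') := s4.w.B_le.trans (sup_le (s4.w.nor_half h.sy.E'S h.sy.SN')
    (le_normalizer_of_le_centralizer (s4.w.le_cen₂.trans (centralizer_anti inf_le_left))))
  obtain ⟨z, c⟩ := cz G t L S E E' E₁ _ Y₁ S₁ (cy G t L S E E' E₁ Y₁ S₁ D h s2 s4 d2
    (ab2 G t L S E E' E₁ _ D h en d2 (s4.w.half_wp h.sy.E'S) hS e' bb) bb)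
  have c := cw G _ _ _ _ _ _ _ _ _ _ c
  obtain ⟨T, c⟩ := oa2 G _ _ _ _ _ _ _ _ _ _ c (oa1 G _ _ _ _ _ _ _ _ _ _ c)
  have c := ob G _ _ _ _ _ _ _ _ _ _ _ c
  obtain ⟨P, ρ, c⟩ := pq2 G _ _ _ _ _ _ _ _ _ _ _ c (pq1 G _ _ _ _ _ _ _ _ _ _ _ c)
  have c := ka coc G _ _ _ _ _ _ _ _ _ _ _ _ _
    (wk G _ _ _ _ _ _ _ _ _ _ _ _ _ c (ug G _ _ _ _ _ _ _ _ _ _ _ _ _ c))
  exact fin G hA hO _ _ _ _ _ _ _ _ _ _ _ _ _ c (sc G _ _ _ _ _ _ _ _ _ _ _ _ _ c)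

end H42.ML
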