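import Cfsg.Agent.H42.MLC

/-! Tower MCLY (`blueprints/MCLY.md`): PQ1, PQ2. -/


set_option autoImplicit false
set_option linter.unusedSectionVars false

namespace H42.ML

open Subgroup Cfsg H98 H1.Gold H99.Wr
open H53.Wr (UU th)
open scoped commutatorElement

universe u

variable {G : Type u} [Group G] [Finite G] {t z ρ a b c e f g k l n o v w x y τ σ : G}
  {L S E E' E₁ F₁ Y Y₁ S₁ T P Q A B D K M N W : Subgroup G}

theorem Cy.blkJ (h : Cy t L S E E' E₁ F₁ Y₁ S₁) (hx : x ∈ nor (E₁ ⊔ F₁)) : Blk x E₁ F₁ :=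
  have k : ∀ K, K = E₁ ∨ K = F₁ → cj x K = E₁ ∨ cj x K = F₁ := fun K hK =>
    h.two₁ _ ((cj_le_of_le (h.fam_le hK).1 hx).trans h.sy₁.J_le) ((h.fam_le hK).2.2.1.cj x)
      (by rw [card_cj, (h.fam_le hK).2.2.2])
  blk_of (k _ (Or.inl rfl)) (k _ (Or.inr rfl)) h.sy₁.ne

theorem Cw.M_le (h : Cw t z L S E E' E₁ F₁ Y₁ S₁) :
    nor (cj t E₁) ⊓ nor (E₁ ⊔ F₁) ≤ cj t Y₁ ⊔ cen (cj t E₁) := by
  have s1 := h.sy₁
  have s2 := h.sy₂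
  have hT : WW t S₁ ≤ nor (cj t E₁) ⊓ nor (E₁ ⊔ F₁) :=
    le_inf (fun _ hx => (h.T0_nor hx).2.1) h.T0_J₁
  refine (h.a7Y₂.max (le_inf h.a7Y₂.nor (le_normalizer_of_le_centralizer
    (h.cenS₂.trans (centralizer_anti s1.J_le)))) inf_le_left).resolve_right fun hd => ?_
  obtain ⟨R, hR, -⟩ := exists_isSyl_le (h.w.two s1.two) hT
  have RM := hR.le
  have n1 : Nat.card ↥(R ⊓ nor E₁) ≤ 2 ^ 14 := by
    have RE : R ⊓ nor E₁ ≤ nor (cj t E₁) := fun x hx => (RM hx.1).1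
    obtain ⟨n, hn, h1⟩ := h.sylW.exists_cj_le (hR.isPGroup.to_le (inf_le_left : R ⊓ nor E₁ ≤ R))
      (le_normalizer_sup inf_le_right RE)
    rw [← card_cj n, ← h.card_T0]
    refine card_le_of_le fun x hx => (h.mem_T1 (h1 hx)).resolve_right fun e => h.t_not_E ?_
    have h2 : x ∈ nor (cj n E₁) := (cj_normalizer n E₁).le (cj_mono n inf_le_right hx)
    have h3 : x ∈ nor (cj n (cj t E₁)) :=
      (cj_normalizer n _).le (cj_mono n RE hx)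
    have h4 : x ∈ nor E₁ := by
      rcases h.blkW n hn with e | e
      exacts [e.1 ▸ h2, e.2 ▸ h3]
    simpa using mul_mem (inv_mem h4) (h.T0_nor e).1.1
  have n2 := card_eq_relIndex_mul R (nor E₁)
  have n3 : (nor E₁).relIndex R ≤ 2 := H99.Wr.relIndex_le_two fun x hx y hy =>
    (h.blkJ (RM hx).2).mul (h.blkJ (RM hy).2)
  have n4 := card_eq_relIndex_mul (nor (cj t E₁) ⊓ nor (E₁ ⊔ F₁)) (cen (cj t E₁))
  have n5 : Nat.card ↥(S₁ ⊔ cj t E₁) ∣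
      Nat.card ↥(nor (cj t E₁) ⊓ nor (E₁ ⊔ F₁) ⊓ cen (cj t E₁)) :=
    card_dvd_of_le (le_inf ((sup_le_sup_left s2.ES _).trans hT)
      (sup_le (h.w.le_cen₁.trans (centralizer_anti s2.ES)) s2.el.le_cen))
  rw [h.w.card_pair le_rfl s1.ES, s1.cS, s1.cE] at n5
  have n6 : 2 ^ 17 ∣ Nat.card ↥(nor (cj t E₁) ⊓ nor (E₁ ⊔ F₁)) := by
    rw [n4, show 2 ^ 17 = 64 * (128 * 16) by norm_num]; exact mul_dvd_mul hd n5
  have n7 := Nat.pow_le_pow_right (n := 2) (by norm_num)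
    ((Nat.prime_two.pow_dvd_iff_le_factorization Nat.card_pos.ne').1 n6)
  rw [← hR.card_eq] at n7
  nlinarith

theorem Cq.dec₂ (h : Cq t z L S E E' E₁ F₁ Y₁ S₁ T) (h1 : τ ∈ T) (h2 : τ ∈ nor (cj t E₁)) :
    ∃ s ∈ cj t S₁, ∃ p ∈ T ⊓ cen (cj t E₁), τ = s * p := by
  have s2 := h.sy₂
  have S2T : cj t S₁ ≤ T ⊓ nor (cj t E₁) := le_inf (le_sup_right.trans h.T0) s2.SN
  have n1 := h.a7Y₂.two_le (h.two_T.to_le (inf_le_left : T ⊓ nor (cj t E₁) ≤ T))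
    fun x hx => h.M_le ⟨hx.2, (h.star_of hx.1 (Or.inr (Or.inr (Or.inl rfl))) hx.2).2⟩
  have n2 := card_eq_relIndex_mul (T ⊓ nor (cj t E₁)) (cen (cj t E₁))
  rw [inf_assoc, inf_eq_right.2 (le_normalizer_of_le_centralizer (le_refl (cen (cj t E₁))))] at n2
  have nn : cj t S₁ ≤ nor (T ⊓ cen (cj t E₁)) := le_normalizer_inf
    ((S2T.trans inf_le_left).trans le_normalizer) (le_normalizer_centralizer s2.SN)
  have n3 := H99.card_sup_mul_card_inf_of_le_normalizer nn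
  rw [show cj t S₁ ⊓ (T ⊓ cen (cj t E₁)) = cj t E₁ from le_antisymm
    (fun x hx => s2.cen_S hx.1 hx.2.2)
    (le_inf s2.ES (le_inf (s2.ES.trans (S2T.trans inf_le_left)) s2.el.le_cen)), s2.cE, s2.cS] at n3
  have e := eq_of_le_of_card_ge (sup_le S2T (inf_le_inf_left T
    (le_normalizer_of_le_centralizer (le_refl (cen (cj t E₁)))))) (by nlinarith)
  exact (mem_sup_left_norm nn).1 (e.ge ⟨h1, h2⟩)

theorem jobPQ1 : JobPQ1.{u} := by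
  intro G _ _ t z L S E E' E₁ F₁ Y₁ S₁ T h τ hτ
  obtain ⟨h1, h2⟩ := mem_inf.1 hτ
  have s2 := h.sy₂
  have c1 : S₁ ≤ T ⊓ cen (cj t (E₁ ⊔ F₁)) := le_inf (le_sup_left.trans h.T0)
    (h.w.le_cen₁.trans (centralizer_anti (cj_mono t h.sy₁.J_le)))
  rcases h.sig with e | ⟨σ, σT, σt, σσ, σE⟩
  · refine sup_le_sup_right c1 _ ((h.mem_T1 (e ▸ h1)).resolve_right fun e1 => h.t_not_E ?_)
    have : t ∈ nor (cj t E₁) := by simpa using mul_mem (inv_mem h2) (h.T0_nor e1).2.1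
    have := (cj_normalizer t _).le (conj_mem_cj (g := t) this)
    rwa [cj_tt h.tt, mul_inv_cancel_right] at this
  have σE2 : cj σ (cj t E₁) = cj t F₁ := by rw [cj_cj, σt, ← cj_cj, σE]
  have σs : σ ∈ T ⊓ nor (E₁ ⊔ F₁) :=
    ⟨σT, Blk.nor (Or.inr ⟨σE, by rw [← σE, cj_tt σσ]⟩)⟩
  obtain ⟨s, hs, p, hp, rfl⟩ := h.dec₂ h1 h2
  rw [mem_inf] at hp
  have p1 : p ∈ nor (cj σ (cj t E₁)) := σE2 ▸ (h.star (h.star_of hp.1
    (Or.inr (Or.inr (Or.inl rfl))) (cen_nor hp.2))).2.fix (cen_nor hp.2)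
  obtain ⟨s', hs', q, hq, e⟩ := h.dec₂ (mul_mem (mul_mem (inv_mem σT) hp.1) σT)
    (mem_cj.1 ((cj_normalizer σ _).ge p1))
  have q1 : σ * q * σ⁻¹ ∈ cen (cj t F₁) := σE2 ▸ (cj_centralizer σ _).le (conj_mem_cj hq.2)
  have e1 : σ * s' * σ⁻¹ = p * (σ * q * σ⁻¹)⁻¹ := by
    rw [show p = σ * (σ⁻¹ * p * σ) * σ⁻¹ by group, e]; group
  obtain ⟨a, ha, b, hb, e2⟩ := s2.mem_J.1 (s2.cenZ (mem_inf.2 ⟨conj_mem_of_mem_normalizer
    (h.norS σs).2 hs', e1 ▸ mul_mem (centralizer_anti inf_le_left hp.2)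
      (inv_mem (centralizer_anti inf_le_right q1))⟩))
  have e3 : a⁻¹ * p = b * (σ * q * σ⁻¹) := by
    rw [← inv_mul_cancel_left a b, ← e2, e1]; group
  rw [show s * p = s * a * (a⁻¹ * p) by group]
  refine mul_mem (mem_sup_right (mul_mem hs (s2.ES ha))) (mem_sup_left (mem_inf.2 ⟨mul_mem
    (inv_mem (h.T0 (mem_sup_right (s2.ES ha)))) hp.1, ?_⟩))
  rw [cj_sup]
  exact cen_sup.2 ⟨mul_mem (inv_mem (s2.el.le_cen ha)) hp.2, e3 ▸ mul_mem (s2.el'.le_cen hb) q1⟩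

theorem four_fpf (hc : Nat.card A = 4) (he : El A) (h1 : x ∈ nor A) (h2 : y ∈ nor A)
    (f1 : ∀ a ∈ A, x * a = a * x → a = 1) (f2 : ∀ a ∈ A, y * a = a * y → a = 1) :
    y⁻¹ * x ∈ cen A ∨ x * y ∈ cen A := by
  obtain ⟨a, ha, a1⟩ := (bot_or_exists_ne_one A).resolve_left (by rintro rfl; simp at hc)
  have K : ∀ x ∈ nor A, (∀ a ∈ A, x * a = a * x → a = 1) → x * a * x⁻¹ ≠ 1 ∧ a ≠ x * a * x⁻¹ ∧
      x * (x * a * x⁻¹) * x⁻¹ = a * (x * a * x⁻¹) := fun x hx f => by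
    have hb := conj_mem_of_mem_normalizer hx ha
    have b1 : x * a * x⁻¹ ≠ 1 := by simpa using a1
    have ab : a ≠ x * a * x⁻¹ := fun e => a1 (f a ha (comm_of_cj e.symm))
    refine ⟨b1, ab, ?_⟩
    rcases H44.WrO.four_cases hc he ha hb a1 b1 ab (conj_mem_of_mem_normalizer hx hb) with
      e | e | e | e
    · exact (b1 (conj_eq_one_iff.1 e)).elim
    · have := f _ (mul_mem ha hb) (comm_of_cj (by
        calc _ = x * a * x⁻¹ * (x * (x * a * x⁻¹) * x⁻¹) := by group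
          _ = _ := by rw [e, he.comm ha hb]))
      exact (ab ((inv_of_sq (he a ha)).symm.trans (eq_inv_of_mul_eq_one_right this).symm)).elim
    · exact (b1 (f _ hb (comm_of_cj e))).elim
    · exact e
  have C : ∀ w b, b ∈ A → b ≠ 1 → a ≠ b → w * a * w⁻¹ = a → w * b * w⁻¹ = b → w ∈ cen A :=
    fun w b hb b1 ab e1 e2 => mem_cen.2 fun c hc' => by
      rcases H44.WrO.four_cases hc he ha hb a1 b1 ab hc' with rfl | rfl | rfl | rfl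
      · simp
      · exact (comm_of_cj e1).symm
      · exact (comm_of_cj e2).symm
      · exact (((show Commute w a from comm_of_cj e1).mul_right (comm_of_cj e2))).symm
  obtain ⟨b1, ab, e1⟩ := K x h1 f1
  obtain ⟨c1, ac, e2⟩ := K y h2 f2
  have hb := conj_mem_of_mem_normalizer h1 ha
  rcases H44.WrO.four_cases hc he ha hb a1 b1 ab (conj_mem_of_mem_normalizer h2 ha) with
    e | e | e | e
  · exact (c1 e).elim
  · exact (ac e.symm).elim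
  · refine Or.inl (C _ _ hb b1 ab ?_ ?_)
    · calc _ = y⁻¹ * (x * a * x⁻¹) * y := by group
        _ = a := by rw [← e]; group
    · calc _ = y⁻¹ * (x * (x * a * x⁻¹) * x⁻¹) * y := by group
        _ = _ := by rw [e1, ← e, ← e2]; group
  · refine Or.inr (C _ _ (conj_mem_of_mem_normalizer h2 ha) c1 ac ?_ ?_)
    · calc _ = x * (y * a * y⁻¹) * x⁻¹ := by group
        _ = x * a * x⁻¹ * (x * (x * a * x⁻¹) * x⁻¹) := by rw [e]; group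
        _ = a := by rw [e1, he.comm ha hb, ← mul_assoc, he _ hb, one_mul]
    · calc _ = x * (y * (y * a * y⁻¹) * y⁻¹) * x⁻¹ := by group
        _ = _ := by rw [e2, e, ttc (he a ha), e1]

/-- the elements of `M` that centralise `c` modulo `S` -/
def cS (M S : Subgroup G) (h : M ≤ nor S) (c : G) : Subgroup G where
  carrier := {m | m ∈ M ∧ ⁅m, c⁆ ∈ S}
  one_mem' := ⟨one_mem _, by simp⟩
  mul_mem' := fun {x y} hx hy => ⟨mul_mem hx.1 hy.1, by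
    have := mul_mem (conj_mem_of_mem_normalizer (h hx.1) hy.2) hx.2
    convert this using 1
    simp only [commutatorElement_def]; group⟩
  inv_mem' := fun {x} hx => ⟨inv_mem hx.1, by
    have := conj_mem_of_mem_normalizer' (h hx.1) (inv_mem hx.2)
    convert this using 1
    simp only [commutatorElement_def]; group⟩

theorem mem_cS {h : M ≤ nor S} : x ∈ cS M S h c ↔ x ∈ M ∧ ⁅x, c⁆ ∈ S := Iff.rfl

theorem comm_mul (x y c : G) : ⁅x * y, c⁆ = x * ⁅y, c⁆ * x⁻¹ * ⁅x, c⁆ := by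
  simp only [commutatorElement_def]; group

/-- a fixed point free element acts on a commutative group -/
theorem surj_fpf (h1 : ρ ∈ nor A) (f : ∀ a ∈ A, ρ * a = a * ρ → a = 1) (ha : a ∈ A) :
    ∃ b ∈ A, ⁅b, ρ⁆ = a := by
  have m : ∀ b ∈ A, ⁅b, ρ⁆ ∈ A := fun b hb => by
    simpa [commutatorElement_def, mul_assoc] using
      mul_mem hb (conj_mem_of_mem_normalizer h1 (inv_mem hb))
  obtain ⟨b, e⟩ := Finite.surjective_of_injective (f := fun b : A => (⟨_, m b b.2⟩ : A))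
    (fun b c e => by
      have e1 : ⁅(b : G), ρ⁆ = ⁅(c : G), ρ⁆ := congrArg Subtype.val e
      refine Subtype.ext (inv_mul_eq_one.1 (f _ (mul_mem (inv_mem b.2) c.2) ?_))
      simp only [commutatorElement_def, mul_left_inj] at e1
      calc _ = (b : G)⁻¹ * (b * ρ * (b : G)⁻¹) * c := by group
        _ = _ := by rw [e1]; group) ⟨a, ha⟩
  exact ⟨b, b.2, congrArg Subtype.val e⟩

theorem pq2_core {U S₂ E₂ F₂ : Subgroup G} (s2 : Sy S₂ E₂ F₂) (c12 : S₁ ≤ cen S₂)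
    (b12 : ∀ a ∈ S₁, a ∈ S₂ → a = 1) (hU : IsSyl 2 U (nor S₁ ⊓ nor (E₂ ⊔ F₂)))
    (SU : S₁ ≤ U) (S2U : S₂ ≤ U) (US2 : U ≤ nor S₂) (blk : ∀ τ ∈ U, Blk τ E₂ F₂)
    (idx : ∀ x ∈ U ⊓ cen (E₂ ⊔ F₂), ∀ y ∈ U ⊓ cen (E₂ ⊔ F₂), x ∉ S₁ ⊔ E₂ ⊓ F₂ →
      y ∉ S₁ ⊔ E₂ ⊓ F₂ → x * y ∈ S₁ ⊔ E₂ ⊓ F₂)
    (pq1 : U ⊓ nor E₂ ≤ U ⊓ cen (E₂ ⊔ F₂) ⊔ S₂) (y1 : y ∈ nor S₁ ⊓ (nor E₂ ⊓ nor F₂))
    (y2 : Odd (orderOf y)) (y3 : ∀ j ∈ E₂ ⊔ F₂, y * j = j * y → j = 1) :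
    ∃ P ρ, S₁ ≤ P ∧ P ≤ U ⊓ cen S₂ ∧ U ⊓ nor E₂ ≤ P ⊔ S₂ ∧ P ⊓ S₂ = ⊥ ∧ U ≤ nor P ∧
      Odd (orderOf ρ) ∧ ρ ∈ nor P ⊓ nor S₁ ⊓ (nor E₂ ⊓ nor F₂) ∧
      ∀ j ∈ E₂ ⊔ F₂, ρ * j = j * ρ → j = 1 := by
  have UK := hU.le
  have UJ : U ≤ nor (E₂ ⊔ F₂) := UK.trans inf_le_right
  have US : U ≤ nor S₁ := UK.trans inf_le_left
  obtain ⟨a, ha, k, hk, rfl⟩ := (hU.inf_centralizer UJ).frattini_mem (g := y) (nor_inf
    (nor_inf (le_normalizer y1.1) (le_normalizer (nor_sup y1.2.1 y1.2.2)))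
    (le_normalizer_centralizer le_rfl (nor_sup y1.2.1 y1.2.2)))
  have a1 : a ∈ nor S₁ ⊓ (nor E₂ ⊓ nor F₂) := by
    simpa using mul_mem y1 (inv_mem (show k ∈ nor S₁ ⊓ (nor E₂ ⊓ nor F₂) from
      ⟨hk.1.1, cen_nor (cen_sup.1 hk.2).1, cen_nor (cen_sup.1 hk.2).2⟩))
  obtain ⟨m, ρo⟩ := exists_odd a
  have ρf : ∀ j ∈ E₂ ⊔ F₂, a ^ 2 ^ m * j = j * a ^ 2 ^ m → j = 1 := fun j hj e =>
    y3 j hj (comm_of_pow y2 (k := m) (comm_of_cj (by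
      rw [← pow_act (nor_sup y1.2.1 y1.2.2) (fun j hj => (act_eq (n := a) (by simpa using hk.2) hj).symm) _ j hj,
        cj_of_comm e])))
  have ρ1 := pow_mem a1 (2 ^ m)
  have ρP := pow_mem ha (2 ^ m)
  generalize a ^ 2 ^ m = ρ at ρo ρf ρ1 ρP
  clear ha hk a1 y1 y2 y3
  change ρ ∈ nor (U ⊓ cen (E₂ ⊔ F₂)) at ρP
  have UP : U ≤ nor (U ⊓ cen (E₂ ⊔ F₂)) :=
    le_normalizer_inf le_normalizer (le_normalizer_centralizer UJ)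
  have S1P : S₁ ≤ U ⊓ cen (E₂ ⊔ F₂) := le_inf SU (c12.trans (centralizer_anti s2.J_le))
  have ZS : E₂ ⊓ F₂ ≤ S₂ := inf_le_left.trans s2.ES
  have ZP : E₂ ⊓ F₂ ≤ U ⊓ cen (E₂ ⊔ F₂) := le_inf (ZS.trans S2U) s2.Z_cen
  have PZ : U ⊓ cen (E₂ ⊔ F₂) ≤ cen (E₂ ⊓ F₂) :=
    inf_le_right.trans (centralizer_anti (inf_le_left.trans le_sup_left))
  have PJ : U ⊓ cen (E₂ ⊔ F₂) ≤ cen (E₂ ⊔ F₂) := inf_le_right
  have PU : U ⊓ cen (E₂ ⊔ F₂) ≤ U := inf_le_left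
  have SZ : S₂ ⊓ (U ⊓ cen (E₂ ⊔ F₂)) ≤ E₂ ⊓ F₂ := fun x hx =>
    ⟨s2.cen_S hx.1 (cen_sup.1 hx.2.2).1, s2.symm.cen_S hx.1 (cen_sup.1 hx.2.2).2⟩
  generalize U ⊓ cen (E₂ ⊔ F₂) = Q at *
  have eZ : El (E₂ ⊓ F₂) := s2.el.mono inf_le_left
  have ρZ : ρ ∈ nor (E₂ ⊓ F₂) := nor_inf ρ1.2.1 ρ1.2.2
  have fZ : ∀ j ∈ E₂ ⊓ F₂, ρ * j = j * ρ → j = 1 := fun j hj => ρf j (mem_sup_left hj.1)
  have UZ : U ≤ nor (E₂ ⊓ F₂) := fun τ hτ => (blk τ hτ).nor_inf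
  have cZ := s2.cZ
  have JZ := s2.cenZ
  generalize E₂ ⊓ F₂ = Z at *
  have dZ : ∀ {x}, x ∈ S₁ ⊔ Z → ∃ s ∈ S₁, ∃ ζ ∈ Z, x = s * ζ := fun hx =>
    (mem_sup_left_norm (le_normalizer_of_le_centralizer (S1P.trans PZ))).1 hx
  have A : ∀ m ∈ nor Q ⊓ nor S₁ ⊓ nor Z, ∀ x ∈ Q, ∃ s ∈ S₁, ∃ ζ ∈ Z, ⁅m, x⁆ = s * ζ := by
    refine fun m hm x hx => dZ ?_
    have n := nor_sup hm.1.2 hm.2
    by_cases h1 : x ∈ S₁ ⊔ Z
    · exact mul_mem (conj_mem_of_mem_normalizer n h1) (inv_mem h1)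
    · exact idx _ (conj_mem_of_mem_normalizer hm.1.1 hx) _ (inv_mem hx)
        (fun e => h1 (by simpa [mul_assoc] using conj_mem_of_mem_normalizer' n e))
        fun e => h1 (inv_mem_iff.1 e)
  obtain ⟨P, hP⟩ : ∃ P : Subgroup G, ∀ x, x ∈ P ↔ x ∈ Q ∧ ⁅ρ, x⁆ ∈ S₁ :=
    ⟨cS Q S₁ (PU.trans US) ρ, fun x => by
      rw [mem_cS, ← commutatorElement_inv, inv_mem_iff]⟩
  have PQ : P ≤ Q := fun x hx => ((hP x).1 hx).1
  have SP : S₁ ≤ P := fun x hx => (hP x).2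
    ⟨S1P hx, mul_mem (conj_mem_of_mem_normalizer ρ1.1 hx) (inv_mem hx)⟩
  have bot : ∀ x ∈ P, x ∈ S₂ → x = 1 := fun x hx h2 => by
    have h3 := SZ ⟨h2, PQ hx⟩
    exact fZ x h3 (commutatorElement_eq_one_iff_mul_comm.1 (b12 _ ((hP x).1 hx).2
      (ZS (mul_mem (conj_mem_of_mem_normalizer ρZ h3) (inv_mem h3)))))
  have PZS : ∀ x ∈ P, x ∈ S₁ ⊔ Z → x ∈ S₁ := fun x hx h2 => by
    obtain ⟨s, hs, ζ, hζ, rfl⟩ := dZ h2
    rwa [bot ζ (by simpa using mul_mem (inv_mem (SP hs)) hx) (ZS hζ), mul_one]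
  have QP : Q ≤ P ⊔ S₂ := fun x hx => by
    obtain ⟨s, hs, ζ, hζ, e⟩ := A ρ ⟨⟨ρP, ρ1.1⟩, ρZ⟩ x hx
    obtain ⟨b, hb, rfl⟩ := surj_fpf ρZ fZ hζ
    have : x * b ∈ P := (hP _).2 ⟨mul_mem hx (ZP hb), by
      have e1 : ⁅ρ, x * b⁆ = ⁅ρ, x⁆ * (x * ⁅b, ρ⁆⁻¹ * x⁻¹) := by
        simp only [commutatorElement_def]; group
      rwa [e1, e, cj_of_comm (mem_cen.1 (PZ hx) _ (inv_mem hζ)).symm, mul_inv_cancel_right]⟩
    simpa using mul_mem (mem_sup_left this) (mem_sup_right (S := P) (inv_mem (ZS hb)))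
  have nP : U ≤ nor P := by
    by_cases h0 : P ≤ S₁
    · rwa [le_antisymm h0 SP]
    obtain ⟨c, hc, c1⟩ := SetLike.not_le_iff_exists.1 h0
    have cQ := PQ hc
    have Pc : ∀ x ∈ P, x ∉ S₁ → x * c⁻¹ ∈ S₁ := fun x hx h1 =>
      PZS _ (mul_mem hx (inv_mem hc)) (idx _ (PQ hx) _ (inv_mem cQ) (fun e => h1 (PZS x hx e))
        fun e => c1 (PZS c hc (inv_mem_iff.1 e)))
    have cS1 : ∀ m ∈ nor S₁, ∀ s ∈ S₁, ⁅m, s⁆ ∈ S₁ := fun m hm s hs =>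
      mul_mem (conj_mem_of_mem_normalizer hm hs) (inv_mem hs)
    obtain ⟨M, hM⟩ : ∃ M, M = nor S₁ ⊓ nor (E₂ ⊔ F₂) ⊓ nor Q := ⟨_, rfl⟩
    have UM : U ≤ M := hM ▸ le_inf UK UP
    have MS : M ≤ nor S₁ := hM ▸ inf_le_left.trans inf_le_left
    have MQ : M ≤ nor Q := hM ▸ inf_le_right
    have ρM : ρ ∈ M := hM ▸ ⟨⟨ρ1.1, nor_sup ρ1.2.1 ρ1.2.2⟩, ρP⟩
    have sM := (hU.of_le UM (hM ▸ inf_le_left)).inf_centralizer UZ
    change IsSyl 2 (U ⊓ cen Z) (M ⊓ cen Z) at sM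
    have A1 : ∀ m ∈ M ⊓ cen Z, ∃ s ∈ S₁, ∃ ζ ∈ Z, ⁅m, c⁆ = s * ζ := fun m hm =>
      A m ⟨⟨MQ hm.1, MS hm.1⟩, cen_nor hm.2⟩ c cQ
    have mul : ∀ m ∈ M ⊓ cen Z, ∀ n, ∀ ζ ∈ Z, ∀ ξ ∈ Z, ⁅m, c⁆ * ζ ∈ S₁ → ⁅n, c⁆ * ξ ∈ S₁ →
        ⁅m * n, c⁆ * (ζ * ξ) ∈ S₁ := fun m hm n ζ hζ ξ hξ h1 h2 => by
      have := mul_mem (conj_mem_of_mem_normalizer (MS hm.1) h2) h1
      have e1 := cj_of_comm (mem_cen.1 hm.2 ξ hξ).symm
      have e2 := mem_cen.1 (PZ (S1P h1)) ξ hξ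
      convert this using 1
      calc _ = m * ⁅n, c⁆ * m⁻¹ * (⁅m, c⁆ * ζ * ξ) := by rw [comm_mul]; group
        _ = m * ⁅n, c⁆ * m⁻¹ * (m * ξ * m⁻¹ * (⁅m, c⁆ * ζ)) := by rw [e1, e2]
        _ = _ := by group
    have res : H98.res 2 (M ⊓ cen Z) ≤ cS M S₁ MS c := res_le_of_forall_pow fun m hm => ⟨1, by
      obtain ⟨s, hs, ζ, hζ, e⟩ := A1 m hm
      have h1 : ⁅m, c⁆ * ζ ∈ S₁ := by rwa [e, mul_assoc, eZ ζ hζ, mul_one]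
      have := mul m hm m ζ hζ ζ hζ h1 h1
      rw [eZ ζ hζ, mul_one] at this
      rw [pow_one, pow_two]
      exact ⟨mul_mem hm.1 hm.1, this⟩⟩
    have UE : ∀ τ ∈ U ⊓ cen Z, τ ∈ nor E₂ → ⁅τ, c⁆ ∈ S₁ := fun τ hτ h1 => by
      obtain ⟨q, hq, s, hs, rfl⟩ := (mem_sup_left_norm (PU.trans US2)).1 (pq1 ⟨hτ.1, h1⟩)
      have h2 := JZ ⟨hs, by simpa using mul_mem (inv_mem (PZ hq)) hτ.2⟩
      rw [comm_mul, commutatorElement_eq_one_iff_mul_comm.2 (mem_cen.1 (PJ cQ) s h2)]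
      obtain ⟨p, hp, ζ, hζ, rfl⟩ := (mem_sup_left_norm (PQ.trans (PU.trans US2))).1 (QP hq)
      have h3 := SZ ⟨hζ, by simpa using mul_mem (inv_mem (PQ hp)) hq⟩
      rw [comm_mul, commutatorElement_eq_one_iff_mul_comm.2 (mem_cen.1 (PZ cQ) ζ h3)]
      by_cases h4 : p ∈ S₁
      · simpa using inv_mem (cS1 c (US (PU cQ)) p h4)
      · have := Pc p hp h4
        have := inv_mem (cS1 c (US (PU cQ)) _ this)
        convert this using 1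
        simp only [commutatorElement_def]; group
    have red : ∀ m ∈ M ⊓ cen Z, ∀ ζ ∈ Z, ⁅m, c⁆ * ζ ∈ S₁ → ∃ τ ∈ U ⊓ cen Z, ⁅τ, c⁆ * ζ ∈ S₁ :=
      fun m hm ζ hζ h1 => by
        obtain ⟨τ, hτ, r, hr, rfl⟩ := sM.exists_mul_res hm
        refine ⟨τ, hτ, ?_⟩
        simpa using mul _ hm r⁻¹ ζ hζ 1 (one_mem _) h1 (by simpa using (inv_mem (res hr)).2)
    have one : ∀ τ ∈ U ⊓ cen Z, ∀ ζ ∈ Z, ⁅τ, c⁆ * ζ ∈ S₁ → τ ∈ nor E₂ → ζ = 1 :=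
      fun τ hτ ζ hζ h1 h2 => b12 ζ ((mul_mem_cancel_left (UE τ hτ h2)).1 h1) (ZS hζ)
    have M1 : M ⊓ cen Z ≤ cS M S₁ MS c := fun m hm => by
      obtain ⟨s, hs, ζ, hζ, e⟩ := A1 m hm
      have h1 : ⁅m, c⁆ * ζ ∈ S₁ := by rwa [e, mul_assoc, eZ ζ hζ, mul_one]
      have hξ := conj_mem_of_mem_normalizer ρZ hζ
      have h2 : ⁅ρ * m * ρ⁻¹, c⁆ * (ρ * ζ * ρ⁻¹) ∈ S₁ := by
        have h3 : ⁅ρ⁻¹, c⁆ ∈ S₁ := (inv_mem (show ρ ∈ cS M S₁ MS c from ⟨ρM, ((hP c).1 hc).2⟩)).2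
        have := conj_mem_of_mem_normalizer ρ1.1 (mul_mem (mul_mem
          (conj_mem_of_mem_normalizer (MS hm.1) h3) h1) (inv_mem h3))
        have e2 := mem_cen.1 (PZ (S1P (inv_mem h3))) ζ hζ
        convert this using 1
        rw [mul_assoc _ (⁅m, c⁆ * ζ), mul_assoc ⁅m, c⁆ ζ, e2]
        simp only [commutatorElement_def]; group
      obtain ⟨τ, hτ, h3⟩ := red m hm ζ hζ h1
      obtain ⟨τ', hτ', h4⟩ := red _ (mem_inf.2 ⟨M.mul_mem (M.mul_mem ρM hm.1) (inv_mem ρM),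
        conj_cen_W ρZ hm.2⟩) _ hξ h2
      have ζ1 : ζ = 1 := by
        by_contra h5
        have := one _ (mul_mem hτ hτ') _ (mul_mem hζ hξ) (mul τ ⟨UM hτ.1, hτ.2⟩ τ' ζ hζ _ hξ h3 h4)
          ((blk τ hτ.1).mul (blk τ' hτ'.1) (fun e => h5 (one τ hτ ζ hζ h3 e))
            fun e => h5 (conj_eq_one_iff.1 (one τ' hτ' _ hξ h4 e)))
        exact h5 (fZ ζ hζ (comm_of_cj ((eq_inv_of_mul_eq_one_right this).trans
          (inv_of_sq (eZ ζ hζ)))))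
      exact ⟨hm.1, by simpa [ζ1] using h1⟩
    refine fun τ hτ => mem_normalizer_of_cj_le ?_
    have ρN : ρ ∈ cS M S₁ MS c := ⟨ρM, ((hP c).1 hc).2⟩
    have r1 : τ⁻¹ * ρ * τ ∈ M := mul_mem (mul_mem (inv_mem (UM hτ)) ρM) (UM hτ)
    have r2 : τ⁻¹ * ρ * τ ∈ cS M S₁ MS c := by
      rcases four_fpf cZ eZ (mul_mem (mul_mem (inv_mem (UZ hτ)) ρZ) (UZ hτ)) ρZ (fun j hj e =>
        conj_eq_one_iff.1 (fZ _ (conj_mem_of_mem_normalizer (UZ hτ) hj) (by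
          calc _ = τ * (τ⁻¹ * ρ * τ * j) * τ⁻¹ := by group
            _ = _ := by rw [e]; group))) fZ with e | e
      · simpa using mul_mem ρN (M1 (mem_inf.2 ⟨mul_mem (inv_mem ρM) r1, e⟩))
      · simpa using mul_mem (M1 ⟨mul_mem r1 ρM, e⟩) (inv_mem ρN)
    have r3 : τ * c * τ⁻¹ ∈ P := (hP _).2 ⟨conj_mem_of_mem_normalizer (UP hτ) cQ, by
      have := conj_mem_of_mem_normalizer (US hτ) r2.2
      convert this using 1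
      simp only [commutatorElement_def]; group⟩
    rintro _ ⟨x, hx, rfl⟩
    show τ * x * τ⁻¹ ∈ P
    by_cases h1 : x ∈ S₁
    · exact SP (conj_mem_of_mem_normalizer (US hτ) h1)
    · simpa [mul_assoc] using mul_mem (SP (conj_mem_of_mem_normalizer (US hτ) (Pc x hx h1))) r3
  refine ⟨P, ρ, SP, le_inf (PQ.trans PU) fun x hx => mem_cen.2 fun s hs => ?_,
    pq1.trans (sup_le QP le_sup_right), eq_bot_iff.2 fun x hx => bot x hx.1 hx.2, nP, ρo,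
    ⟨⟨mem_normalizer_of_cj_le ?_, ρ1.1⟩, ρ1.2⟩, ρf⟩
  · exact commutatorElement_eq_one_iff_mul_comm.1 (bot _ (mul_mem (conj_mem_of_mem_normalizer
      (nP (S2U hs)) hx) (inv_mem hx)) (by
        simpa [commutatorElement_def, mul_assoc] using
          mul_mem hs (conj_mem_of_mem_normalizer (US2 (PU (PQ hx))) (inv_mem hs))))
  · rintro _ ⟨x, hx, rfl⟩
    simpa [commutatorElement_def] using mul_mem (SP ((hP x).1 hx).2) hx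

theorem jobPQ2 : JobPQ2.{u} := by
  intro G _ _ t z L S E E' E₁ F₁ Y₁ S₁ T h pq
  have s1 := h.sy₁
  have s2 := h.sy₂
  have st : T ⊓ cen (cj t E₁ ⊔ cj t F₁) ≤ T ⊓ nor (E₁ ⊔ F₁) := fun x hx =>
    h.star_of hx.1 (Or.inr (Or.inr (Or.inl rfl))) (cen_nor (cen_sup.1 hx.2).1)
  have k : ∀ x ∈ T ⊓ nor (E₁ ⊔ F₁) ⊓ cen (cj t E₁ ⊔ cj t F₁), x ∈ nor E₁ →
      x ∈ S₁ ⊔ cj t E₁ ⊓ cj t F₁ := fun x hx h1 => by
    obtain ⟨a, ha, b, hb, rfl⟩ := h.w.mem_T.1 (h.ker x hx.1.1 h1 (cen_nor (cen_sup.1 hx.2).1))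
    have h2 := cen_sup.1 (show t * b * t⁻¹ ∈ cen (cj t E₁ ⊔ cj t F₁) by
      simpa using mul_mem (inv_mem (centralizer_anti s2.J_le (h.w.le_cen₁ ha))) hx.2)
    exact mul_mem (mem_sup_left ha) (mem_sup_right
      ⟨s2.cen_S (conj_mem_cj hb) h2.1, s2.symm.cen_S (conj_mem_cj hb) h2.2⟩)
  obtain ⟨y, hy, y2, y3⟩ := h.rho₁
  rw [cj_sup] at pq
  obtain ⟨P, ρ, h1, h2, h3, h4, h5, h6, h7, h8⟩ := pq2_core (y := t * y * t⁻¹) s2 h.w.le_cen₁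
    (fun a => h.one₁₂) (h.sylZ.of_le (le_inf (h.norS.trans inf_le_left) (cj_sup t E₁ F₁ ▸ h.star_J₂))
      fun x hx => mem_cen1.2 (comm_of_cj ((h.zu _ ⟨conj_mem_of_mem_normalizer hx.1 h.zS₁,
        conj_cen_W hx.1 (mem_cen.2 fun _ hx => mem_cen1.1 (h.zS hx))⟩).resolve_left
          (by simpa using h.z1))))
    (le_sup_left.trans h.T0_star) (le_sup_right.trans h.T0_star) (h.norS.trans inf_le_right)
    (fun τ hτ => (h.star hτ).2)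
    (fun x hx y hy h1 h2 => k _ (mul_mem hx hy) ((h.star hx.1).1.mul (h.star hy.1).1
      (fun e => h1 (k x hx e)) fun e => h2 (k y hy e)))
    ((inf_le_inf_right _ inf_le_left).trans (pq.trans (sup_le_sup_right (le_inf st inf_le_right) _)))
    ⟨cen_nor (h.cenS₂ (conj_mem_cj hy.1)), (cj_normalizer t _).le (conj_mem_cj (h.norE hy.1)),
      (cj_normalizer t _).le (conj_mem_cj hy.2)⟩ (by rwa [H14.orderOf_conj'])
    (by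
      rw [← cj_sup]
      rintro _ ⟨j, hj, rfl⟩ e
      rw [y3 j hj (by simpa [mul_assoc] using congrArg (· * t) e), map_one])
  exact ⟨P, ρ, h, h1, h2.trans (inf_le_inf_right _ inf_le_left), fun x hx => h3
    ⟨h.star_of hx.1 (Or.inr (Or.inr (Or.inl rfl))) hx.2, hx.2⟩, h4, h5, h6, h7, by rwa [cj_sup]⟩

end H42.ML
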