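import Cfsg.Agent.H42.MLBase
import Cfsg.Agent.H99.WrOBase

/-! Tower MCLY (`blueprints/MCLY.md`), part 0: from a `2`-component of type `McL` or `Ly` to the
local hypothesis `Loc`. -/

set_option autoImplicit false
set_option linter.unusedSectionVars false

namespace H42.ML

open Cfsg Subgroup H14 H98 H1.Gold H42.An
open H99.Wr (El Sy AS)
open H31.S2 (oc)
open scoped commutatorElement

universe u

section Defs

variable {G : Type u} [Group G] [Finite G]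

/-- The facts inside `L` (true in the model and in `G`). -/
structure Bs (L S E E' : Subgroup G) : Prop where
  sy : Sy S E E'
  SL : S ≤ L
  two : ∀ A ≤ S, El A → 16 ≤ Nat.card A → A = E ∨ A = E'
  one : ∀ x ∈ L, ∀ y ∈ L, orderOf x = 2 → orderOf y = 2 → ∃ l ∈ L, l * x * l⁻¹ = y
  idx : (cen E).relIndex (L ⊓ nor E) = 2520
  idx' : (cen E').relIndex (L ⊓ nor E') = 2520
  syl : IsSyl 2 S (L ⊓ nor E)
  syl' : IsSyl 2 S (L ⊓ nor E')
  rho : ∃ ρ ∈ L ⊓ nor E ⊓ nor E', Odd (orderOf ρ) ∧ ∀ j ∈ E ⊔ E', ρ * j = j * ρ → j = 1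

/-- `End_B(E') = {0, 1}` for `B = N_L(E') ∩ N(E)`. -/
def En (L E E' : Subgroup G) : Prop :=
  ∀ φ : G → G, (∀ r ∈ E', φ r ∈ E') → (∀ r ∈ E', ∀ s ∈ E', φ (r * s) = φ r * φ s) →
    (∀ b ∈ L ⊓ nor E' ⊓ nor E, ∀ r ∈ E', φ (b * r * b⁻¹) = b * φ r * b⁻¹) →
    (∀ r ∈ E', φ r = 1) ∨ ∀ r ∈ E', φ r = r

/-- The facts about the overgroup `N` acting on `L` with "kernel" `Q`. -/
structure Ot (N Q L S E E' : Subgroup G) : Prop where
  ns : ∀ P ≤ N, IsPGroup 2 P → ∃ l ∈ L, cj l P ≤ nor S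
  inn : N ⊓ nor E ≤ L ⊔ Q
  inn' : N ⊓ nor E' ≤ L ⊔ Q
  out : ∀ c ∈ N, ∀ d ∈ N, c ∉ L ⊔ Q → d ∉ L ⊔ Q → c * d ∈ L ⊔ Q
  oi : ∀ v ∈ N ⊓ nor S, cj v E = E' → cj v E' = E → v * v ∈ S → ∃ s ∈ S, s * v * (s * v) = 1

/-- All facts in the model. -/
structure MF (n : ℕ) (L S E E' : Subgroup G) : Prop where
  deg : n = 8 ∨ n = 11
  bs : Bs L S E E'
  en : En L E E'
  ot : Ot (nor L) (cen L) L S E E'
  zl : L ⊓ cen L = ⊥
  dc : ∀ x ∈ L, orderOf x = 2 →
    IsNonsplitDoubleCover ↥(L ⊓ cen1 x) (alternatingGroup (Fin n))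

/-- `s` acts on `K` as the involution `x`; `JJ K s` is a `2`-component of type `2·Aₙ`. -/
structure DC (n : ℕ) (t s x : G) (K : Subgroup G) : Prop where
  pc : PC 2 (JJ K s) (cen1 t ⊓ cen1 s)
  opp : opp 2 (JJ K s) ≤ oc t
  dc : IsNonsplitDoubleCover (JJ K s ⧸ pPrimeCore 2 (JJ K s)) (alternatingGroup (Fin n))
  m5 : ∀ r ∈ NN t K, ⁅JJ K s, zpowers r⁆ ≤ oc t → r ∈ QQ t K ∨ r * x ∈ QQ t K

/-- The facts about involutions acting on `K`. -/
structure MI (n : ℕ) (t : G) (K : Subgroup G) : Prop where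
  inf : K ⊓ QQ t K ≤ oc t
  dec : ∀ s ∈ NN t K, s * s = 1 → s ∈ K ⊔ QQ t K → s ∉ QQ t K →
    ∃ x ∈ K, orderOf x = 2 ∧ Commute s x ∧ s * x ∈ QQ t K
  dc : ∀ s ∈ NN t K, s * s = 1 → ∀ x ∈ K, orderOf x = 2 → Commute s x → s * x ∈ QQ t K →
    DC n t s x K

/-- The `2`-local facts about `K`. -/
structure MK (t : G) (K S E E' : Subgroup G) : Prop where
  bs : Bs K S E E'
  en : En K E E'
  ot : Ot (NN t K) (QQ t K) K S E E'
  ce : ∀ d ∈ NN t K ⊓ cen E, Two d → ∃ e ∈ E, d * e ∈ QQ t K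

/-- All facts in `G`. -/
structure MG (n : ℕ) (t : G) (K S E E' : Subgroup G) : Prop extends MI n t K, MK t K S E E' where
  mc : MC t K
  deg : n = 8 ∨ n = 11

/-- `⟨t⟩` is a Sylow `2`-subgroup of `QQ t K`. -/
def Thin (t : G) (K : Subgroup G) : Prop := ∀ g ∈ QQ t K, Two g → g = 1 ∨ g = t

/-- The local hypothesis. -/
structure Loc (t : G) (L S E E' : Subgroup G) : Prop extends Bs L S E E' where
  ord : orderOf t = 2
  Lt : L ≤ cen1 t
  norL : cen1 t ≤ nor L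
  resL : L ≤ H98.res 2 L
  nconj : ∀ g : G, g * t * g⁻¹ ∉ L
  fus : ∃ g : G, ∃ x ∈ L, x ≠ 1 ∧ x * x = 1 ∧ g * t * g⁻¹ = t * x
  ns : ∀ P ≤ cen1 t, IsPGroup 2 P → ∃ l ∈ L, cj l P ≤ nor S
  act : cen1 t ⊓ nor E ≤ L ⊓ nor E ⊔ cen E
  act' : cen1 t ⊓ nor E' ≤ L ⊓ nor E' ⊔ cen E'
  sylF : IsSyl 2 (S ⊔ zpowers t) (cen1 t ⊓ nor E)
  sylF' : IsSyl 2 (S ⊔ zpowers t) (cen1 t ⊓ nor E')
  sqL : ∀ c ∈ cen1 t, Two c → c * c ∈ L ∨ t * (c * c) ∈ L
  oi : ∀ v ∈ cen1 t ⊓ nor S, cj v E = E' → cj v E' = E → v * v ∈ S → ∃ s ∈ S, s * v * (s * v) = 1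

end Defs

/-- The theorem for groups of order `< m`. -/
def Thm (m : ℕ) : Prop :=
  ∀ (X : Type u) [Group X] [Finite X], Nat.card X < m → oddCore X = ⊥ →
    IsQuasisimple ↥(generalizedFittingSubgroup X) → ∀ (t : X) (K : Subgroup X), ¬ MC t K

/-- A minimal counterexample with simple `F*`. -/
structure Min (G : Type u) [Group G] [Finite G] : Prop where
  as : AS G
  odd : oddCore G = ⊥
  ih : Thm.{u} (Nat.card G)
  mg : ∀ (t : G) (K : Subgroup G), MC t K → ∃ n S E E', MG n t K S E E'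

section Props

variable (G : Type u) [Group G] [Finite G]

/-- The diagonal component is an image of `J`. -/
def PDg : Prop := ∀ (c y : G) (J D : Subgroup G), y * y = 1 → Commute y c → PC 2 J (cen1 c) →
  y ∉ nor J → PC 2 D (cen1 c ⊓ cen1 y) → D ≤ J ⊔ cj y J →
  ∃ f : J →* D ⧸ pPrimeCore 2 D, Function.Surjective f ∧ ∀ (j : J) (d : D),
    f j = (d : D ⧸ pPrimeCore 2 D) ↔ ((j : G) * (y * j * y⁻¹))⁻¹ * d ∈ oc c

/-- No component of type `M` inside a proper pump-up. -/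
def PInd : Prop := ∀ (c y : G) (J D : Subgroup G), c ≠ 1 → y * y = 1 → Commute y c →
  PC 2 J (cen1 c) → y ∈ nor J → y ∉ QQ c J → PC 2 D (cen1 c ⊓ cen1 y) → D ≤ J → ¬ TyM D

/-- Pump-ups of components of type `M` are trivial or diagonal. -/
def PPU : Prop := ∀ (t s : G) (K : Subgroup G), MC t K → orderOf s = 2 → s ∈ QQ t K →
  ∃ J, MC s J ∧ JJ K s ≤ J ⊔ cj t J ∧ (t ∈ QQ s J ∨ t ∉ nor J)

/-- The pump-up of `2·Aₙ` is proper. -/
def PP : Prop := ∀ (t z : G) (K : Subgroup G), MC t K → z ∈ K → orderOf z = 2 →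
  ∃ J, PC 2 J (cen1 z) ∧ JJ K z ≤ J ∧ t ∈ nor J ∧ t ∉ QQ z J

def PUq : Prop := ∀ (t : G) (K K' : Subgroup G), MC t K → MC t K' → K = K'

/-- The relation `s ∈ QQ t K`. -/
def PTr : Prop := ∀ (t s : G) (K : Subgroup G), MC t K → orderOf s = 2 → s ∈ QQ t K →
  ∃ J, MC s J ∧ t ∈ QQ s J ∧ JJ K s ≤ J ∧
    ∀ g, Commute g t → Commute g s → (g ∈ QQ t K ↔ g ∈ QQ s J)

/-- What is known after the pump-up analysis. -/
structure Un : Prop extends Min G where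
  p : PP G
  uq : PUq G
  tr : PTr G

/-- Commuting pairs with an inner action. -/
def PB1 : Prop := ∀ (t s : G) (K J : Subgroup G), MC t K → MC s J → Commute s t → s ∉ QQ t K →
  s ∈ K ⊔ QQ t K → s ∈ K ∨ (Thin t K ∧ t * s ∈ K)

/-- The result of step 0. -/
def Fin0 : Prop := ∃ (t : G) (K : Subgroup G), MC t K ∧ Thin t K ∧ (∀ g : G, g * t * g⁻¹ ∉ K) ∧
  ∃ g : G, ∃ x ∈ K, x ≠ 1 ∧ x * x = 1 ∧ g * t * g⁻¹ = t * x

end Props

/-- A statement about all finite groups. -/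
def All (F : ∀ (G : Type u) [Group G] [Finite G], Prop) : Prop :=
  ∀ (G : Type u) [Group G] [Finite G], F G

def JobFMc : Prop := All.{u} fun G _ _ => ∀ L : Subgroup G, Spor.IsoMcL L →
  ∃ S E E', MF 8 L S E E'

/-- The `3`-local `3·McL` of `Ly`, and the involutions of `Ly`. -/
def JobLy0 : Prop := All.{u} fun G _ _ => Spor.IsoLy G →
  (∃ x : G, orderOf x = 3 ∧ IsQuasisimple (cen1 x) ∧
    Spor.IsoMcL (cen1 x ⧸ oddCore (cen1 x)) ∧ Nat.card (center (cen1 x)) = 3) ∧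
  (∀ x y : G, orderOf x = 2 → orderOf y = 2 → IsConj x y) ∧
  ∀ x : G, orderOf x = 2 → IsNonsplitDoubleCover (cen1 x) (alternatingGroup (Fin 11))

def JobFLy : Prop := JobLy0.{u} → All.{u} fun G _ _ => ∀ L : Subgroup G, Spor.IsoLy L →
  ∃ S E E', MF 11 L S E E'

def JobL1 : Prop := All.{u} fun G _ _ => ∀ (t : G) (K : Subgroup G) (M : Mo t K) n S E E',
  MF n M.L S E E' → ∃ S E E', MK t K S E E'

def JobL2 : Prop := All.{u} fun G _ _ => ∀ (t : G) (K : Subgroup G) (M : Mo t K) n S E E',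
  MF n M.L S E E' → MI n t K

def JobR : Prop := All.{u} fun G _ _ => Thm.{u} (Nat.card G) → oddCore G = ⊥ →
  IsQuasisimple ↥(generalizedFittingSubgroup G) → ¬ AS G → ∀ (t : G) (K : Subgroup G), ¬ MC t K

def JobDg : Prop := All.{u} fun G _ _ => PDg G

def JobInd : Prop := All.{u} fun G _ _ => Min G → PInd G

def JobPU : Prop := All.{u} fun G _ _ => PDg G → PInd G → PPU G

def JobFS : Prop := JobLy0.{u} → All.{u} fun G _ _ => AS G → oddCore G = ⊥ →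
  (Spor.IsoMcL ↥(generalizedFittingSubgroup G) ∨ Spor.IsoLy ↥(generalizedFittingSubgroup G)) →
  ∀ (t : G) (K : Subgroup G), ¬ MC t K

def JobP : Prop := All.{u} fun G _ _ => Min G → PDg G →
  ¬ (Spor.IsoMcL ↥(generalizedFittingSubgroup G) ∨ Spor.IsoLy ↥(generalizedFittingSubgroup G)) →
  PP G

def JobD : Prop := All.{u} fun G _ _ => Min G → PInd G → PPU G → PP G → PUq G

def JobTr : Prop := All.{u} fun G _ _ => Min G → PPU G → PUq G → PTr G

def JobSA : Prop := All.{u} fun G _ _ => Un G →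
  (∀ (t s : G) (K J : Subgroup G), MC t K → MC s J → Commute s t → s ∈ QQ t K) →
  ∀ (t : G) (K : Subgroup G), ¬ MC t K

def JobB1 : Prop := All.{u} fun G _ _ => Un G → PB1 G

def JobSB : Prop := All.{u} fun G _ _ => Un G → PB1 G →
  ∀ (t s : G) (K J : Subgroup G), MC t K → MC s J → Commute s t → s ∉ QQ t K → Fin0 G

def JobLoc : Prop := All.{u} fun G _ _ => ∀ n (t : G) (K S E E' : Subgroup G), MG n t K S E E' →
  cen1 t ≤ nor K → Thin t K → (∀ g : G, g * t * g⁻¹ ∉ K) →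
  (∃ g : G, ∃ x ∈ K, x ≠ 1 ∧ x * x = 1 ∧ g * t * g⁻¹ = t * x) → Loc t K S E E'

/-- The local theorem (part 1). -/
def LocThm : Prop := All.{u} fun G _ _ => AS G → oddCore G = ⊥ →
  ∀ (t : G) (L S E E' : Subgroup G), Loc t L S E E' → En L E E' → False

section Pump

variable {G : Type u} [Group G] [Finite G] {c y g : G} {D J : Subgroup G}

/-- The pump-up of a `2`-component of `C(c) ∩ C(y)`. -/
theorem exists_pump (hy : y * y = 1) (hc : Commute y c) (h : PC 2 D (cen1 c ⊓ cen1 y)) :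
    ∃ J, PC 2 J (cen1 c) ∧ ¬ D ≤ QQ c J ∧ D ≤ J ⊔ cj y J := by
  obtain ⟨J, h1, h2, -⟩ := h.exists_orb (two_of_sq hy).isPGroup (le_normalizer (mem_cen1.2 hc))
    (by rw [pow_two, hy]; exact one_mem _) (bal_le (two_of_sq hy) hc h)
  have : ¬ D ≤ QQ c J := fun e => h2 (commutator_comm D J ▸ ((le_cpc h1.le).1 e).2)
  exact ⟨J, h1, this, (bal_or hy hc h h1).resolve_left this⟩

/-- A trivial pump-up is covered. -/
theorem cover_of_QQ (hy : y * y = 1) (hJ : PC 2 J (cen1 c)) (hq : y ∈ QQ c J)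
    (h : PC 2 D (cen1 c ⊓ cen1 y)) (hD : D ≤ J) : D = JJ J y ∧ J ≤ D ⊔ opp 2 J := by
  have := hJ.pc_centralizer (two_of_sq hy).isPGroup (zpowers_le.2 (cpc_le c J hq))
    ((commutator_mono le_rfl (zpowers_le.2 hq)).trans (commutator_cpc_le hJ.le))
  rw [H14.centralizer_zpowers] at this
  have e : D = JJ J y := h.eq_of_le this.1
    (h.pec_eq.ge.trans (pec_mono (le_inf hD (h.le.trans inf_le_right))))
  exact ⟨e, e ▸ this.2⟩

/-- An element that centralises a cover `D` of `J` modulo odd order lies in `QQ c J`. -/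
theorem mem_QQ_of_cover {N : Subgroup G} (hJ : PC 2 J (cen1 c)) (hD : D ≤ J)
    (hc : J ≤ D ⊔ opp 2 J) (hg : g ∈ cen1 c ⊓ nor D) (hN : Odd (Nat.card N))
    (h : ⁅D, zpowers g⁆ ≤ N) : g ∈ QQ c J := by
  have h1 : ⁅D, zpowers g⁆ ≤ D := commutator_le_left' (zpowers_le.2 hg.2)
  have h2 : ⁅D, zpowers g⁆ ≤ opp 2 D :=
    le_opp_of_odd h1 (H1.le_normalizer_commutator_left _ _) (odd_of_le h hN)
  exact zpowers_le.1 ((le_cpc hJ.le).2 ⟨zpowers_le.2 hg.1, hJ.commutator_le_of_le_sup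
    (zpowers_le.2 hg.1) (hc.trans (sup_le_sup_left hJ.opp_le _)) (hD.trans hJ.le)
    (h2.trans ((opp_le_of_cover hD hc).trans hJ.opp_le))⟩)

end Pump

theorem PUq.nor {G : Type u} [Group G] [Finite G] (h : PUq G) {t : G} {K : Subgroup G}
    (k : MC t K) : cen1 t ≤ nor K := fun _ hg =>
  cj_eq_self_iff.1 (h _ _ _ (k.cj' (mem_cen1.1 hg)) k)

theorem thm_of (fm : JobFMc.{u}) (l0 : JobLy0.{u}) (fl : JobFLy.{u}) (l1 : JobL1.{u})
    (l2 : JobL2.{u}) (jr : JobR.{u}) (dg : JobDg.{u}) (ind : JobInd.{u}) (pu : JobPU.{u}) (fs : JobFS.{u})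
    (jp : JobP.{u}) (jd : JobD.{u}) (tr : JobTr.{u}) (sa : JobSA.{u}) (b1 : JobB1.{u})
    (sb : JobSB.{u}) (lo : JobLoc.{u}) (lt : LocThm.{u}) (m : ℕ) : Thm.{u} m := by
  induction m with
  | zero => exact fun _ _ _ h => absurd h (Nat.not_lt_zero _)
  | succ m ih =>
    intro G _ _ hm hO hq t K h
    have ih' : Thm.{u} (Nat.card G) := fun X _ _ k => ih X (by omega)
    by_cases hA : AS G
    swap
    · exact jr G ih' hO hq hA t K h
    have mn : Min G := ⟨hA, hO, ih', fun t K h => by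
      obtain ⟨M⟩ := h.mo
      obtain ⟨n, S, E, E', f⟩ : ∃ n S E E', MF n M.L S E E' :=
        M.iso.elim (fun e => ⟨8, fm _ _ e⟩) fun e => ⟨11, fl l0 _ _ e⟩
      obtain ⟨S', F, F', k⟩ := l1 G t K M n S E E' f
      exact ⟨n, S', F, F', l2 G t K M n S E E' f, k, h, f.deg⟩⟩
    have i := ind G mn
    have p := jp G mn (dg G) fun e => fs l0 G hA hO e t K h
    have q := jd G mn i (pu G (dg G) i) p
    have un : Un G := ⟨mn, p, q, tr G mn (pu G (dg G) i) q⟩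
    by_cases hc : ∀ (t s : G) (K J : Subgroup G), MC t K → MC s J → Commute s t → s ∈ QQ t K
    · exact sa G un hc t K h
    push Not at hc
    obtain ⟨t, s, K, J, h1, h2, h3, h4⟩ := hc
    obtain ⟨t, K, h, th, nc, fu⟩ := sb G un (b1 G un) t s K J h1 h2 h3 h4
    obtain ⟨n, S, E, E', f⟩ := mn.mg t K h
    exact lt G hA hO t K S E E' (lo G n t K S E E' f (q.nor h) th nc fu) f.en

/-- The statement of S1739. -/
theorem final (h : ∀ m, Thm.{u} m) {G : Type u} [Group G] [Finite G] (hO : oddCore G = ⊥)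
    (hF : IsQuasisimple ↥(generalizedFittingSubgroup G)) (t : G) (ht : orderOf t = 2)
    (K : Subgroup ↥(centralizer ({t} : Set G))) (hK : IsPComponent 2 K) :
    ¬ Spor.IsoMcL (↥K ⧸ oddCore ↥K) ∧ ¬ Spor.IsoLy (↥K ⧸ oddCore ↥K) :=
  not_or.1 fun e => h _ G (Nat.lt_succ_self _) hO hF t _ ⟨ht, pc_map_subtype hK,
    TyM.congr (K := K) e (quotOppCongr 2 (equivMapOfInjective K _ (cen1 t).subtype_injective))⟩

end H42.ML
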