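import Cfsg.Agent.H42.MLPQ
import Cfsg.Agent.H72.WrOD

/-! Tower MCLY (`blueprints/MCLY.md`): UG, WK. -/


set_option autoImplicit false
set_option linter.unusedSectionVars false

namespace H42.ML

open Subgroup Cfsg H98 H1.Gold H99.Wr
open H53.Wr (UU th)
open scoped commutatorElement

universe u

variable {G : Type u} [Group G] [Finite G] {t z ρ a b c e f g k l n o v w x y τ σ : G}
  {L S E E' E₁ F₁ Y Y₁ S₁ T P Q A B D K M N W : Subgroup G}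

theorem blk_mul (h : Blk x A B) (h' : Blk y A B) (e : x ∈ nor A ↔ y ∈ nor A) : x * y ∈ nor A := by
  by_cases h1 : x ∈ nor A
  exacts [mul_mem h1 (e.1 h1), h.mul h' h1 fun h2 => h1 (e.2 h2)]

theorem blk_conj (h : Blk τ A B) (h' : Blk y A B) (hy : y ∈ nor A) : τ * y * τ⁻¹ ∈ nor A := by
  rcases h with ⟨e, -⟩ | ⟨-, e⟩
  exacts [e ▸ (cj_normalizer τ A).le (conj_mem_cj hy),
    e ▸ (cj_normalizer τ B).le (conj_mem_cj (h'.fix hy))]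

theorem blk_inv (h : Blk τ A B) : Blk τ⁻¹ A B :=
  h.imp (fun e => ⟨by rw [← e.1, cj_inv_cj, e.1], by rw [← e.2, cj_inv_cj, e.2]⟩)
    fun e => ⟨by rw [← e.2, cj_inv_cj], by rw [← e.1, cj_inv_cj]⟩

theorem mem_of_cj_G0 (h : g * x * g⁻¹ ∈ G0 G) : x ∈ G0 G := by
  simpa [mul_assoc] using conj_G0 g⁻¹ h

theorem nor_t (ht : t * t = 1) : t⁻¹ * x * t ∈ nor (cj t A) ↔ x ∈ nor A := by
  rw [nor, ← cj_normalizer, mem_cj, inv_of_sq ht, show t * (t * x * t) * t = t * (t * (x * (t * t))) by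
    group, ht, mul_one, ttc ht]

theorem nor_t' : t⁻¹ * x * t ∈ nor A ↔ x ∈ nor (cj t A) := by
  rw [nor, nor, ← cj_normalizer, mem_cj]

namespace Cv

variable (h : Cv t z L S E E' E₁ F₁ Y₁ S₁ T)
include h

theorem tG : t ∉ G0 G := fun e => by
  obtain ⟨N, -, h1, h2⟩ := H8.thompson_transfer T _ (by
    have := h.sylT.not_dvd_relIndex
    rw [relIndex_top_right] at this
    exact Nat.odd_iff.2 (by omega)) h.relIndex_star t (by rw [pow_two, h.tt]) h.tn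
  exact h2 (res_le_of_forall_pow (fun x _ => ⟨1, by
    rw [pow_one]; exact sq_mem_of_index_two h1 x⟩) e)

theorem both (hx : x ∈ T ⊓ nor (E₁ ⊔ F₁)) (hy : y ∈ T ⊓ nor (E₁ ⊔ F₁))
    (h1 : x ∈ nor E₁ ↔ y ∈ nor E₁) (h2 : x ∈ nor (cj t E₁) ↔ y ∈ nor (cj t E₁)) :
    x * y ∈ WW t S₁ :=
  h.ker _ (T.mul_mem hx.1 hy.1) (blk_mul (h.star hx).1 (h.star hy).1 h1)
    (blk_mul (h.star hx).2 (h.star hy).2 h2)

theorem t_star : t ∉ T ⊓ nor (E₁ ⊔ F₁) := fun e => h.t_not_star e.2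

theorem sigma (hu : v ∈ T ⊓ G0 G) (h0 : v ∉ nor (E₁ ⊔ F₁)) :
    ∃ σ ∈ T ⊓ nor (E₁ ⊔ F₁), σ * t = t * σ ∧ σ * σ = 1 ∧ σ ∉ nor E₁ ∧ σ ∉ nor (cj t E₁) := by
  rcases h.sig with e | ⟨σ, σT, σt, σσ, σE⟩
  · rcases h.mem_T1 (e ▸ hu.1) with e1 | e1
    · exact (h0 (h.T0_star e1).2).elim
    · exact (h.tG (((G0 G).mul_mem_cancel_left hu.2).1 (h.T0_G e1))).elim
  have h1 : σ ∉ nor E₁ := fun e => h.sy₁.ne ((cj_eq_self e).symm.trans σE)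
  exact ⟨σ, ⟨σT, Blk.nor (Or.inr ⟨σE, by rw [← σE, cj_tt σσ]⟩)⟩, σt, σσ, h1,
    fun e => h1 (by rwa [← nor_t', mul_assoc, σt, inv_mul_cancel_left] at e)⟩

theorem ug_a (hu : v ∈ T ⊓ G0 G) (h0 : v ∉ nor (E₁ ⊔ F₁)) (h1 : v * t ∉ nor E₁)
    (h2 : v * t ∉ nor (cj t E₁)) : False := by
  obtain ⟨σ, σs, σt, σσ, σ1, σ2⟩ := h.sigma hu h0
  have τs := (h.star_or hu.1).resolve_left fun e => h0 e.2
  have sG : t * σ ∈ G0 G := ((G0 G).mul_mem_cancel_left hu.2).1 (by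
    rw [← mul_assoc]; exact h.T0_G (h.both τs σs (iff_of_false h1 σ1) (iff_of_false h2 σ2)))
  have σG : σ ∉ G0 G := fun e => h.tG ((mul_mem_cancel_right e).1 sG)
  have sn : t * σ ∉ T ⊓ nor (E₁ ⊔ F₁) := fun e => h.t_star ((mul_mem_cancel_right σs).1 e)
  have k0 : ∀ x ∈ T ⊓ nor (E₁ ⊔ F₁), x ∈ G0 G → x ∈ nor E₁ ∨ x ∈ nor (cj t E₁) := fun x hx xG => by
    by_contra h3
    rw [not_or] at h3
    exact σG ((mul_mem_cancel_left xG).1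
      (h.T0_G (h.both hx σs (iff_of_false h3.1 σ1) (iff_of_false h3.2 σ2))))
  have k1 : ∀ x ∈ T ⊓ nor (E₁ ⊔ F₁), x ∈ G0 G → x ∈ nor E₁ := fun x hx xG => by
    by_contra h3
    have h4 := (k0 x hx xG).resolve_left h3
    rcases k0 _ (mul_mem hx (h.star_t hx)) (mul_mem xG (by simpa using conj_G0 t⁻¹ xG)) with e | e
    · exact h3 ((mul_mem_cancel_right (nor_t'.2 h4)).1 e)
    · exact h3 ((nor_t h.tt).1 ((mul_mem_cancel_left h4).1 e))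
  have k2 : ∀ x ∈ T ⊓ nor (E₁ ⊔ F₁), x ∈ G0 G → x ∈ WW t S₁ := fun x hx xG =>
    h.ker x hx.1 (k1 x hx xG) (nor_t'.1 (k1 _ (h.star_t hx) (by simpa using conj_G0 t⁻¹ xG)))
  have ss : t * σ * (t * σ) = 1 := by rw [mul_assoc, ← mul_assoc σ, σt, mul_assoc, σσ, mul_one, h.tt]
  have sT : t * σ ∈ T := T.mul_mem h.tT σs.1
  refine sn (h.T0_star (H72.Wr.mem_of_transfer (H98.res_res ⊤) h.sylU (fun x hx y hy => k2 _ ?_
    (mul_mem (conj_G0 x hy.2) (inv_mem hy.2))) ⟨sT, sG⟩ ss fun g hg => ?_))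
  · rw [mul_assoc (x * y), h.mul_star (T.mul_mem hx.1 hy.1) (T.mul_mem (T.inv_mem hx.1)
      (T.inv_mem hy.1)), h.mul_star hx.1 hy.1, h.mul_star (T.inv_mem hx.1) (T.inv_mem hy.1),
      inv_mem_iff, inv_mem_iff]
  by_cases h3 : g * (t * σ) * g⁻¹ ∈ T ⊓ nor (E₁ ⊔ F₁)
  swap
  · exact k2 _ ((h.mul_star hg.1 sT).2 (iff_of_false h3 sn)) ((G0 G).mul_mem hg.2 sG)
  rcases (h.out (t * σ) (by rw [mul_assoc, σt]) ss (fun e => sn (e ▸ one_mem _)) g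
    (k2 _ h3 hg.2)).2 with e | e
  · obtain ⟨k, e1⟩ := h.tx e ss
    exact (h.tn k (by rwa [e1, ttc h.tt])).elim
  · exact (σG (h.L_G (by rwa [ttc h.tt] at e))).elim

end Cv

namespace Cp

variable (h : Cp t z ρ L S E E' E₁ F₁ Y₁ S₁ T P)
include h

theorem Pt_star : cj t P ≤ T ⊓ nor (E₁ ⊔ F₁) := cj_le_of_le h.P_star (h.T_nor_star h.tT)

theorem Pt_cen : cj t P ≤ cen S₁ := by
  have := cj_mono t h.P_cen
  rwa [cj_centralizer, cj_tt h.tt] at this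

theorem wP : Wp t P (WW t P ⊓ cen1 t) := by
  have bot : ∀ x ∈ P, x ∈ cj t P → x = 1 := fun x h1 h2 => by
    have k : ∀ x ∈ P, x ∈ cj t P → x ∈ S₁ := fun x h1 h2 =>
      h.mem_S₁ h1 (cen_nor (centralizer_anti h.sy₁.ES (h.Pt_cen h2)))
    refine h.one₁₂ (k x h1 h2) (mem_cj.2 (k _ (mem_cj.1 h2) ?_))
    simpa [h.tinv] using conj_mem_cj (g := t) h1
  refine wp_of h.tt (fun a ha b hb => commutatorElement_eq_one_iff_mul_comm.1 (bot _ ?_ ?_))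
    (eq_bot_iff.2 fun x hx => bot x hx.1 hx.2)
  · simpa [commutatorElement_def, mul_assoc] using
      mul_mem ha (conj_mem_of_mem_normalizer (h.norP (h.Pt_star hb)) (inv_mem ha))
  · exact mul_mem (conj_mem_of_mem_normalizer ((cj_normalizer t P).le
      (mem_cj.2 (h.norP (h.star_t (h.P_star ha))))) hb) (inv_mem hb)

theorem ug_b (hc : c ∈ P) (c1 : c ∉ S₁) (cG : c * t ∈ G0 G) : False := by
  have w := h.wP
  have ct : c * t ∉ T ⊓ nor (E₁ ⊔ F₁) := fun e => h.t_star ((mul_mem_cancel_left (h.P_star hc)).1 e)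
  have cU : c * t ∈ T ⊓ G0 G := ⟨T.mul_mem (h.P_T hc) h.tT, cG⟩
  obtain ⟨σ, σs, σt, σσ, σ1, σ2⟩ := h.sigma cU fun e => ct ⟨cU.1, e⟩
  have P2 : P ≤ nor (cj t E₁) := h.P_nor h.sy₂.ES
  have P1 : cj t P ≤ nor E₁ := fun x hx => cen_nor (centralizer_anti h.sy₁.ES (h.Pt_cen hx))
  have c2 : t * c * t⁻¹ ∉ nor (cj t E₁) := fun e =>
    c1 (h.mem_S₁ hc (by simpa [mul_assoc] using nor_t'.2 e))
  have dec : T ⊓ nor (E₁ ⊔ F₁) ≤ WW t P := fun x hx => by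
    have k : T ⊓ nor (cj t E₁) ≤ WW t P := h.cov.trans (sup_le_sup_left (cj_mono t h.SP) P)
    by_cases h1 : x ∈ nor (cj t E₁)
    · exact k ⟨hx.1, h1⟩
    have h2 := h.Pt_star (conj_mem_cj hc)
    exact (mul_mem_cancel_right (mem_sup_right (conj_mem_cj hc))).1
      (k ⟨T.mul_mem hx.1 h2.1, (h.star hx).2.mul (h.star h2).2 h1 c2⟩)
  have inv : ∀ x ∈ T, x ∉ T ⊓ nor (E₁ ⊔ F₁) → x * x = 1 → ∀ g : G,
      g * x * g⁻¹ ∉ T ⊓ nor (E₁ ⊔ F₁) := fun x hx h1 h2 g => by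
    obtain ⟨a, -, rfl⟩ := inv_Wt w (by
      simpa using mul_mem (mem_sup_left (dec ((h.star_or hx).resolve_left h1)))
        (mem_sup_right (S := WW t P) (inv_mem (mem_zpowers t))))
      (fun e => h1 (sup_le h.P_star h.Pt_star e)) h2
    simpa [mul_assoc] using h.tn (g * a)
  obtain ⟨d, hd, rfl⟩ := (w.diag σ).1 ⟨dec σs, mem_cen1.2 σt⟩
  have dd : d * d = 1 := (w.sq_pair hd hd σσ).1
  have d1 : d ∉ nor E₁ := fun e => σ1 (mul_mem e (P1 (conj_mem_cj hd)))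
  have ds := h.P_star hd
  have dG : d * t ∈ G0 G := by
    have := h.T0_G (mem_sup_left (h.idxP hd (inv_mem hc) (fun e => d1 (h.sy₁.SN e))
      fun e => c1 (inv_mem_iff.1 e)))
    simpa [mul_assoc] using mul_mem this cG
  have dn : d ∉ G0 G := fun e => h.tG ((mul_mem_cancel_left e).1 dG)
  have e0 : dg t d = d * t * (d * t) := by simp [dg, h.tinv, mul_assoc]
  have σG : dg t d ∈ G0 G := e0 ▸ mul_mem dG dG
  have dt := h.Pt_star (conj_mem_cj hd)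
  have d2 : t * d * t⁻¹ ∉ nor (cj t E₁) := fun e => d1 (by simpa [mul_assoc] using nor_t'.2 e)
  have k : ∀ x ∈ T ⊓ nor (E₁ ⊔ F₁), x ∈ G0 G → x ∈ WW t S₁ ∨ x * dg t d ∈ WW t S₁ := by
    intro x hx xG
    by_cases h1 : x ∈ nor E₁ <;> by_cases h2 : x ∈ nor (cj t E₁)
    · exact Or.inl (h.ker x hx.1 h1 h2)
    · exact (dn (mem_of_cj_G0 ((mul_mem_cancel_left xG).1 (h.T0_G (h.both hx dt
        (iff_of_true h1 (P1 (conj_mem_cj hd))) (iff_of_false h2 d2)))))).elim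
    · exact (dn ((mul_mem_cancel_left xG).1 (h.T0_G (h.both hx ds
        (iff_of_false h1 d1) (iff_of_true h2 (P2 hd)))))).elim
    · exact Or.inr (h.both hx σs (iff_of_false h1 σ1) (iff_of_false h2 σ2))
  have wT : d * t ∈ T := T.mul_mem ds.1 h.tT
  have gen : ∀ K : Subgroup G, WW t S₁ ≤ K → d * t ∈ K → T ⊓ G0 G ≤ K := fun K h1 h2 => by
    have k' : ∀ x ∈ T ⊓ nor (E₁ ⊔ F₁), x ∈ G0 G → x ∈ K := fun x hx xG =>
      (k x hx xG).elim (fun e => h1 e) fun e =>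
        (mul_mem_cancel_right (e0 ▸ mul_mem h2 h2)).1 (h1 e)
    intro x hx
    by_cases h3 : x ∈ T ⊓ nor (E₁ ⊔ F₁)
    · exact k' x h3 hx.2
    exact (mul_mem_cancel_right h2).1 (k' _ ((h.mul_star hx.1 wT).2 (iff_of_false h3
      fun e => h.t_star ((mul_mem_cancel_left ds).1 e))) ((G0 G).mul_mem hx.2 dG))
  have cm : ∀ y ∈ T, ⁅d * t, y⁆ ∈ WW t S₁ → ∀ x ∈ T ⊓ G0 G, ⁅x, y⁆ ∈ WW t S₁ := fun y hy h1 x hx =>
    (gen (cS T _ h.T_nor_T0 y) (fun a ha => ⟨h.T0 ha, by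
      simpa [commutatorElement_def, mul_assoc] using
        mul_mem ha (conj_mem_of_mem_normalizer (h.T_nor_T0 hy) (inv_mem ha))⟩) ⟨wT, h1⟩ hx).2
  refine σ1 (h.T0_nor (H72.Wr.mem_of_transfer (H98.res_res ⊤) h.sylU (fun x hx y hy => cm y hy.1
    (inv_mem_iff.1 (commutatorElement_inv (d * t) y ▸ cm _ wT (by simp) y hy)) x hx)
    ⟨σs.1, σG⟩ σσ fun g hg => ?_)).1.1
  have h3 : g * dg t d * g⁻¹ ∈ T ⊓ nor (E₁ ⊔ F₁) := by
    by_contra h3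
    exact inv _ hg.1 h3 (sq_conj σσ g) g⁻¹ (by simpa [mul_assoc] using σs)
  refine (k _ h3 hg.2).resolve_left fun h4 => ?_
  obtain ⟨m, e⟩ := (h.out _ σt σσ (fun e => σ1 (e ▸ one_mem _)) g h4).1
  have tdT : zpowers t ⊔ zpowers d ≤ T := sup_le (zpowers_le.2 h.tT) (zpowers_le.2 ds.1)
  obtain ⟨n, hn, h5⟩ := (h.sylT.of_le h.T_d le_top).exists_cj_le
    (isPGroup_cj m (h.two_T.to_le tdT)) (by
      rw [← e, ← cj_cen1]
      exact cj_mono m (sup_le (zpowers_le.2 (mem_cen1.2 σt.symm)) (zpowers_le.2 (mem_cen1.2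
        ((Commute.refl d).mul_right (w.c' hd hd))))))
  rw [cj_cj] at h5
  have e1 : n * m * dg t d * (n * m)⁻¹ = dg t z := by
    rw [← cj_of_comm (mem_cen1.1 hn), ← e]; group
  generalize n * m = r at h5 e1
  have tr : r * t * r⁻¹ ∈ T := h5 (conj_mem_cj (mem_sup_left (mem_zpowers t)))
  have dr : r * d * r⁻¹ ∈ T := h5 (conj_mem_cj (mem_sup_right (mem_zpowers d)))
  have ds' : r * d * r⁻¹ ∈ T ⊓ nor (E₁ ⊔ F₁) := by
    by_contra h6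
    exact inv _ dr h6 (sq_conj dd r) r⁻¹ (by simpa [mul_assoc] using ds)
  have τs := (h.star_or tr).resolve_left (h.tn r)
  have dn' : r * d * r⁻¹ ∉ G0 G := fun e => dn (mem_of_cj_G0 e)
  have e2 : r * d * r⁻¹ * (r * t * r⁻¹ * t * (t⁻¹ * (r * d * r⁻¹) * t) * (r * t * r⁻¹ * t)⁻¹) =
      dg t z := by
    rw [← e1, dg]; group
  have d0 := h.T0_nor (h.w.B_le (h.sy.ES h.dE.1))
  rw [← e2] at d0
  generalize r * d * r⁻¹ = x at *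
  generalize r * t * r⁻¹ * t = τ at *
  have xs := h.star_t ds'
  have ys := mul_mem (mul_mem τs xs) (inv_mem τs)
  by_cases h6 : x ∈ nor E₁
  · have := mem_of_cj_G0 (h.T0_G (h.ker _ ys.1 ((mul_mem_cancel_left h6).1 d0.1.1)
      (blk_conj (h.star τs).2 (h.star xs).2 ((nor_t h.tt).2 h6))))
    exact dn' (by simpa [mul_assoc] using conj_G0 t this)
  · have h7 : τ * (t⁻¹ * x * t) * τ⁻¹ ∉ nor (cj t E₁) := fun e => h6 ((nor_t h.tt).1 (by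
      simpa [mul_assoc] using blk_conj (blk_inv (h.star τs).2) (h.star ys).2 e))
    exact dn' ((mul_mem_cancel_right σG).1 (h.T0_G (h.both ds' σs (iff_of_false h6 σ1)
      (iff_of_false (fun e => h7 ((mul_mem_cancel_left e).1 d0.2.1)) σ2))))

end Cp

theorem jobUG : JobUG.{u} := by
  intro G _ _ t z ρ L S E E' E₁ F₁ Y₁ S₁ T P h v hv
  by_contra h0
  have key : ∀ v ∈ T ⊓ G0 G, v * t ∈ nor (cj t E₁) → False := fun v hv h1 => by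
    obtain ⟨c, hc, s, hs, e⟩ := h.dec (T.mul_mem hv.1 h.tT) h1
    have sG := h.T0_G (mem_sup_right hs)
    refine h.ug_b hc (fun e1 => h.tG (((G0 G).mul_mem_cancel_left hv.2).1
      (e ▸ mul_mem (h.T0_G (mem_sup_left e1)) sG))) ?_
    have := mul_mem (inv_mem (conj_G0 c sG)) hv.2
    rwa [eq_mul_inv_of_mul_eq e, h.tinv, show (c * s * c⁻¹)⁻¹ * (c * s * t) = c * t by group] at this
  refine h.ug_a hv h0 (fun e => key (t⁻¹ * v * t) ⟨T.mul_mem (T.mul_mem (T.inv_mem h.tT) hv.1) h.tT,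
    by simpa using conj_G0 t⁻¹ hv.2⟩ ?_) (key v hv)
  rw [mul_assoc t⁻¹]
  exact (nor_t h.tt).2 e

namespace Cq

variable (h : Cq t z L S E E' E₁ F₁ Y₁ S₁ T) (ug : T ⊓ G0 G ≤ nor (E₁ ⊔ F₁))
include h ug

theorem U_star (hx : x ∈ T) (h1 : x ∈ G0 G) : x ∈ T ⊓ nor (E₁ ⊔ F₁) := ⟨hx, ug ⟨hx, h1⟩⟩

theorem nf (hg : g ∈ G0 G) : g * z * g⁻¹ ≠ t * z * t⁻¹ := fun e => by
  obtain ⟨n, hn, e1⟩ := h.fusJ (G0 G) _ h.sylU h.T0_U
    (fun A hA => h.big A (hA.trans inf_le_left)) z (mem_sup_left h.zZ) g hg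
    (e ▸ mem_sup_right (conj_mem_cj h.zZ))
  have n1 : n ∉ nor (E₁ ⊓ F₁) := fun e2 => h.z1 (conj_eq_one_iff.1 (h.one₁₂
    (h.sy₁.ES (e ▸ e1 ▸ conj_mem_of_mem_normalizer e2 h.zZ).1) (conj_mem_cj h.zS₁)))
  obtain ⟨_, ⟨m, rfl⟩, k, e2⟩ := exists_odd_pow n
  have n2 := pow_mem hn (2 * m + 1)
  obtain ⟨c, hc, h1⟩ := (h.sylU.of_le (le_inf inf_le_right (inf_le_left.trans h.T_J))
    inf_le_left).exists_cj_le (isPGroup_zpowers e2) (zpowers_le.2 n2)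
  have h2 := h1 (conj_mem_cj (mem_zpowers _))
  have h3 := blk_conj (blk_inv (h.zJ c hc.2)) (h.zJ _ (h.T_J h2.1))
    (h.star (h.U_star ug h2.1 h2.2)).1.nor_inf
  rw [show c⁻¹ * (c * n ^ (2 * m + 1) * c⁻¹) * c⁻¹⁻¹ = (n * n) ^ m * n by
    rw [← pow_two, ← pow_mul, ← pow_succ]; group] at h3
  exact n1 ((mul_mem_cancel_left (pow_mem (h.zJ n hn.2).sq m)).1 h3)

theorem pur₂ (hv : v ∈ cj t S₁) (vv : v * v = 1) (hg : g ∈ G0 G) (h1 : g * v * g⁻¹ ∈ WW t S₁) :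
    g * v * g⁻¹ ∈ cj t S₁ := by
  by_cases v1 : v = 1
  · simp [v1]
  refine (h.pure₂ (Or.inr hv) vv h1).resolve_left fun e => ?_
  obtain ⟨k, hk, e1⟩ := h.c1 _ e (sq_conj vv g) (by simpa using v1)
  obtain ⟨m, hm, e2⟩ := h.c2 hv vv v1
  exact h.nf ug (mul_mem hm (inv_mem (mul_mem hk hg))) (by rw [← e2, ← e1]; group)

theorem pur₁ (hv : v ∈ S₁) (vv : v * v = 1) (hg : g ∈ G0 G) (h1 : g * v * g⁻¹ ∈ WW t S₁) :
    g * v * g⁻¹ ∈ S₁ := by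
  have := h.pur₂ ug (conj_mem_cj hv) (sq_conj vv t) (conj_G0 t hg) (by
    simpa [mul_assoc] using conj_mem_of_mem_normalizer h.tT0n h1)
  simpa [mul_assoc] using mem_cj.1 this

theorem sylU₂ : IsSyl 2 (T ⊓ G0 G) (G0 G ⊓ cen1 (t * z * t⁻¹)) :=
  h.sylU.of_le (le_inf inf_le_right fun _ hx =>
    mem_cen1.2 (comm_of_cj (h.star_z₂ (h.U_star ug hx.1 hx.2)))) inf_le_left

theorem norE₁ (hg : g ∈ G0 G) (h1 : g * (t * z * t⁻¹) * g⁻¹ ∈ T) :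
    g * (t * z * t⁻¹) * g⁻¹ ∈ nor E₁ := by
  by_contra h2
  have zG := h.T0_G (mem_sup_right (conj_mem_cj h.zS₁))
  have vs := h.U_star ug h1 (conj_G0 g zG)
  obtain ⟨e1, e2⟩ := (h.star vs).1.swap h2
  obtain ⟨y, hy, h3, h4, h5, x, -, h6⟩ := (H44.WrO.jobSW G S₁ E₁ F₁ _ h.sy₁ e1 e2).2 (h.norS₁ vs)
    (sq_conj (sq_conj h.zz t) g)
  obtain ⟨j, hj⟩ := isPGroup_iff_forall.1 h.sy₁.two y hy
  obtain ⟨k, hk, h7⟩ := (h.sylU₂ ug).exists_cj_le (isPGroup_cj g⁻¹ (isPGroup_zpowers hj))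
    (cj_le_iff.2 (zpowers_le.2 (by
      rw [inv_inv, cj_inf, cj_G0, cj_cen1]
      exact ⟨h.T0_G (mem_sup_left hy), mem_cen1.2 h3⟩)))
  rw [cj_cj] at h7
  have h8 := h7 (conj_mem_cj (mem_zpowers y))
  have e3 : k * g⁻¹ * y * (k * g⁻¹)⁻¹ * (k * g⁻¹ * y * (k * g⁻¹)⁻¹) =
      k * g⁻¹ * (y * y) * (k * g⁻¹)⁻¹ := by group
  have yy := h.sy₁.el _ h4.1
  have h9 := h.pur₁ ug (mul_mem hy hy) yy ((G0 G).mul_mem hk.1 (inv_mem hg))
    (e3 ▸ h.sq_mem (h.U_star ug h8.1 h8.2))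
  obtain ⟨m, -, e4⟩ := h.c12 _ h9 z h.zS₁ (sq_conj yy _) h.zz (fun e => h5 (conj_eq_one_iff.1 e)) h.z1
  refine h.pure₁ (Or.inr (conj_mem_cj h.zS₁)) (m * (k * g⁻¹) * x * g) ?_
  calc _ = m * (k * g⁻¹) * (x * (g * (t * z * t⁻¹) * g⁻¹) * x⁻¹) * (m * (k * g⁻¹))⁻¹ := by group
    _ = m * (k * g⁻¹ * (y * y) * (k * g⁻¹)⁻¹ * (k * (t * z * t⁻¹) * k⁻¹)) * m⁻¹ := by
      rw [h6]; group
    _ = _ := by rw [cj_of_comm (mem_cen1.1 hk.2), e4]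

theorem wc₂ (hA : A = cj t E₁ ∨ A = cj t F₁) (hk : k ∈ G0 G) (h1 : cj k A ≤ T) :
    cj k A = cj t E₁ ∨ cj k A = cj t F₁ := by
  obtain ⟨-, a1, a2, a3, -⟩ := h.fam₂ hA
  have k1 : cj k A ≤ nor E₁ := by
    rintro _ ⟨a, ha, rfl⟩
    by_cases h2 : a = 1
    · simp [h2]
    obtain ⟨m, hm, e⟩ := h.c2 (a1 ha) (a2 a ha) h2
    have e1 : k * m⁻¹ * (t * z * t⁻¹) * (k * m⁻¹)⁻¹ = k * a * k⁻¹ := by rw [← e]; group
    show k * a * k⁻¹ ∈ nor E₁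
    exact e1 ▸ h.norE₁ ug (mul_mem hk (inv_mem hm)) (e1 ▸ h1 (conj_mem_cj ha))
  have k2 : cj k A ⊓ nor (cj t E₁) ≤ cj t S₁ := by
    rintro _ ⟨⟨a, ha, rfl⟩, h2⟩
    exact h.pur₂ ug (a1 ha) (a2 a ha) hk (h.ker _ (h1 (conj_mem_cj ha)) (k1 (conj_mem_cj ha)) h2)
  have st : cj k A ≤ T ⊓ nor (E₁ ⊔ F₁) := fun x hx => h.star_of (h1 hx) (Or.inl rfl) (k1 hx)
  have he := a2.cj k
  have k3 : cj k A ≤ nor (cj t E₁) := fun v hv => by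
    by_contra h2
    obtain ⟨e1, e2⟩ := (h.star (st hv)).2.swap h2
    have n1 := (H44.WrO.jobSW G _ _ _ v h.sy₂ e1 e2).1 _ k2 (he.mono inf_le_left)
      fun x hx => mem_cen1.2 (he.comm hx.1 hv)
    have n3 := card_eq_relIndex_mul (cj k A) (nor (cj t E₁))
    have n4 : (nor (cj t E₁)).relIndex (cj k A) ≤ 2 := H99.Wr.relIndex_le_two fun x hx y hy =>
      (h.star (st hx)).2.mul (h.star (st hy)).2
    rw [card_cj, a3] at n3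
    nlinarith
  exact h.two₂ ((le_inf le_rfl k3).trans k2) he (by rw [card_cj, a3])

end Cq

theorem jobWK : JobWK.{u} := fun _ _ _ _ _ _ _ _ _ _ _ _ _ _ _ _ h ug =>
  ⟨h, ug, fun _ hv vv _ hg => h.pur₂ ug hv vv hg, fun _ hA _ hk => h.wc₂ ug hA hk⟩

end H42.ML
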