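import Cfsg.Agent.H42.McK
import Cfsg.Agent.H44.A9M
import Cfsg.Agent.H52.L3W

/-! `blueprints/LOCAL3C.md` 1.4, steps 1 and 2. -/

set_option autoImplicit false
set_option maxRecDepth 100000
set_option synthInstance.maxSize 2048

namespace H42.MC

open Cfsg Subgroup H14 H98 H56.L3 H42.L3 H47.MC
open H44 (J3 K24 SD)
open scoped commutatorElement Matrix

universe u

/-- the vectors orthogonal to `y` -/
def em (j : J3) : V := ![0, j.1, j.2.1, j.2.2]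

def m3 (a b c : J3) : Mat := !![1, 0, 0, 0; 0, a.1, b.1, c.1; 0, a.2.1, b.2.1, c.2.1; 0, a.2.2, b.2.2, c.2.2]

/-- the matrix of an element acting on `y^⊥` -/
def mL {L : Type} [SMul L J3] (l : L) : Mat := m3 (l • (1, 0, 0)) (l • (0, 1, 0)) (l • (0, 0, 1))

theorem mL_mul : ∀ k l : K24, mL (k * l) = mL k * mL l := by decide +kernel
theorem mL_one : mL (1 : K24) = 1 := by decide +kernel
theorem mL_pow (k : K24) : ∀ n : ℕ, mL (k ^ n) = mL k ^ n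
  | 0 => mL_one
  | n + 1 => by rw [pow_succ, pow_succ, mL_mul, mL_pow k n]
theorem mL_em : ∀ (k : K24) (j : J3), mL k *ᵥ em j = em (k • j) := by decide +kernel
theorem mL_vy : ∀ k : K24, mL k *ᵥ vy = vy := by decide +kernel

theorem exists_k {M : Mat} (h1 : M *ᵥ vy = vy) (h2 : Mᵀ * B * M = M.det • B) :
    ∃ k : K24, M = mL k := by
  have a := fun i => congrFun h1 i
  have e := fun i j => congrFun (congrFun h2 i) j
  simp only [Matrix.mulVec, dotProduct, Fin.sum_univ_four, vy, Matrix.cons_val, mul_one, mul_zero,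
    add_zero] at a
  have a0 : M 0 0 = 1 := a 0
  have a1 : M 1 0 = 0 := a 1
  have a2 : M 2 0 = 0 := a 2
  have a3 : M 3 0 = 0 := a 3
  have e0 := e 0 0
  have e1 := e 0 1
  have e2 := e 0 2
  have e3 := e 0 3
  have e4 := e 1 1
  have e5 := e 2 2
  have e6 := e 3 3
  have e7 := e 1 2
  have e8 := e 1 3
  have e9 := e 2 3
  simp [Matrix.mul_apply, Fin.sum_univ_four, B, a0, a1, a2, a3] at e0 e1 e2 e3
  simp [Matrix.mul_apply, Fin.sum_univ_four, B, e1, e2, e3, ← e0] at e4 e5 e6 e7 e8 e9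
  rw [Matrix.det_succ_column_zero] at e0
  simp [Fin.sum_univ_four, a0, a1, a2, a3, Matrix.det_fin_three] at e0
  obtain ⟨k, k1, k2, k3⟩ := (by decide +kernel : ∀ a : J3,
    -(a.1 * a.1) + -(a.2.1 * a.2.1) + -(a.2.2 * a.2.2) = -1 → ∀ b : J3,
    -(b.1 * b.1) + -(b.2.1 * b.2.1) + -(b.2.2 * b.2.2) = -1 →
    -(a.1 * b.1) + -(a.2.1 * b.2.1) + -(a.2.2 * b.2.2) = 0 → ∀ c : J3,
    -(c.1 * c.1) + -(c.2.1 * c.2.1) + -(c.2.2 * c.2.2) = -1 →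
    -(a.1 * c.1) + -(a.2.1 * c.2.1) + -(a.2.2 * c.2.2) = 0 →
    -(b.1 * c.1) + -(b.2.1 * c.2.1) + -(b.2.2 * c.2.2) = 0 →
    1 = a.1 * b.2.1 * c.2.2 - a.1 * c.2.1 * b.2.2 - b.1 * a.2.1 * c.2.2 + b.1 * c.2.1 * a.2.2 +
      c.1 * a.2.1 * b.2.2 - c.1 * b.2.1 * a.2.2 →
    ∃ k : K24, k • ((1, 0, 0) : J3) = a ∧ k • ((0, 1, 0) : J3) = b ∧ k • ((0, 0, 1) : J3) = c)
    (M 1 1, M 2 1, M 3 1) e4 (M 1 2, M 2 2, M 3 2) e5 e7 (M 1 3, M 2 3, M 3 3) e6 e8 e9 e0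
  refine ⟨k, ?_⟩
  rw [mL, k1, k2, k3]
  ext i j
  fin_cases i <;> fin_cases j <;> simp [m3, *]

theorem mL_T : mT = mL (K24.mk 1) := by decide +kernel
theorem mL_R : mR = mL (K24.mk 2) := by decide +kernel
theorem mL_S : mS = mL (K24.mk 12) := by decide +kernel

section Coord

variable {G : Type*} [Group G] {v : V → G} {J : Subgroup G} (h : Coord v J) {g : G} {x y z : V}

theorem acts_mulL {g' : G} {k l : K24} (hk : Acts v g (mL k)) (hl : Acts v g' (mL l)) :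
    Acts v (g * g') (mL (k * l)) := by
  rw [mL_mul]; exact acts_mul hk hl

theorem acts_powL {k : K24} (hk : Acts v g (mL k)) (n : ℕ) : Acts v (g ^ n) (mL (k ^ n)) := by
  rw [mL_pow]; exact acts_pow hk n

theorem acts_inv' {k : K24} (hg : Acts v g (mL k)) : Acts v g⁻¹ (mL k⁻¹) :=
  acts_inv hg (by rw [← mL_mul, mul_inv_cancel, mL_one])

include h

theorem acts_uniq {k l : K24} (hk : Acts v g (mL k)) (hl : Acts v g (mL l)) : k = l :=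
  (by decide +kernel : ∀ k l : K24, mL k *ᵥ em (1, 0, 0) = mL l *ᵥ em (1, 0, 0) →
    mL k *ᵥ em (0, 1, 0) = mL l *ᵥ em (0, 1, 0) → k = l) k l (h.inj ((hk _).symm.trans (hl _)))
    (h.inj ((hk _).symm.trans (hl _)))

theorem Ce_comb (hx : g ∈ Ce (v x)) (hy : g ∈ Ce (v y)) (a b : ZMod 3) :
    g ∈ Ce (v (a • x + b • y)) := by
  rw [h.add, v_smul h, v_smul h]
  exact mem_Ce.2 (Commute.mul_right (Commute.pow_right (mem_Ce.1 hx) _)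
    (Commute.pow_right (mem_Ce.1 hy) _))

theorem mem_sup_v : g ∈ zpowers (v x) ⊔ zpowers (v y) ↔ ∃ a b : ZMod 3, v (a • x + b • y) = g := by
  rw [H52.L3.mem_E (v_comm h x y)]
  simp only [mem_zp_v h, h.add]
  exact ⟨fun ⟨_, ⟨a, e⟩, _, ⟨b, e'⟩, e''⟩ => ⟨a, b, by rw [e, e', e'']⟩,
    fun ⟨a, b, e⟩ => ⟨_, ⟨a, rfl⟩, _, ⟨b, rfl⟩, e.symm⟩⟩

theorem fus3 [Finite G] (w : WC J) (hx : g ∈ Ce (v x)) (hy : g ∈ Ce (v y))
    (hz : g * v z * g⁻¹ ∈ J) (hc : Ce (v x) ⊓ Ce (v y) ⊓ Ce (v z) ≤ Nr J) : g ∈ Nr J := by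
  have m := fun x => zpowers_le.2 (v_mem h x)
  obtain ⟨n, hn, h1⟩ := wc2 h w (g := g) (sup_le (sup_le (m x) (m y)) (m z)) (by
    simp only [cj_sup, H98.cj, MonoidHom.map_zpowers]
    exact sup_le (sup_le (zpowers_le.2 ((mem_Ce'.1 hx).symm.subst (motive := (· ∈ J)) (v_mem h x)))
      (zpowers_le.2 ((mem_Ce'.1 hy).symm.subst (motive := (· ∈ J)) (v_mem h y))))
      (zpowers_le.2 hz))
  simpa using mul_mem hn (hc ⟨⟨mem_Ce.2 (h1 _ (mem_sup_left (mem_sup_left (mem_zpowers _)))).symm,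
    mem_Ce.2 (h1 _ (mem_sup_left (mem_sup_right (mem_zpowers _)))).symm⟩,
    mem_Ce.2 (h1 _ (mem_sup_right (mem_zpowers _))).symm⟩)

end Coord

section Loc

variable {G : Type u} [Group G] [Finite G] {v : V → G} {J Qa L₁ : Subgroup G} {t r τ σ f : G}
  (h : Loc v J Qa L₁ t r τ σ f) {g x : G} {B : Subgroup G}
include h

omit [Finite G] in
theorem act24 (hg : g ∈ Ce (v vy)) (hn : g ∈ Nr J) : ∃ k : K24, Acts v g (mL k) := by
  obtain ⟨M, h1, h2⟩ := h.act g hn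
  obtain ⟨k, rfl⟩ := exists_k ((acts_mem_Ce h.toCoord h1).1 hg) h2
  exact ⟨k, h1⟩

omit [Finite G] in
theorem acts_word (a b c : ℕ) :
    Acts v (t ^ a * r ^ b * σ ^ c) (mL (K24.mk 1 ^ a * K24.mk 2 ^ b * K24.mk 12 ^ c)) := by
  rw [mL_mul, mL_mul, mL_pow, mL_pow, mL_pow, ← mL_T, ← mL_R, ← mL_S]
  exact acts_mul (acts_mul (acts_pow h.aT a) (acts_pow h.aR b)) (acts_pow h.aS c)

omit [Finite G] in
theorem acts_Ce {k : K24} (hg : Acts v g (mL k)) : g ∈ Ce (v vy) :=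
  (acts_mem_Ce h.toCoord hg).2 (mL_vy k)

omit [Finite G] in
theorem aS' : Acts v σ (mL (K24.mk 12)) := by rw [← mL_S]; exact h.aS

omit [Finite G] in
theorem eq_one_iff {k : K24} (hg : Acts v g (mL k)) : k = 1 ↔ g ∈ J :=
  ⟨fun e => mem_J_of_acts h (by rwa [e, mL_one] at hg), fun e => acts_uniq h.toCoord hg
    (by rw [mL_one]; exact acts_J h.toCoord e)⟩

theorem mem_nr_y {s : V} (h0 : s ≠ 0) (hq : q s = 0) (h1 : g ∈ Ce (v s)) (h2 : g ∈ Ce (v vy)) :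
    g ∈ Nr J :=
  mem_nr h h0 hq (by decide) (by rintro rfl; exact absurd hq (by decide))
    (fun e => by rw [← neg_eq_iff_eq_neg.2 e] at hq; exact absurd hq (by decide)) h1 h2

theorem step0 : Ce (v vy) ⊓ Ce (v (em (1, 1, 0))) ≤ Nr J := by
  have c := h.toCoord
  have m : ∀ x, zpowers (v x) ≤ J := fun x => zpowers_le.2 (v_mem c x)
  have hJ : J ≤ Ce (v vy) ⊓ Ce (v (em (1, 1, 0))) ⊓ Nr J :=
    le_inf (le_inf (J_le_Ce c _) (J_le_Ce c _)) le_normalizer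
  refine H52.L3.le_of_diag (Z := zpowers (v vy) ⊔ zpowers (v (em (1, 1, 0))))
    (x := v (em (1, 2, 0))) (y := v (em (0, 0, 1))) ((sup_le (m _) (m _)).trans hJ)
    (fun g hg a ha => ?_) (hJ (v_mem c _)) (hJ (v_mem c _)) (v_cube c _) (v_cube c _) (v_comm c _ _)
    (fun a ha b hb e => ?_) (mt (v_eq_one c).1 (by decide)) (mt (v_eq_one c).1 (by decide))
    (fun w hw => ?_) fun e he h1 g hg h2 => ?_
  · obtain ⟨a, b, rfl⟩ := (mem_sup_v c).1 ha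
    exact (mem_Ce.1 (Ce_comb c hg.1 hg.2 a b)).symm
  · obtain ⟨a, rfl⟩ := (mem_zp_v c).1 ha
    obtain ⟨b, rfl⟩ := (mem_zp_v c).1 hb
    obtain ⟨a', b', e⟩ := (mem_sup_v c).1 e
    simp only [v_eq_one c]
    exact (by decide +kernel : ∀ a b a' b' : ZMod 3, a' • vy + b' • em (1, 1, 0) =
      a • em (1, 2, 0) + b • em (0, 0, 1) → a • em (1, 2, 0) = 0 ∧ b • em (0, 0, 1) = 0) a b a' b'
      (h.inj (e.trans (h.add _ _).symm))
  · obtain ⟨k, hk⟩ := act24 h hw.1.1 hw.2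
    obtain ⟨h1, h2, h3⟩ := (by decide +kernel : ∀ k : K24, mL k *ᵥ em (1, 1, 0) = em (1, 1, 0) →
      (mL k *ᵥ em (1, 2, 0) = em (1, 2, 0) ∨ mL k *ᵥ em (1, 2, 0) = -em (1, 2, 0)) ∧
      (mL k *ᵥ em (0, 0, 1) = em (0, 0, 1) ∨ mL k *ᵥ em (0, 0, 1) = -em (0, 0, 1)) ∧
      (mL k *ᵥ em (0, 0, 1) = em (0, 0, 1) → mL k = 1)) k ((acts_mem_Ce c hk).1 hw.1.2)
    simp only [hk _, ← v_neg c, h.inj.eq_iff]
    refine ⟨h1, h2, fun _ e => ?_⟩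
    obtain ⟨x, rfl⟩ := (h.mem w).1 (mem_J_of_acts h (h3 e ▸ hk))
    obtain ⟨a, b, a', b', rfl⟩ := (by decide +kernel : ∀ x : V, ∃ a b a' b' : ZMod 3, x =
      (a • em (1, 2, 0) + b • em (0, 0, 1)) + (a' • vy + b' • em (1, 1, 0))) x
    rw [h.add]
    exact mul_mem_sup ((mem_sup_v c).2 ⟨a, b, rfl⟩) ((mem_sup_v c).2 ⟨a', b', rfl⟩)
  · obtain ⟨a, b, rfl⟩ := (mem_sup_v c).1 he
    refine fus3 c h.wc hg.1 hg.2 (sup_le (sup_le (m _) (m _)) (sup_le (m _) (m _)) h2)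
      fun g hg => ?_
    obtain ⟨a', b', h3, h4⟩ := (by decide +kernel : ∀ a b : ZMod 3,
      a • em (1, 2, 0) + b • em (0, 0, 1) ≠ 0 → ∃ a' b' : ZMod 3,
      q ((1 : ZMod 3) • (a' • vy + b' • em (1, 1, 0)) +
        (1 : ZMod 3) • (a • em (1, 2, 0) + b • em (0, 0, 1))) = 0 ∧
      (1 : ZMod 3) • (a' • vy + b' • em (1, 1, 0)) +
        (1 : ZMod 3) • (a • em (1, 2, 0) + b • em (0, 0, 1)) ≠ 0) a b (mt (v_eq_one c).2 h1)
    exact mem_nr_y h h4 h3 (Ce_comb c (Ce_comb c hg.1.1 hg.1.2 a' b') hg.2 1 1) hg.1.1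

/-- **Step 1** -/
theorem step1 {u : V} (hu : ∀ a : ZMod 3, u ≠ a • vy) : Ce (v vy) ⊓ Ce (v u) ≤ Nr J := by
  intro g hg
  rcases (by decide +kernel : ∀ u : V, (∀ a : ZMod 3, u ≠ a • vy) → (∃ a b : ZMod 3,
    q (a • vy + b • u) = 0 ∧ a • vy + b • u ≠ 0) ∨ ∃ a < 2, ∃ b < 2, ∃ c < 3, ∃ d : ZMod 3,
      em (1, 1, 0) = d • vy + (1 : ZMod 3) •
        mL (K24.mk 1 ^ a * K24.mk 2 ^ b * K24.mk 12 ^ c) *ᵥ u) u hu with
    ⟨a, b, h1, h2⟩ | ⟨a, -, b, -, c, -, d, e⟩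
  · exact mem_nr_y h h2 h1 (Ce_comb h.toCoord hg.1 hg.2 a b) hg.1
  · have h1 := acts_word h a b c
    have h2 := conj_mem_Ce hg.1 (t ^ a * r ^ b * σ ^ c)
    have h3 := conj_mem_Ce hg.2 (t ^ a * r ^ b * σ ^ c)
    rw [h1, mL_vy] at h2
    rw [h1] at h3
    simpa [mul_assoc] using conj_mem_of_mem_normalizer'
      (le_normalizer (acts_nr h.toCoord h1)) (step0 h ⟨h2, e ▸ Ce_comb h.toCoord h2 h3 d 1⟩)

omit [Finite G] in
theorem mem_Qa (hx : Acts v x mS) (h3 : x ^ 3 = 1) : x ∈ Qa := by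
  obtain ⟨u, hu⟩ := (h.mem _).1 (inv_mul_mem_J h h.aS hx)
  rw [eq_inv_mul_iff_mul_eq] at hu
  refine hu ▸ mul_mem h.sQ (h.vQ u ((by decide +kernel : ∀ u : V,
    mS *ᵥ (u + mS *ᵥ (u + mS *ᵥ u)) = 0 → u 1 + u 2 + u 3 = 0) u ((v_eq_one h.toCoord).1 ?_)))
  rw [← h.aS, h.add, ← h.aS, h.add, ← h.aS, ← h3, ← hu, ← mul_one (_ * σ⁻¹), ← h.s3]
  simp only [pow_succ, pow_zero, one_mul, mul_assoc, inv_mul_cancel_left, inv_mul_cancel, mul_one]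

/-- a conjugating element taking `a` into `Q_a` normalises `J` -/
theorem mem_nr_of_a (hg : g ∈ Ce (v vy)) (h1 : g * v va * g⁻¹ ∈ Qa) : g ∈ Nr J :=
  h.y3 va vy (by decide) (by decide) (by decide) (by decide) (by decide) g
    (mem_Nz.2 ((h.Qcl _ h1).resolve_right fun e => y_not_conj_z h
      (((conj_a h).trans (isConj_iff.2 ⟨g, rfl⟩)).trans e.symm))) (mem_Ce.1 hg)

/-- **(F)** -/
theorem exists_c0 (hx : Acts v x mS) (h3 : x ^ 3 = 1) (hB : IsPGroup 3 B)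
    (h1 : B ≤ Ce x ⊓ Ce (v vy)) : ∃ c ∈ Ce x ⊓ Ce (v vy), H98.cj c B ≤ Qa ⊓ Nr J := by
  have c := h.toCoord
  have h2 : zpowers x ⊔ J ⊓ Ce x ≤ Qa ⊓ Nr J := sup_le (zpowers_le.2 ⟨mem_Qa h hx h3, acts_nr c hx⟩)
    fun g hg => by
      obtain ⟨u, rfl⟩ := (h.mem g).1 hg.1
      exact ⟨h.vQ u ((by decide +kernel : ∀ u : V, mS *ᵥ u = u → u 1 + u 2 + u 3 = 0) u
        ((acts_mem_Ce c hx).1 (mem_Ce.2 (mem_Ce.1 hg.2).symm))), le_normalizer hg.1⟩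
  have h4 : zpowers x ≤ Ce x := zpowers_le.2 (mem_Ce.2 rfl)
  have h5 : IsSyl 3 (zpowers x ⊔ J ⊓ Ce x) (Ce x ⊓ Ce (v vy)) := by
    refine isSyl_of_isSyl_normalizer ⟨le_inf (sup_le (le_inf h4 (zpowers_le.2
      ((acts_mem_Ce c hx).2 (by decide)))) (le_inf inf_le_right (inf_le_left.trans (J_le_Ce c _))))
      le_normalizer, (isPGroup_zpowers (k := 1) (by rwa [pow_one])).to_sup_of_normal_right'
      ((J_three c).to_le inf_le_left) (le_normalizer_inf (zpowers_le.2 (acts_nr c hx))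
      (h4.trans le_normalizer)), fun Q _ h5 h6 => le_antisymm (fun n hn => ?_) h5⟩
    obtain ⟨k, hk⟩ := act24 h (h6 hn).1.2 (mem_nr_of_a h (h6 hn).1.2 (h2
      (conj_mem_of_mem_normalizer (h6 hn).2 (mem_sup_right ⟨v_mem c _, mem_Ce.2
        (mem_Ce.1 ((acts_mem_Ce c hx).2 (by decide))).symm⟩))).1)
    rw [mL_S] at hx
    obtain ⟨i, -, rfl⟩ := (by decide +kernel : ∀ k, k * K24.mk 12 = K24.mk 12 * k →
      ∃ i < 3, k = K24.mk 12 ^ i) k (acts_uniq c (acts_mulL hk hx)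
      (by rw [mem_Ce.1 (h6 hn).1.1]; exact acts_mulL hx hk))
    simpa using mul_mem_sup (pow_mem (mem_zpowers x) i) (mem_inf.2 ⟨inv_mul_mem_J h (acts_powL hx i)
      hk, (Ce x).mul_mem ((Ce x).inv_mem ((Ce x).pow_mem (mem_Ce.2 rfl) i)) (h6 hn).1.1⟩)
  obtain ⟨g, hg, h6⟩ := h5.exists_cj_le hB h1
  exact ⟨g, hg, h6.trans h2⟩

theorem exists_c (hx : x ∈ Ce (v vy) ⊓ Nr J) (h3 : x ^ 3 = 1) (hJ : x ∉ J) (hB : IsPGroup 3 B)
    (h1 : B ≤ Ce x ⊓ Ce (v vy)) :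
    ∃ c ∈ Ce x ⊓ Ce (v vy), ∃ s ∈ Ce (v vy) ⊓ Nr J, H98.cj (s * c) B ≤ Qa ⊓ Nr J := by
  have key : ∀ x s : G, s ∈ Ce (v vy) ⊓ Nr J → Acts v (s * x * s⁻¹) mS → x ^ 3 = 1 →
      B ≤ Ce x ⊓ Ce (v vy) →
      ∃ c ∈ Ce x ⊓ Ce (v vy), ∃ s ∈ Ce (v vy) ⊓ Nr J, H98.cj (s * c) B ≤ Qa ⊓ Nr J :=
    fun x s hs hx h3 h1 => by
      obtain ⟨c, hc, h2⟩ := exists_c0 h hx (by rw [conj_pow, h3, mul_one, mul_inv_cancel])
        (isPGroup_cj s hB) (le_inf (cj_Ce s x ▸ cj_mono s (h1.trans inf_le_left))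
          (cj_le_of_le_of_mem (h1.trans inf_le_right) hs.1))
      exact ⟨s⁻¹ * c * s, ⟨mem_cj.1 (cj_Ce s x ▸ hc.1),
        mul_mem (mul_mem ((Ce _).inv_mem hs.1) hc.2) hs.1⟩, s, hs,
        by simpa [cj_cj, mul_assoc] using h2⟩
  obtain ⟨k, hk⟩ := act24 h hx.1 hx.2
  obtain ⟨a, -, b, -, e⟩ := ((by decide +kernel : ∀ k : K24, k ^ 3 = 1 → k = 1 ∨ ∃ a < 2, ∃ b < 2,
    mL (K24.mk 1 ^ a * K24.mk 2 ^ b * K24.mk 12 ^ 0) * mL k *
      mL (K24.mk 1 ^ a * K24.mk 2 ^ b * K24.mk 12 ^ 0)⁻¹ = mS ∨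
    mL (K24.mk 1 ^ a * K24.mk 2 ^ b * K24.mk 12 ^ 0) * mL k⁻¹ *
      mL (K24.mk 1 ^ a * K24.mk 2 ^ b * K24.mk 12 ^ 0)⁻¹ = mS) k
    ((eq_one_iff h (acts_powL hk 3)).2 (h3 ▸ J.one_mem))).resolve_left
    fun e => hJ ((eq_one_iff h hk).1 e)
  have h2 := acts_word h a b 0
  have h4 : _ ∈ Ce (v vy) ⊓ Nr J := ⟨acts_Ce h h2, acts_nr h.toCoord h2⟩
  rcases e with e | e
  · exact key x _ h4 (e ▸ acts_mul (acts_mul h2 hk) (acts_inv' h2)) h3 h1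
  · have h5 : Ce x⁻¹ = Ce x := Subgroup.ext fun _ => mem_Ce.trans
      (Commute.inv_right_iff.trans mem_Ce.symm)
    exact h5 ▸ key x⁻¹ _ h4 (e ▸ acts_mul (acts_mul h2 (acts_inv' hk)) (acts_inv' h2))
      (by rw [inv_pow, h3, inv_one]) (h5 ▸ h1)

/-- **Step 2** -/
theorem step2 (hg : g ∈ Ce (v vy)) (hx : x ∈ J) (h1 : g * x * g⁻¹ ∈ Nr J) : g * x * g⁻¹ ∈ J := by
  by_contra e
  have h2 : H98.cj g J ≤ Ce (v vy) := cj_le_of_le_of_mem (J_le_Ce h.toCoord _) hg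
  obtain ⟨c, hc, s, hs, h3⟩ := exists_c h ⟨h2 (conj_mem_cj hx), h1⟩
    (by rw [conj_pow, J_cube h.toCoord hx, mul_one, mul_inv_cancel]) e
    (isPGroup_cj g (J_three h.toCoord)) (le_inf (cj_Ce g x ▸ cj_mono g fun a ha =>
      mem_Ce.2 (J_le_cn h.toCoord hx a ha)) h2)
  have h4 := ((Nr J).mul_mem_cancel_left hs.2).1 (mul_assoc s c g ▸ wc h.toCoord h.wc
    (cj_cj _ g J ▸ h3.trans inf_le_right))
  refine e (mem_Ce'.1 hc.1 ▸ ?_)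
  simpa [mul_assoc] using conj_mem_of_mem_normalizer h4 hx

theorem ti {u : V} (hu : ∀ a : ZMod 3, u ≠ a • vy) (hg : g ∈ Ce (v vy))
    (h1 : g * v u * g⁻¹ ∈ Nr J) : g ∈ Nr J :=
  fus3 h.toCoord h.wc hg hg (step2 h hg (v_mem h.toCoord u) h1)
    (by rw [inf_idem]; exact step1 h hu)

theorem fus_s (hg : g ∈ Ce (v vy)) (h1 : g * σ * g⁻¹ ∈ Nr J) :
    ∃ n ∈ Ce (v vy) ⊓ Nr J, g * σ * g⁻¹ = n * σ * n⁻¹ := by
  have hs := acts_Ce h (aS' h)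
  obtain ⟨c, hc, s, hs', h3⟩ := exists_c h (B := zpowers (g * v va * g⁻¹))
    (mem_inf.2 ⟨mul_mem (mul_mem hg hs) (inv_mem hg), h1⟩) (by rw [conj_pow, h.s3, mul_one, mul_inv_cancel])
    (fun e => absurd ((eq_one_iff h (aS' h)).2 (by
      simpa [mul_assoc] using step2 h (inv_mem hg) e (by
        simpa [mul_assoc] using acts_nr h.toCoord h.aS))) (by decide))
    (isPGroup_zpowers (k := 1) (by
      rw [pow_one, conj_pow, v_cube h.toCoord, mul_one, mul_inv_cancel]))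
    (zpowers_le.2 (mem_inf.2 ⟨conj_mem_Ce (mem_Ce.2 (mem_Ce.1 ((acts_mem_Ce h.toCoord h.aS).2
      (by decide))).symm) g, mul_mem (mul_mem hg (J_le_Ce h.toCoord _ (v_mem h.toCoord _)))
        (inv_mem hg)⟩))
  have h4 := mem_nr_of_a h (mul_mem hs'.1 (mul_mem hc.2 hg)) (by
    simpa [mul_assoc] using (h3 (conj_mem_cj (mem_zpowers _))).1)
  exact ⟨c * g, ⟨mul_mem hc.2 hg, ((Nr J).mul_mem_cancel_left hs'.2).1 h4⟩, by
    rw [← mem_Ce'.1 hc.1]; group⟩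

end Loc

end H42.MC
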