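import Cfsg.Agent.H23.NDSpec

/-! ND-Q: the passage to `G / L`. -/

set_option autoImplicit false
open Cfsg H28 H32 H44 H93.DG H55.Nd MulAction H23.ND

namespace H42.NDQ

universe u

theorem cdf {Q : Type u} [Group Q] [Finite Q] (N : Subgroup Q) [hN : N.Normal] {h x : Q} (hx : x ∈ N)
    (hc : h * x * h⁻¹ * x⁻¹ ∉ ⁅N, N⁆) : ∃ c ∈ charDegrees Q, c ≠ 1 ∧ c ∣ N.index := by
  cases nonempty_fintype N
  have hm : h * x * h⁻¹ * x⁻¹ ∈ N := mul_mem (hN.conj_mem x hx h) (inv_mem hx)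
  obtain ⟨l, hl⟩ : ∃ l : Lin N, l.hom ⟨_, hm⟩ ≠ 1 := by
    by_contra k
    push Not at k
    exact hc (mem_of_forall_lin hm k)
  obtain ⟨c, hd⟩ := exists_dg (isIrr_ch l)
  refine ⟨c, hd.mem_cd, fun e => hl ?_, ?_⟩
  · have h1 := hd.dvd_ch
    rw [e, Nat.dvd_one, Subgroup.index_eq_one] at h1
    have h2 : h⁻¹ • l = l := mem_stabilizer_iff.1 (h1 ▸ Subgroup.mem_top h⁻¹)
    have h3 : l.hom ⟨h * x * h⁻¹, hN.conj_mem x hx h⟩ = l.hom ⟨x, hx⟩ := by
      conv_rhs => rw [← h2]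
      change _ = cjh h⁻¹⁻¹ l.hom ⟨x, hx⟩
      rw [inv_inv, cjh_apply]
    have h4 : (⟨_, hm⟩ : N) = ⟨h * x * h⁻¹, hN.conj_mem x hx h⟩ * (⟨x, hx⟩ : N)⁻¹ := rfl
    rw [h4, map_mul, map_inv, h3, mul_inv_cancel]
  · obtain ⟨χ, hχ, hc, rfl⟩ := hd
    obtain ⟨k, hk, e⟩ := exists_degree_mul hχ (isIrr_ch l) hc
    rwa [e, charDegree_ch, mul_one]

theorem jobQ : JobQ.{u} := by
  intro G _ _ p k N L hN hL h b hLN hk ⟨x, hx, hc⟩
  have hs := QuotientGroup.mk'_surjective L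
  have : (N.map (QuotientGroup.mk' L)).Normal := hN.map _ hs
  have hker : (QuotientGroup.mk' L).ker ≤ N := by rwa [QuotientGroup.ker_mk']
  have ix : (N.map (QuotientGroup.mk' L)).index = N.index := Subgroup.index_map_eq N hs hker
  have hcard : Nat.card (N.map (QuotientGroup.mk' L)) = p ^ k := by
    rw [← hk, ← Subgroup.relIndex_ker, QuotientGroup.ker_mk']
  obtain ⟨j, m, hm, e⟩ := split (QuotientGroup.mk' L h) b.hp
  have nd : ND (G ⧸ L) := fun a ha c hc => b.nd a (cd_quot L ha) c (cd_quot L hc)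
  have hco : (p ^ j).Coprime N.index :=
    Nat.Coprime.pow_left j ((Nat.Prime.coprime_iff_not_dvd b.hp).2 b.np)
  refine ⟨QuotientGroup.mk' L h ^ p ^ j, ⟨b.hp, nd, ?_, ix ▸ b.np, ix ▸ b.one, ?_, fun d hd => ?_⟩,
    IsPGroup.of_card hcard, ?_⟩
  · have h1 : h ∈ N ⊔ Subgroup.zpowers (h ^ p ^ j) := by
      obtain ⟨a, ha⟩ : ∃ a : ℕ, p ^ j * a ≡ 1 [MOD N.index] := by
        obtain ⟨a, -, ha⟩ := Nat.exists_mul_mod_eq_one_of_coprime hco b.one
        exact ⟨a, by unfold Nat.ModEq; rw [ha, Nat.mod_eq_of_lt b.one]⟩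
      have h2 : (h : G ⧸ N) ^ (p ^ j * a) = (h : G ⧸ N) ^ 1 :=
        pow_eq_pow_of_modEq ha pow_card_eq_one'
      rw [pow_one, ← QuotientGroup.mk_pow, eq_comm, QuotientGroup.eq] at h2
      have h3 : h = (h ^ p ^ j) ^ a * (h⁻¹ * h ^ (p ^ j * a))⁻¹ := by
        rw [← pow_mul]; group
      rw [h3]
      nth_rewrite 1 [← h3]
      exact mul_mem (Subgroup.mem_sup_right (Subgroup.npow_mem_zpowers _ _))
        (Subgroup.mem_sup_left (inv_mem h2))
    have h2 : N ⊔ Subgroup.zpowers (h ^ p ^ j) = ⊤ := by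
      rw [eq_top_iff, ← b.gen]
      exact sup_le le_sup_left (Subgroup.zpowers_le.2 h1)
    rw [← map_pow, ← MonoidHom.map_zpowers, ← Subgroup.map_sup, h2, ← MonoidHom.range_eq_map,
      MonoidHom.range_eq_top.2 hs]
  · obtain ⟨c, c1, c2, c3⟩ := cdf (N.map (QuotientGroup.mk' L)) (h := QuotientGroup.mk' L h)
      (Subgroup.mem_map_of_mem _ hx) fun k => hc (by
        rw [← Subgroup.map_commutator, ← map_inv, ← map_inv, ← map_mul, ← map_mul, ← map_mul,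
          ← Subgroup.mem_comap, Subgroup.comap_map_eq, QuotientGroup.ker_mk'] at k
        exact k)
    rw [ix] at c3 ⊢
    rw [← b.nd.eq (cd_quot L c1) b.cdf c2 c3]
    exact c1
  · exact b.dv d (cd_surj _ ((QuotientGroup.mk' L).subgroupMap_surjective N) hd)
  · exact Nat.Coprime.coprime_dvd_left (orderOf_dvd_of_pow_eq_one (by rw [← pow_mul, e])) hm.symm

end H42.NDQ
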