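import Cfsg.Agent.H42.G2K
import Cfsg.Agent.H54.P4Ab
import Cfsg.Agent.H59.P4A

/-! Blueprint `LOCAL3C.md`, section 3.12: the abstract part of job T3. -/

set_option autoImplicit false
set_option linter.unusedSectionVars false

namespace H42.P4

open Cfsg Subgroup H14 H98 H56.L3 H42.L3 H42.G23 H47.P4C H54.P4Ab H59.P4

universe u v

theorem exists_equiv {A B C : Type*} [Group A] [Group B] [Group C] {π : A →* B} {ρ : A →* C}
    (h1 : Function.Surjective π) (h2 : Function.Surjective ρ) (h : π.ker = ρ.ker) :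
    ∃ σ : B ≃* C, ∀ a, σ (π a) = ρ a := by
  refine ⟨(QuotientGroup.quotientKerEquivOfSurjective π h1).symm.trans
    ((QuotientGroup.quotientMulEquivOfEq h).trans
      (QuotientGroup.quotientKerEquivOfSurjective ρ h2)), fun a => ?_⟩
  rw [MulEquiv.trans_apply, (MulEquiv.symm_apply_eq _).2
    (show π a = QuotientGroup.quotientKerEquivOfSurjective π h1 a from rfl)]
  rfl

variable {F : Type v} [Field F] [Fintype F]

/-- elements of order `3` of `PSL₂(3^m)`, `m` odd, are conjugate up to inversion -/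
theorem pc (hF : Fld F) {a b : PSL2 F} (ha : a ^ 3 = 1) (ha1 : a ≠ 1) (hb : b ^ 3 = 1)
    (hb1 : b ≠ 1) : ∃ g, g * a * g⁻¹ = b ∨ g * a * g⁻¹ = b⁻¹ := by
  let f : SL2 F →* PSL2 F := QuotientGroup.mk' _
  have h0 : ∀ A, f A = 1 ↔ pm A := fun A => (QuotientGroup.eq_one_iff A).trans H61.sl_mem_center_iff
  have h1 : ∀ A, f (-A) = f A := fun A => by
    rw [← neg_one_mul, map_mul, (h0 _).2 (.inr rfl), one_mul]
  obtain ⟨D, hD⟩ := exists_syl (pgrp (U_cube f hF)) (by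
    rw [card_U f fun s e => ((h0 _).1 e).ap]
    exact (gt3 hF).trans' (by decide)) (by
      rintro _ ⟨s, rfl⟩ hs g hg - -
      obtain ⟨B, rfl⟩ := QuotientGroup.mk'_surjective _ g
      have h2 : s ≠ 0 := fun e => hs (by rw [e, uM_zero, map_one])
      obtain e | e := (h0 (B * uM s * B⁻¹ * (uM s)⁻¹)).1 (by
        rw [map_mul, map_mul, map_mul, map_inv, map_inv, mul_inv_eq_one]
        exact mem_Ce'.1 hg)
      · obtain ⟨r, rfl | rfl⟩ := cen_u h2 (mul_inv_eq_iff_eq_mul.1 (mul_inv_eq_one.1 e))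
        exacts [⟨r, rfl⟩, ⟨r, h1 _⟩]
      · have := congrArg (· ^ 3) (mul_inv_eq_iff_eq_mul.1 e)
        simp only [conj_pow, uM_cube hF, mul_one, mul_inv_cancel, neg_one_mul] at this
        rw [Odd.neg_pow (by decide), uM_cube hF] at this
        exact absurd this (one_ne_neg (H54.P4Ab.two_ne hF)))
  have key : ∀ c : PSL2 F, c ^ 3 = 1 → c ≠ 1 → ∃ g s, s ≠ 0 ∧ g * c * g⁻¹ = f (uM s) :=
    fun c hc hc1 => by
      obtain ⟨g, -, e⟩ := (isSyl_sylow D).exists_cj_le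
        (isPGroup_zpowers (k := 1) (by rw [pow_one, hc])) le_top
      obtain ⟨s, hs⟩ := hD.le (e (conj_mem_cj (mem_zpowers c)))
      exact ⟨g, s, fun e => hc1 (conj_eq_one_iff.1 (by rw [hs, e, uM_zero, map_one])), hs⟩
  obtain ⟨g, s, hs, e⟩ := key a ha ha1
  obtain ⟨k, r, hr, e'⟩ := key b hb hb1
  obtain ⟨l, hl⟩ := sq_or hF (div_ne_zero hr hs)
  have h2 : k⁻¹ * f (dM l) * g * a * (k⁻¹ * f (dM l) * g)⁻¹ = k⁻¹ * f (uM (l ^ 2 * s)) * k := by
    rw [← dM_uM, map_mul, map_mul, map_inv, ← e]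
    group
  refine ⟨_, hl.imp (fun e => h2.trans ?_) fun e => h2.trans ?_⟩
  · rw [← e, div_mul_cancel₀ _ hs, ← e']
    group
  · rw [← neg_eq_iff_eq_neg.2 e, neg_mul, div_mul_cancel₀ _ hs, ← uM_inv, map_inv, ← e']
    group

variable {Y : Type u} [Group Y] [Finite Y]

theorem pc' (hF : Fld F) {E : Subgroup Y} (e : E ≃* PSL2 F) {a b : Y} (h1 : a ∈ E) (h2 : b ∈ E)
    (ha : a ^ 3 = 1) (ha1 : a ≠ 1) (hb : b ^ 3 = 1) (hb1 : b ≠ 1) :
    ∃ g ∈ E, g * a * g⁻¹ = b ∨ g * a * g⁻¹ = b⁻¹ := by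
  have k1 : ∀ c (h : c ∈ E), c ^ 3 = 1 → e ⟨c, h⟩ ^ 3 = 1 := fun c h e' => by
    rw [← map_pow, ← e.map_one]
    exact congrArg _ (Subtype.ext e')
  have k2 : ∀ c (h : c ∈ E), c ≠ 1 → e ⟨c, h⟩ ≠ 1 := fun c h e' h3 =>
    e' (congrArg Subtype.val (e.map_eq_one_iff.1 h3))
  obtain ⟨g, hg⟩ := pc hF (k1 a h1 ha) (k2 a h1 ha1) (k1 b h2 hb) (k2 b h2 hb1)
  obtain ⟨g, rfl⟩ := e.surjective g
  simp only [← map_inv, ← map_mul, e.apply_eq_iff_eq] at hg
  exact ⟨g, g.2, hg.imp (congrArg Subtype.val) (congrArg Subtype.val)⟩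

theorem not_comm (hF : Fld F) {E : Subgroup Y} (e : E ≃* PSL2 F) : ¬E ≤ cn E := fun h => by
  have : Group.IsSolvable E := Group.isSolvable_of_comm fun a b => Subtype.ext (h b.2 a a.2)
  exact not_solv hF (Group.isSolvable_of_surjective (f := e.toMonoidHom) e.surjective)

theorem core (ab : JobAb3.{u}) (hF : Fld F) (D : Sylow 3 Y) {Z R K : Subgroup Y} {x : Y}
    (hc : (D : Subgroup Y) ≤ cn D) (h3 : ∀ d ∈ (D : Subgroup Y), d ^ 3 = 1)
    (hv : ∀ g ∈ Nr (D : Subgroup Y), ∀ d ∈ (D : Subgroup Y), g * d * g⁻¹ = d⁻¹ → d = 1)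
    (hO : ∀ N : Subgroup Y, N.Normal → (Nat.card N).Coprime 3 → N = ⊥) (hZ : Z ≤ D) (hR : R ≤ D)
    (hZR : ∀ z ∈ Z, z ∈ R → z = 1) (hd : ∀ d ∈ (D : Subgroup Y), ∃ z ∈ Z, ∃ r ∈ R, d = z * r)
    (cZ : Nat.card Z = Fintype.card F) (cD : Nat.card (D : Subgroup Y) = Fintype.card F ^ 2)
    (hcen : ∀ d ∈ (D : Subgroup Y), d ∉ R → Ce d ≤ D) (hx : x ≠ 1) (hx3 : x ^ 3 = 1)
    (hxc : ∀ g, g * x = x * g) (sc : ∀ g, ∀ z ∈ Z, g * z * g⁻¹ ∈ (D : Subgroup Y) → g * z * g⁻¹ ∈ Z)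
    (hK : Z ≤ K) (e : K ≃* PSL2 F) (hn : ¬(D : Subgroup Y).Normal) :
    R ≤ cn K ∧ ∀ g, ∃ r ∈ R, ∃ k ∈ K, g = r * k := by
  have hq := gt3 hF
  have h1 : 1 < Nat.card (pCore 3 Y) := by
    have : (zpowers x).Normal := ⟨fun n hn g => by
      obtain ⟨k, rfl⟩ := hn
      rw [(Commute.zpow_right (hxc g) k).eq, mul_inv_cancel_right]
      exact zpow_mem_zpowers x k⟩
    exact (one_lt_card_iff_ne_bot _).2 fun e => hx (mem_bot.1 (e.le
      (H2.le_pCore (isPGroup_zpowers (k := 1) (by rw [pow_one, hx3])) (mem_zpowers x))))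
  obtain ⟨E, K', _, _, hK', hE, ⟨e'⟩, h2, h4, h5⟩ := (ab Y D Z (fun a ha b hb => hc hb a ha) hv hO hZ
    (fun z hz h1 => Group.isSolvable_of_comm fun a b => Subtype.ext
      (hc (hcen z (hZ hz) (mt (hZR z hz) h1) b.2) _ (hcen z (hZ hz) (mt (hZR z hz) h1) a.2)))
    (by rw [cD, cZ]; nlinarith [pow_pos (three_pos.trans hq) 2])).resolve_left hn
  have h6 : pCore 3 Y ≤ D := le_sup_right.trans h2.ge
  have h7 : pCore 3 Y ≤ R := fun o ho => by_contra fun h => not_comm hK' e' (by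
    have : E ≤ D := fun g hg => hcen o (h6 ho) h (mem_Ce.2 (h4 hg o ho).symm)
    exact this.trans (hc.trans (centralizer_anti this)))
  obtain ⟨z, hz, hz1⟩ := (Z.nontrivial_iff_exists_ne_one).1
    (Finite.one_lt_card_iff_nontrivial.1 (by omega))
  have := Matrix.ProjectiveSpecialLinearGroup.rank_two_simple' (big hF).2
  have := e.isSimpleGroup
  have h8 : K ≤ E ⊔ pCore 3 Y := subgroupOf_eq_top.1
    ((Normal.eq_bot_or_eq_top inferInstance).resolve_left fun h => hz1 (congrArg Subtype.val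
      (mem_bot.1 (h.le (show (⟨z, hK hz⟩ : K) ∈ (E ⊔ pCore 3 Y).subgroupOf K from
        (h2.le.trans (sup_le_sup_right inf_le_right _)) (hZ hz))))))
  have h9 : K ≤ E := subgroupOf_eq_top.1
    ((Normal.eq_bot_or_eq_top inferInstance).resolve_left fun h => not_comm hF e fun a ha b hb => by
      refine mul_inv_eq_one.1 (congrArg Subtype.val (mem_bot.1 (h.le
        (show (⟨b * a * (a * b)⁻¹, mul_mem (mul_mem hb ha) (inv_mem (mul_mem ha hb))⟩ : K) ∈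
          E.subgroupOf K from (QuotientGroup.eq_one_iff (b * a * (a * b)⁻¹)).1 ?_))))
      obtain ⟨a', ha', o, ho, rfl⟩ := mem_sup_of_normal_left.1 (h8 ha)
      obtain ⟨b', hb', o', ho', rfl⟩ := mem_sup_of_normal_left.1 (h8 hb)
      simp only [QuotientGroup.mk_mul, QuotientGroup.mk_inv, (QuotientGroup.eq_one_iff _).2 ha',
        (QuotientGroup.eq_one_iff _).2 hb', one_mul]
      rw [← QuotientGroup.mk_mul, hc (h6 ho) _ (h6 ho'), QuotientGroup.mk_mul, mul_inv_cancel])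
  have h10 : (D : Subgroup Y) ⊓ E = Z := by
    refine le_antisymm (fun d hd' => ?_) (le_inf hZ (hK.trans h9))
    obtain ⟨y, hy, r, hr, rfl⟩ := hd d hd'.1
    by_cases h : r = 1
    · simpa [h] using hy
    obtain ⟨g, -, e | e⟩ := pc' hK' e' (h9 (hK hz)) ((mul_mem_cancel_left (h9 (hK hy))).1 hd'.2)
      (h3 z (hZ hz)) hz1 (h3 r (hR hr)) h
    · exact absurd (hZR r (e ▸ sc g z hz (e ▸ hR hr)) hr) h
    · exact absurd (hZR r (inv_mem_iff.1 (e ▸ sc g z hz (e ▸ inv_mem (hR hr)))) hr) h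
  rw [h10] at h2 h5
  obtain rfl : K = E := eq_of_le_of_card_ge h9 (Nat.card_congr ((e'.trans (H55.pslCongr
    (FiniteField.ringEquivOfCardEq (h5.symm.trans cZ)))).trans e.symm).toEquiv).le
  have h11 : R ≤ cn K := fun r hr => by
    obtain ⟨y, hy, o, ho, rfl⟩ := mem_sup_of_normal_right.1 (h2.le (hR hr))
    rw [hZR y hy ((mul_mem_cancel_right (h7 ho)).1 hr), one_mul]
    exact fun k hk => (h4 hk o ho).symm
  refine ⟨h11, fun g => ?_⟩
  obtain ⟨k, hk, e | e⟩ := pc' hF e (hE.conj_mem z (hK hz) g) (hK hz)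
    (by rw [conj_pow, h3 z (hZ hz)]; group) (by simpa using hz1) (h3 z (hZ hz)) hz1
  · obtain ⟨y, hy, r, hr, e'⟩ := hd (k * g) (hcen z (hZ hz) (mt (hZR z hz) hz1)
      (mem_Ce'.2 (Eq.trans (by group) e)))
    exact ⟨r, hr, _, mul_mem (inv_mem hk) (hK hy),
      by rw [← h11 hr _ (mul_mem (inv_mem hk) (hK hy)), mul_assoc, ← e', inv_mul_cancel_left]⟩
  · have e' : k * g * z * (k * g)⁻¹ = z⁻¹ := Eq.trans (by group) e
    obtain ⟨n, hn, h⟩ := exists_nor_conj (isSyl_sylow D) hc (hZ hz) (mem_top (k * g))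
      (e' ▸ inv_mem (hZ hz))
    refine absurd (hv n hn.2 z (hZ hz) ?_) hz1
    rw [← e']
    nth_rewrite 1 [← mem_Ce'.1 h]
    group

end H42.P4
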