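import Cfsg.Agent.H42.P4K
import Cfsg.Agent.H36.L3CB

/-! Blueprint `LOCAL3C.md`, sections 3.11 and 3.12: the jobs T2 and T3. -/

set_option autoImplicit false
set_option linter.unusedSectionVars false

namespace H42.P4

open Cfsg Subgroup H14 H98 H56.L3 H42.L3 H42.G23 H47.P4C H59.P4
open H36.L3C (inj_ι ι_z zι_pow C_z ι_t eq_of_eq)
open H54.P4Ab (gt3 pgrp exists_syl ce_map card_map noinv_map injU)

universe u v

variable {G : Type u} [Group G] [Finite G] {F : Type v} [Field F] [Fintype F]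
  {h : F → F → F → G} {ι : SL2 F →* G} {κ : Cen h ι} {g d s z : G} {H : Subgroup G} {A : SL2 F}

local notation "𝐭" => ι (-1)
local notation "𝐱" => ι (uM 1)

theorem eq_one_of {k : ℕ} (h1 : g ^ 3 = 1) (h2 : g ^ 2 ^ k = 1) : g = 1 :=
  mem_bot.1 (mem_of_cube (not_dvd_of_two h2) (mem_bot.2 h1))

theorem tt : 𝐭 * 𝐭 = 1 := by rw [← map_mul, neg_mul_neg, one_mul, map_one]

theorem t_ne (κ : Cen h ι) (h3 : (3 : F) = 0) : 𝐭 ≠ 1 := fun e =>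
  one_ne_neg (two_ne h3) (inj_ι κ (e.trans ι.map_one.symm)).symm

theorem cen3 (κ : Cen h ι) (h3 : (3 : F) = 0) (h1 : d ^ 3 = 1) (h2 : d ∈ Ce 𝐭)
    (e : d * g * d⁻¹ * g⁻¹ ∈ zpowers 𝐭) : d * g = g * d := by
  obtain e | e := (mem_zp tt).1 e
  · exact mul_inv_eq_iff_eq_mul.1 (mul_inv_eq_one.1 e)
  · have e1 := mul_inv_eq_iff_eq_mul.1 e
    have e2 : d * (𝐭 * g) * d⁻¹ = g := by
      rw [← conj_mul, mem_Ce'.1 h2, e1, ← mul_assoc, tt, one_mul]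
    refine absurd (mul_right_cancel (b := g) ?_) (t_ne κ h3)
    calc _ = d * (d * (d * g * d⁻¹) * d⁻¹) * d⁻¹ := by rw [e1, e2, e1]
      _ = d ^ 3 * g * (d ^ 3)⁻¹ := by rw [pow_three]; group
      _ = _ := by rw [h1, inv_one, mul_one]

theorem ι_C (κ : Cen h ι) (A : SL2 F) : ι A ∈ κ.C := ⟨0, 0, 0, A, by rw [κ.one, one_mul]⟩

theorem C_le (κ : Cen h ι) : κ.C ≤ Nr κ.Z :=
  le_normalizer_of_le_centralizer fun _ hg _ hz => (C_z κ hg hz).symm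

theorem D_le (κ : Cen h ι) : κ.D ≤ κ.C := fun _ ⟨c, s, e⟩ => ⟨0, 0, c, uM s, e⟩

theorem Z_le (κ : Cen h ι) : κ.Z ≤ κ.D := fun _ ⟨c, e⟩ => ⟨c, 0, by rw [e, uM_zero, map_one, mul_one]⟩

theorem R_le (κ : Cen h ι) : Uψ ι ≤ κ.D := fun _ ⟨s, e⟩ => ⟨0, s, by rw [e, κ.one, one_mul]⟩

theorem Z_ι (κ : Cen h ι) (A : SL2 F) : κ.Z ≤ Ce (ι A) := fun _ hz => mem_Ce.2 (C_z κ (ι_C κ A) hz).symm

theorem D_cube (κ : Cen h ι) (h3 : (3 : F) = 0) (hd : d ∈ κ.D) : d ^ 3 = 1 := by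
  obtain ⟨c, s, rfl⟩ := hd
  rw [zι_pow κ, u_cube h3, map_one, Nat.cast_ofNat, h3, zero_mul, κ.one, one_mul]

theorem D_ι (κ : Cen h ι) (r : F) : κ.D ≤ Ce (ι (uM r)) := by
  rintro _ ⟨c, s, rfl⟩
  exact mul_mem (Z_ι κ _ ⟨c, rfl⟩)
    (mem_Ce.2 (by rw [← map_mul, ← map_mul, uM_mul, uM_mul, add_comm]))

theorem D_comm (κ : Cen h ι) : κ.D ≤ cn κ.D := by
  rintro d hd _ ⟨c, s, rfl⟩
  exact mem_Ce.1 (mul_mem (mem_Ce.2 (C_z κ (D_le κ hd) ⟨c, rfl⟩).symm)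
    (mem_Ce.2 (mem_Ce.1 (D_ι κ s hd)).symm))

theorem mem_Ce_z (κ : Cen h ι) (hz : z ∈ κ.Z) (h1 : z ≠ 1) (hg : g ∈ Ce z) : g ∈ κ.C := by
  obtain ⟨c, rfl⟩ := hz
  exact (κ.cen c (fun e => h1 (by rw [e, κ.one])) g).1 hg

theorem sc' (tc : TC κ) (hz : z ∈ κ.Z) (h1 : z ≠ 1) (e : g * z * g⁻¹ ∈ κ.C) : g ∈ Nr κ.Z := by
  obtain ⟨c, rfl⟩ := hz
  exact tc.sc g c (fun e => h1 (by rw [e, κ.one])) e

theorem comm_of (κ : Cen h ι) {c : F} {B : SL2 F} (e : h 0 0 c * ι B ∈ Ce (ι A)) : B * A = A * B :=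
  inj_ι κ (by
    rw [map_mul, map_mul]
    exact mem_Ce.1 ((mul_mem_cancel_left (Z_ι κ A ⟨c, rfl⟩)).1 e))

theorem exists_z (κ : Cen h ι) : ∃ z ∈ κ.Z, z ≠ 1 :=
  ⟨_, ⟨1, rfl⟩, fun e => one_ne_zero (κ.inj 0 0 1 1 (by rw [e, map_one, one_mul])).2.2.1⟩

variable (h3 : (3 : F) = 0)

local notation "𝐊" => Ce (ι wM) ⊓ Ce (ι (jM h3))

theorem K_ι (hA : A ∈ closure {wM, jM h3}) : 𝐊 ≤ Ce (ι A) := fun g hg =>
  mem_Ce.2 (mem_Ce.1 ((closure_le ((Ce g).comap ι)).2 (by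
    rintro _ (rfl | rfl)
    exacts [mem_Ce.2 (mem_Ce.1 hg.1).symm, mem_Ce.2 (mem_Ce.1 hg.2).symm]) hA)).symm

theorem K_t : 𝐊 ≤ Ce 𝐭 :=
  K_ι h3 (w_sq (F := F) ▸ mul_mem (subset_closure (by simp)) (subset_closure (by simp)))

theorem Z_K (κ : Cen h ι) : κ.Z ≤ 𝐊 := le_inf (Z_ι κ _) (Z_ι κ _)

theorem x_nr : 𝐱 ∈ nr 𝐊 := by
  have j : jM h3 0 0 = 1 ∧ jM h3 0 1 = 1 ∧ jM h3 1 0 = 1 ∧ jM h3 1 1 = -1 := ⟨rfl, rfl, rfl, rfl⟩
  have key : ∀ A B, A ∈ closure {wM, jM h3} → uM 1 * A = B * uM 1 → ∀ k ∈ 𝐊,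
      𝐱 * k * 𝐱⁻¹ ∈ Ce (ι B) := fun A B hA e k hk => by
    have := conj_mem_Ce (K_ι h3 hA hk) 𝐱
    rwa [← map_mul, e, map_mul, mul_inv_cancel_right] at this
  refine mem_normalizer_of_cj_le ?_
  rintro _ ⟨k, hk, rfl⟩
  refine ⟨key (wM * jM h3) _ (mul_mem (subset_closure (by simp)) (subset_closure (by simp))) ?_ k hk,
    key wM⁻¹ _ (inv_mem (subset_closure (by simp))) ?_ k hk⟩ <;>
  refine ext2 ?_ ?_ ?_ ?_ <;> simp only [w_inv, mul_ap, w_ap, neg_ap, u_ap, j] <;>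
    first | ring1 | linear_combination h3 | linear_combination -h3

variable (l : Loc κ 3)
include h3 l

theorem D_t : κ.D ≤ Ce 𝐭 := l.Pt.ge.trans inf_le_right

theorem ck (hg : g ∈ 𝐊) (hC : g ∈ κ.C) : g ∈ κ.Z ∨ g * 𝐭 ∈ κ.Z := by
  obtain ⟨c, B, rfl⟩ := l.ct g ⟨hC, K_t h3 hg⟩
  have j : jM h3 0 0 = 1 ∧ jM h3 0 1 = 1 ∧ jM h3 1 0 = 1 ∧ jM h3 1 1 = -1 := ⟨rfl, rfl, rfl, rfl⟩
  obtain ⟨h1, h2⟩ := comm_w (comm_of κ hg.1)
  have h4 := (ent (comm_of κ hg.2)).1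
  simp only [mul_ap, j] at h4
  have h5 : B 0 1 = 0 := by linear_combination -h4 - h1 + B 0 1 * h3
  obtain rfl | rfl := pm_of h5 (by rw [h1, h5, neg_zero]) h2.symm
  exacts [.inl ⟨c, by rw [map_one, mul_one]⟩, .inr ⟨c, by rw [mul_assoc, tt, mul_one]⟩]

theorem cx (hg : g ∈ Ce 𝐭 ⊓ Ce 𝐱) (hC : g ∈ κ.C) : g ∈ κ.D ∨ g * 𝐭 ∈ κ.D := by
  obtain ⟨c, B, rfl⟩ := l.ct g ⟨hC, hg.1⟩
  obtain ⟨r, rfl | rfl⟩ := cen_u one_ne_zero (comm_of κ hg.2)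
  exacts [.inl ⟨c, r, rfl⟩, .inr ⟨c, r, by rw [mul_assoc, ← map_mul, neg_mul_neg, mul_one]⟩]

theorem mem_C (hF : Fld F) (hs : s ∈ Nr κ.Z) (e : s ^ 3 = 1) : s ∈ κ.C := by
  have := normal_subgroupOf_of_le_normalizer l.nC
  obtain ⟨m, -, hm, hq⟩ := hF
  obtain ⟨k, hk⟩ := exists_pow_eq_self_of_coprime (x := s) (n := κ.C.relIndex (Nr κ.Z))
    (Nat.Coprime.coprime_dvd_right (orderOf_dvd_of_pow_eq_one e) (Nat.Coprime.coprime_dvd_left l.dvd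
      (Nat.Coprime.coprime_dvd_right (hq ▸ dvd_pow_self 3 (by omega))
        ((Nat.coprime_self_sub_left Fintype.card_pos).2 (Nat.coprime_one_left _)))))
  exact hk ▸ pow_mem (pow_index_mem (κ.C.subgroupOf (Nr κ.Z)) ⟨s, hs⟩) k

variable (tc : TC κ)
include tc

theorem eq_t (hs : s ∈ Nr κ.Z ⊓ Ce 𝐭) (e : g * 𝐭 * g⁻¹ = s) : s = 𝐭 := by
  obtain ⟨c, B, rfl⟩ := l.ct s ⟨tc.nc s hs.1 (isConj_iff.2 ⟨g, e⟩), hs.2⟩
  have h1 : (h 0 0 c * ι B) ^ 2 = 1 := by rw [← e, conj_pow, sq, tt, mul_one, mul_inv_cancel]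
  rw [zι_pow κ] at h1
  obtain ⟨-, -, h2, h4⟩ := κ.inj _ _ _ _ h1
  obtain rfl : c = 0 := by linear_combination -h2 + c * h3
  rw [κ.one, one_mul] at e ⊢
  obtain rfl | rfl := pm_of_sq (two_ne h3) ((sq B).symm.trans h4)
  · exact absurd (conj_eq_one_iff.1 (e.trans ι.map_one)) (t_ne κ h3)
  · rfl

theorem star (hA : A * A = -1 ∨ A = uM 1) (h1 : H ≤ Ce (ι A)) (h2 : H ≤ Ce 𝐭)
    (hC : ∀ g ∈ H, g ∈ κ.C → g ∈ κ.D ∨ g * 𝐭 ∈ κ.D) (hg : g ∈ H) (hg' : g ∈ Nr κ.Z) (hd : d ∈ κ.D)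
    (e : g * d * g⁻¹ = d⁻¹) : d = 1 := by
  have key : ∀ s ∈ H, s ∈ κ.C → ∀ k, s ^ 2 ^ k = 1 → s ∈ zpowers 𝐭 := fun s hs hs' k e => by
    obtain h4 | h4 := hC s hs hs'
    · exact eq_one_of (D_cube κ h3 h4) e ▸ one_mem _
    · rw [eq_inv_of_mul_eq_one_left (eq_one_of (k := k + 1) (D_cube κ h3 h4) (by
        rw [Commute.mul_pow (mem_Ce.1 (h2 hs)), pow_succ, pow_mul, e, one_pow, pow_mul', sq, tt,
          one_pow, one_mul]))]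
      exact inv_mem (mem_zpowers _)
  obtain ⟨k, _, ⟨m, rfl⟩, e'⟩ := Nat.exists_eq_two_pow_mul_odd (orderOf_pos g).ne'
  have h4 := odd_pow e m
  have h5 : (g ^ (2 * m + 1)) ^ 2 ^ k = 1 := by rw [← pow_mul', ← e', pow_orderOf_eq_one]
  have h6 := pow_mem hg (2 * m + 1)
  have h7 := pow_mem hg' (2 * m + 1)
  generalize g ^ (2 * m + 1) = s at h4 h5 h6 h7
  have h8 : s ∈ κ.C := by
    by_contra h8
    obtain e | e := (mem_zp tt).1 (key _ (mul_mem h6 h6) (tc.two s h7 k h5).1 k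
      (by rw [(Commute.refl s).mul_pow, h5, one_mul]))
    · exact hA.elim (tc.lin s h7 e h8 A (mem_Ce.1 (h1 h6))).1 (tc.lin s h7 e h8 A (mem_Ce.1 (h1 h6))).2
    · exact h8 (tc.sq s h7 e)
  rw [mem_Ce'.1 (zpowers_le.2 (mem_Ce.2 (mem_Ce.1 (D_t h3 l hd)).symm) (key s h6 h8 k h5))] at h4
  exact eq_one_of (k := 1) (D_cube κ h3 hd) (by rw [pow_one, sq]; exact mul_eq_one_iff_eq_inv.2 h4)

omit h3 l tc in
theorem jobT2 : JobT2.{u, v} := by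
  intro G _ _ F _ _ h ι κ h3 hF l tc hK g e
  have key : ∀ A : SL2 F, A * A = -1 → IsPGroup 2 (zpowers (ι A)) := fun A e =>
    isPGroup_zpowers (k := 2) (by
      rw [show 2 ^ 2 = 2 * 2 from rfl, pow_mul, sq, sq, ← map_mul, e, tt])
  obtain ⟨T, hT, h1⟩ := exists_isSyl_le (H := Nr κ.Z ⊓ Ce (ι (-1)))
    (isPGroup_sup_of_le_normalizer (key _ w_sq) (key _ (j_facts h3).1) (zpowers_le.2 (mem_Nz.2 (by
      rw [← map_inv, ← map_mul, ← map_mul, (j_facts h3).2, neg_mul, mul_inv_cancel_right,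
        ← neg_one_mul, ← (j_facts h3).1, map_mul, map_mul]
      exact mul_mem (mul_mem (mem_zpowers _) (mem_zpowers _)) (mem_zpowers _)))))
    (sup_le (zpowers_le.2 ⟨C_le κ (ι_C κ _), ι_t _⟩) (zpowers_le.2 ⟨C_le κ (ι_C κ _), ι_t _⟩))
  have hw := h1 (mem_sup_left (mem_zpowers _))
  have hj := h1 (mem_sup_right (mem_zpowers _))
  have ht : ι (-1) ∈ T := by rw [← w_sq, map_mul]; exact mul_mem hw hw
  have h2 : IsSyl 2 T ⊤ := isSyl_of_isSyl_normalizer (hT.of_le (le_inf le_top le_normalizer)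
    fun k hk => by
      have h4 := eq_t h3 l tc (hT.le (conj_mem_of_mem_normalizer (inv_mem hk.2) ht)) rfl
      obtain ⟨z, hz, hz1⟩ := exists_z κ
      have h5 : ∀ A : SL2 F, A * A = -1 → ι A ∈ T → k * z * k⁻¹ ∈ Ce (ι A) := fun A e hA => by
        simpa [mul_assoc] using conj_mem_Ce (mem_Ce.2 (C_z κ (tc.sq _ (hT.le
          (conj_mem_of_mem_normalizer (inv_mem hk.2) hA)).1
            (by rw [conj_mul, ← map_mul, e, h4])) hz).symm) k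
      exact mem_inf.2 ⟨sc' tc hz hz1 (mem_C h3 l hF (hK ⟨h5 _ w_sq hw, h5 _ (j_facts h3).1 hj⟩)
        (by rw [conj_pow, D_cube κ h3 (Z_le κ hz)]; group)), inv_mem_iff.1 (mem_Ce'.2 h4)⟩)
  obtain ⟨k, -, h4⟩ := h2.exists_cj_le (isPGroup_sup_of_le_normalizer
    (isPGroup_zpowers (x := g * ι (-1) * g⁻¹) (k := 1)
      (by rw [pow_one, sq, conj_mul, tt, mul_one, mul_inv_cancel]))
    (isPGroup_zpowers (x := ι (-1)) (k := 1) (by rw [pow_one, sq, tt]))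
    (zpowers_le.2 (Ce_le_nr (mem_Ce.2 e)))) le_top
  have h5 := eq_t h3 l tc (hT.le (h4 (conj_mem_cj (mem_sup_right (mem_zpowers _))))) rfl
  have h6 := eq_t h3 l tc (g := k * g) (hT.le (h4 (conj_mem_cj (mem_sup_left (mem_zpowers _)))))
    (by group)
  exact mul_left_cancel (mul_right_cancel (h6.trans h5.symm))

omit h3 l tc in
theorem ker_cop {Γ : Type*} [Group Γ] {f : H →* Γ} (hk : ∀ g, f g = 1 ↔ (g : G) ∈ zpowers 𝐭) :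
    (Nat.card f.ker).Coprime 3 :=
  H2.coprime_card_of_isPGroup (p := 2) (fun g => ⟨1, Subtype.ext (Subtype.ext (by
    obtain e | e := (mem_zp tt).1 ((hk g).1 g.2) <;> simp [e, sq, tt]))⟩) (by decide)

omit h3 l tc in
theorem mem_bar {Γ : Type*} [Group Γ] {f : H →* Γ} (hk : ∀ g, f g = 1 ↔ (g : G) ∈ zpowers 𝐭)
    (ht : 𝐭 ∈ H) {U : Subgroup G} {g : H} :
    f g ∈ (U.subgroupOf H).map f ↔ (g : G) ∈ U ∨ g * 𝐭 ∈ U := by
  refine ⟨fun ⟨u, hu, e⟩ => ?_, fun e => e.elim (fun e => ⟨g, e, rfl⟩) fun e => ⟨g * ⟨_, ht⟩, e, by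
    rw [map_mul, (hk ⟨_, ht⟩).2 (mem_zpowers _), mul_one]⟩⟩
  obtain e | e := (mem_zp tt).1 ((hk (u⁻¹ * g)).1 (by rw [map_mul, map_inv, e, inv_mul_cancel]))
  · exact .inl (inv_mul_eq_one.1 e ▸ hu)
  · exact .inr (by rw [inv_mul_eq_iff_eq_mul.1 e, mul_assoc, tt, mul_one]; exact hu)

theorem K_x (inn : JobInn.{v}) (hn : ¬𝐊 ≤ Nr κ.Z) {π : (𝐊 : Subgroup G) →* PSL2 F}
    (hπ : Function.Surjective π) (hk : ∀ g, π g = 1 ↔ (g : G) ∈ zpowers 𝐭) : 𝐊 ≤ Ce 𝐱 := by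
  let φ := (𝐊 : Subgroup G).normalizerMonoidHom ⟨𝐱, x_nr h3⟩
  obtain ⟨σ, hσ⟩ := exists_equiv hπ (ρ := π.comp φ.toMonoidHom) (hπ.comp φ.surjective)
    (Subgroup.ext fun g => (hk g).trans ((Ce_le_nr (ι_t (ι := ι) (uM 1)) g).trans (hk (φ g)).symm))
  have hp : IsPGroup 3 (κ.Z.subgroupOf 𝐊) := pgrp fun a ha => Subtype.ext (D_cube κ h3 (Z_le κ ha))
  obtain ⟨z, hz, hz1⟩ := exists_z κ
  obtain ⟨S, hS⟩ := exists_syl (hp.map π) ((one_lt_card_iff_ne_bot _).2 fun e => hz1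
    (congrArg Subtype.val (injU (ker_cop hk) hp ⟨z, Z_K h3 κ hz⟩ hz (e.le ⟨_, hz, rfl⟩)))) (by
      rintro _ ⟨y, hy, rfl⟩ h1 g hg - -
      rw [ce_map hπ (ker_cop hk) hp hy] at hg
      obtain ⟨g, hg, rfl⟩ := hg
      exact (mem_bar hk ⟨ι_t _ |> fun e => mem_Ce.2 (mem_Ce.1 e).symm,
        ι_t _ |> fun e => mem_Ce.2 (mem_Ce.1 e).symm⟩).2 (ck h3 l g.2 (mem_Ce_z κ hy
          (fun e => h1 (by rw [(Subtype.ext e : y = 1), map_one]))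
          (mem_Ce.2 (congrArg Subtype.val (mem_Ce.1 hg))))))
  obtain ⟨u, hu, e⟩ := inn F 3 S σ (by exact_mod_cast h3) fun s hs => by
    obtain ⟨y, hy, rfl⟩ := hS.le hs
    exact (hσ y).trans (congrArg π (Subtype.ext
      (mul_inv_eq_iff_eq_mul.2 (mem_Ce.1 (Z_ι κ (uM 1) hy)).symm)))
  obtain ⟨⟨_, hy⟩, ⟨c, rfl⟩, rfl⟩ := hS.le hu
  have hd : h 0 0 (-c) * 𝐱 ∈ κ.D := ⟨_, _, rfl⟩
  have h1 : 𝐊 ≤ Ce (h 0 0 (-c) * 𝐱) := fun k hk' => mem_Ce.2 (cen3 κ h3 (D_cube κ h3 hd)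
    (D_t h3 l hd) (by
      have := (hk (⟨_, hy⟩⁻¹ * φ ⟨k, hk'⟩ * ⟨_, hy⟩ * ⟨k, hk'⟩⁻¹)).1 (by
        rw [map_mul, map_mul, map_mul, map_inv, map_inv, show π (φ _) = _ from (hσ _).symm, e]
        group)
      rw [show h 0 0 (-c) = (h 0 0 c)⁻¹ by simp [κ.inv], mul_inv_rev, inv_inv]
      replace this : (h 0 0 c)⁻¹ * (𝐱 * k * 𝐱⁻¹) * h 0 0 c * k⁻¹ ∈ zpowers 𝐭 := this
      simpa only [mul_assoc] using this)).symm
  by_cases hc : c = 0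
  · rwa [hc, neg_zero, κ.one, one_mul] at h1
  · exact absurd (fun k hk' => C_le κ ((tc.diag _ _ (neg_ne_zero.2 hc) one_ne_zero k
      ⟨K_t h3 hk', h1 hk'⟩).elim (fun e => D_le κ e)
        fun e => (mul_mem_cancel_right (ι_C κ _)).1 (D_le κ e))) hn

omit h3 l tc in
theorem jobT3 : JobT3.{u, v} := by
  intro ab inn cc G _ _ F _ _ h ι κ h3 hF l l3 tc hn
  have h0 : ∀ A, ι (-1) ∈ Ce (ι A) := fun A => mem_Ce.2 (mem_Ce.1 (ι_t A)).symm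
  obtain ⟨π, hπ, hk⟩ := (cc G F _ κ.Z (ι (-1)) hF (Z_K h3 κ) ⟨h0 _, h0 _⟩ tt (K_t h3) l.cZ
    (fun a ha b hb => C_z κ (D_le κ (Z_le κ ha)) hb) (fun a ha => D_cube κ h3 (Z_le κ ha))
    (fun u hu h1 g hg => ck h3 l hg.1 (mem_Ce_z κ hu h1 hg.2))
    fun g hg u hu => star h3 l tc (.inl w_sq) inf_le_left (K_t h3)
      (fun g hg hC => (ck h3 l hg hC).imp (fun e => Z_le κ e) fun e => Z_le κ e) hg.1 hg.2
      (Z_le κ hu)).resolve_left hn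
  obtain ⟨X, hXe⟩ : ∃ X, Ce (ι (-1)) ⊓ Ce (ι (uM 1)) = X := ⟨_, rfl⟩
  have hX := hXe.ge
  have hK := (le_inf (K_t h3) (K_x h3 l tc inn hn hπ hk)).trans hXe.le
  have hD : κ.D ≤ X := (le_inf (D_t h3 l) (D_ι κ 1)).trans hXe.le
  have hS : IsSyl 3 κ.D X := ⟨hD, pgrp fun _ => D_cube κ h3,
    fun Q hQ h1 h2 => tc.sylD Q hQ h1 (h2.trans (hX.trans inf_le_left))⟩
  have hcx := fun g (hg : g ∈ X) => cx h3 l (hX hg)
  have ht : ι (-1) ∈ X := hXe.le ⟨h0 _, h0 _⟩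
  have : ((zpowers (ι (-1))).subgroupOf X).Normal :=
    normal_subgroupOf_of_le_normalizer ((hX.trans inf_le_left).trans Ce_le_nr)
  let f := QuotientGroup.mk' ((zpowers (ι (-1))).subgroupOf X)
  have hf : Function.Surjective f := QuotientGroup.mk'_surjective _
  have hker : ∀ g, f g = 1 ↔ (g : G) ∈ zpowers (ι (-1)) := fun g => QuotientGroup.eq_one_iff g
  have hco := ker_cop hker
  have hp : IsPGroup 3 (κ.D.subgroupOf X) := pgrp fun a ha => Subtype.ext (D_cube κ h3 ha)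
  obtain ⟨P, hP⟩ := hS.exists_sylow
  have hP' : (P.mapSurjective hf : Subgroup _) = (κ.D.subgroupOf X).map f := by
    rw [Sylow.coe_mapSurjective, hP]
  have hsc : ∀ (g z : X), (z : G) ∈ κ.Z → (z : G) ≠ 1 →
      f g * f z * (f g)⁻¹ ∈ (κ.D.subgroupOf X).map f → (g : G) ∈ Nr κ.Z := fun g z hz h1 e => by
    rw [← map_inv, ← map_mul, ← map_mul, mem_bar hker ht] at e
    exact sc' tc hz h1 (e.elim (fun e => D_le κ e) fun e => (mul_mem_cancel_right (ι_C κ _)).1 (D_le κ e))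
  obtain ⟨σ, -⟩ := exists_equiv (f.comp (inclusion hK)).rangeRestrict_surjective hπ
    (Subgroup.ext fun g => Subtype.ext_iff.trans ((hker _).trans (hk g).symm))
  obtain ⟨h1, h2⟩ := core ab hF (P.mapSurjective hf) (Z := (κ.Z.subgroupOf X).map f)
    (R := ((Uψ ι).subgroupOf X).map f) (x := f ⟨ι (uM 1), hD (R_le κ ⟨1, rfl⟩)⟩)
    (by
      rw [hP']
      rintro _ ⟨a, ha, rfl⟩ _ ⟨b, hb, rfl⟩
      rw [← map_mul, (Subtype.ext (D_comm κ ha b hb) : b * a = a * b), map_mul])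
    (by
      rw [hP']
      rintro _ ⟨a, ha, rfl⟩
      rw [← map_pow, (Subtype.ext (D_cube κ h3 ha) : a ^ 3 = 1), map_one])
    (by
      rw [hP']
      refine noinv_map hf hco hp fun g hg u hu e => Subtype.ext (star h3 l tc (.inr rfl)
        (hX.trans inf_le_right) (hX.trans inf_le_left) hcx g.2 (tc.nD ⟨(hX g.2).1, ?_⟩).1 hu
        (congrArg Subtype.val e))
      rwa [Nr, ← subgroupOf_normalizer_eq hD] at hg)
    (fun N _ hN => eq_bot_iff.2 fun n hn => by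
      obtain ⟨g, rfl⟩ := hf n
      exact (hker g).2 (l3.sigD _ ((opp_le X).trans (hX.trans inf_le_left)) (coprime_card_opp X)
        (fun d hd k => conj_mem_of_mem_normalizer (self_le_normalizer_opp X (hD hd)))
        ((opp_subgroupOf X).ge ((H2.comap_pPrimeCore_of_coprime_ker f hf hco).le
          (H2.le_pPrimeCore hN hn)))))
    (hP' ▸ map_mono (comap_mono (Z_le κ))) (hP' ▸ map_mono (comap_mono (R_le κ)))
    (by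
      rintro _ ⟨⟨_, hz⟩, ⟨c, rfl⟩, rfl⟩ e
      obtain rfl : c = 0 := by
        obtain ⟨s, e⟩ | ⟨s, e⟩ := (mem_bar hker ht).1 e
        · exact (eq_of_eq κ (show h 0 0 c * ι 1 = h 0 0 0 * ι (uM s) by
            rw [κ.one, one_mul, map_one, mul_one]; exact e)).2.2.1
        · exact (eq_of_eq κ (show h 0 0 c * ι (-1) = h 0 0 0 * ι (uM s) by
            rw [κ.one, one_mul]; exact e)).2.2.1
      exact (hker _).2 (mem_bot.1 κ.one ▸ one_mem _ : h 0 0 0 ∈ _))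
    (by
      rw [hP']
      rintro _ ⟨⟨_, hd⟩, ⟨c, s, rfl⟩, rfl⟩
      exact ⟨_, ⟨⟨_, hD (Z_le κ ⟨c, rfl⟩)⟩, ⟨c, rfl⟩, rfl⟩, _, ⟨⟨_, hD (R_le κ ⟨s, rfl⟩)⟩, ⟨s, rfl⟩, rfl⟩,
        by rw [← map_mul]; rfl⟩)
    (by
      rw [card_map (U := κ.Z.subgroupOf X) hco (hp.to_le (comap_mono (Z_le κ))), ← l.cZ]
      exact Nat.card_congr (subgroupOfEquivOfLe ((Z_le κ).trans hD)).toEquiv)
    (by
      rw [hP', card_map hco hp, ← l.cD]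
      exact Nat.card_congr (subgroupOfEquivOfLe hD).toEquiv)
    (by
      rw [hP']
      rintro _ ⟨d, hd, rfl⟩ h1
      rw [ce_map hf hco hp hd]
      rintro _ ⟨g, hg, rfl⟩
      obtain ⟨_, hd'⟩ := d
      obtain ⟨c, s, rfl⟩ := hd
      have h2 : c ≠ 0 := fun e => h1 ⟨_, ⟨s, by simp [e, κ.one]⟩, rfl⟩
      have h4 := mem_Ce.2 (congrArg Subtype.val (mem_Ce.1 hg))
      refine (mem_bar hker ht).2 ?_
      by_cases hs : s = 0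
      · exact hcx g g.2 ((κ.cen c h2 g).1 (by simpa [hs, uM_zero] using h4))
      · exact tc.diag c s h2 hs g ⟨(hX g.2).1, h4⟩)
    (fun e => one_ne_zero (pm.ap (.inl (inj_ι κ ((congrArg Subtype.val
      (injU hco hp _ (R_le κ ⟨1, rfl⟩) e)).trans ι.map_one.symm)))))
    (by rw [← map_pow, ← f.map_one]; exact congrArg f (Subtype.ext (D_cube κ h3 (R_le κ ⟨1, rfl⟩))))
    (fun g => by
      obtain ⟨g, rfl⟩ := hf g
      rw [← map_mul, ← map_mul]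
      exact congrArg f (Subtype.ext (mem_Ce.1 (hX g.2).2)))
    (by
      rw [hP']
      rintro g _ ⟨z, hz, rfl⟩ e
      obtain ⟨g, rfl⟩ := hf g
      by_cases h1 : (z : G) = 1
      · rw [(Subtype.ext h1 : z = 1), map_one, mul_one, mul_inv_cancel]
        exact one_mem _
      · exact ⟨g * z * g⁻¹, conj_mem_of_mem_normalizer (H := κ.Z) (hsc g z hz h1 e) hz, by simp⟩)
    (by
      rintro _ ⟨z, hz, rfl⟩
      exact ⟨⟨z, Z_K h3 κ hz⟩, rfl⟩) σ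
    (fun e => hn fun k hk' => by
      obtain ⟨z, hz, h1⟩ := exists_z κ
      exact hsc ⟨k, hK hk'⟩ ⟨z, hD (Z_le κ hz)⟩ hz h1 (hP'.le (e.conj_mem _ (hP'.ge ⟨_, Z_le κ hz, rfl⟩) _)))
  have h4 : Ce (ι wM) ⊓ Ce (ι (jM h3)) = Cn ι.range := by
    refine le_antisymm (fun k hk' => ?_)
      fun k hk' => ⟨mem_Ce.2 (hk' _ ⟨_, rfl⟩).symm, mem_Ce.2 (hk' _ ⟨_, rfl⟩).symm⟩
    rintro _ ⟨A, rfl⟩
    refine H65.sl2_induction (p := fun A => ι A * k = k * ι A) (fun s => ?_) (mem_Ce.1 hk'.1).symm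
      (fun a b ha hb => by rw [map_mul, mul_assoc, hb, ← mul_assoc, ha, mul_assoc]) A
    have hr := R_le κ ⟨s, rfl⟩
    refine cen3 κ h3 (D_cube κ h3 hr) (D_t h3 l hr) ((hker (⟨_, hD hr⟩ * ⟨k, hK hk'⟩ * ⟨_, hD hr⟩⁻¹ *
      ⟨k, hK hk'⟩⁻¹)).1 ?_)
    rw [map_mul, map_mul, map_mul, map_inv, map_inv, show f ⟨_, hD hr⟩ * f ⟨k, hK hk'⟩ = _ from
      (h1 ⟨⟨_, hD hr⟩, ⟨s, rfl⟩, rfl⟩ _ ⟨⟨k, hk'⟩, rfl⟩).symm, mul_inv_cancel_right]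
    exact mul_inv_cancel _
  refine ⟨h4 ▸ ⟨π, hπ, hk⟩, fun g hg => ?_⟩
  replace hg := hXe.le hg
  obtain ⟨_, ⟨⟨_, hr⟩, ⟨s, rfl⟩, rfl⟩, _, ⟨k, rfl⟩, e⟩ := h2 (f ⟨g, hg⟩)
  refine ⟨s, (ι (uM s))⁻¹ * g, h4.le ((mul_mem_cancel_left (inv_mem k.2)).1
    (zpowers_le.2 (mem_inf.2 ⟨h0 _, h0 _⟩)
      ((hker ((inclusion hK k)⁻¹ * ((⟨_, hr⟩ : X)⁻¹ * (⟨g, hg⟩ : X)))).1 ?_))), by group⟩
  rw [map_mul, map_mul, map_inv, map_inv, e]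
  simp

end H42.P4
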