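/- STD-R (S3323): the Sylow 2-subgroup and the transfer (job End). -/
import Cfsg.Agent.H42.SRLiftA
import Cfsg.Agent.H9.UfK3

set_option autoImplicit false
set_option linter.unusedSectionVars false
set_option linter.unusedVariables false

open Subgroup H63.Oc H64.SG H65.SR
open scoped commutatorElement

universe u v

namespace H42.SR

section Gen
variable {G : Type*} [Group G] {X R : Subgroup G} {t : G}

theorem rel_le_two (h : ∀ x ∈ R, x ∈ X ∨ t * x ∈ X) : X.relIndex R ≤ 2 := by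
  refine Nat.le_of_dvd two_pos (index_dvd_two_iff'.2 ?_)
  by_cases hR : R ≤ X
  · exact ⟨1, fun b => Or.inr (hR b.2)⟩
  · obtain ⟨a, ha, ha'⟩ := SetLike.not_le_iff_exists.1 hR
    refine ⟨⟨a, ha⟩⁻¹, fun b => (h b b.2).symm.imp (fun e => mem_subgroupOf.2 ?_) id⟩
    simpa [mul_assoc] using mul_mem (inv_mem ((h a ha).resolve_left ha')) e

theorem card_inf_mul (X R : Subgroup G) : Nat.card (X ⊓ R : Subgroup G) * X.relIndex R = Nat.card R := by
  rw [← (X.subgroupOf R).card_mul_index, ← inf_subgroupOf_right,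
    Nat.card_congr (subgroupOfEquivOfLe (inf_le_right : X ⊓ R ≤ R)).toEquiv, relIndex, inf_subgroupOf_right]

theorem card_le_two_mul (h : X.relIndex R ≤ 2) : Nat.card R ≤ 2 * Nat.card (X ⊓ R : Subgroup G) := by
  rw [← card_inf_mul X R, mul_comm]
  exact Nat.mul_le_mul_right _ h

theorem two_mul_le [Finite G] (h : ¬ R ≤ X) : 2 * Nat.card (X ⊓ R : Subgroup G) ≤ Nat.card R := by
  rw [← card_inf_mul X R, mul_comm]
  have h1 : X.relIndex R ≠ 1 := fun e => h (relIndex_eq_one.1 e)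
  have h0 : X.relIndex R ≠ 0 := index_ne_zero_of_finite
  exact Nat.mul_le_mul_left _ (by omega)

theorem rel_zp (ht : t * t = 1) (hn : t ∈ Ns X) : X.relIndex (zpowers t ⊔ X) ≤ 2 :=
  rel_le_two fun x hx => (mem_zp_sup ht hn).1 hx

theorem card_zp [Finite G] (ht : t * t = 1) (hn : t ∈ Ns X) (h : t ∉ X) :
    Nat.card (zpowers t ⊔ X : Subgroup G) = 2 * Nat.card X := by
  have h1 := card_le_two_mul (rel_zp ht hn)
  have h2 := two_mul_le (R := zpowers t ⊔ X) (X := X) fun e => h (e (mem_sup_left (mem_zpowers t)))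
  rw [inf_eq_left.2 le_sup_right] at h1 h2
  omega

end Gen

section End
variable {K : Type*} [Field K] [Fintype K] [CharP K 2] {T : TF K} {G : Type*} [Group G] [Finite G]
  {A : AD T G} {t : G} {O P B : Subgroup G}

/-- the `2`-subgroups of `C(t)` -/
theorem Cf0.two_le (h : Cf0 A t O) (la : LA A) {R : Subgroup G} (h2 : IsPGroup 2 R) {g : G}
    (hR : R ≤ Cz (g * t * g⁻¹)) : Nat.card R ≤ 2 * Fintype.card K ^ 12 := by
  have hR' : cjs g⁻¹ R ≤ Cz t := fun x hx => by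
    have := mem_Cz.1 (hR (mem_cjs.1 hx))
    rw [mem_Cz]
    calc x * t = g⁻¹ * (g⁻¹⁻¹ * x * g⁻¹ * (g * t * g⁻¹)) * g := by group
      _ = _ := by rw [this]; group
  have h2' : IsPGroup 2 (cjs g⁻¹ R) := h2.map _
  rw [← card_cjs (g := g⁻¹)]
  refine (card_le_two_mul (rel_le_two fun x hx => h.two x (hR' hx) (is2_of_mem h2' hx))).trans
    (Nat.mul_le_mul_left _ ?_)
  obtain ⟨l, -, e⟩ := h.syl (A.G0 ⊓ cjs g⁻¹ R) inf_le_left h2'.to_inf_right
  rw [← card_cjs (g := l), ← la.cardU]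
  refine card_le_of_le ?_
  rintro _ ⟨x, hx, rfl⟩
  exact e x hx

theorem TwoP.nB (h : Cf0 A t O) (tp : TwoP A t P B) : zpowers t ⊔ P ≤ Ns B :=
  sup_le (zpowers_le.2 tp.db.tY) (tp.cen.trans cs_le_ns)

theorem TwoP.cZ (h : Cf0 A t O) (tp : TwoP A t P B) : zpowers t ⊔ P ≤ Cs (A.im (sZ T)) :=
  sup_le (zpowers_le.2 (h.t_cs (im_le A _))) (tp.cen.trans (cs_anti tp.db.leX))

theorem TwoP.cardP (la : LA A) (tp : TwoP A t P B) : Nat.card P = Fintype.card K ^ 24 := by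
  rw [tp.fr.card, la.cardU, ← pow_mul]

theorem TwoP.ntB (h : Cf0 A t O) (tp : TwoP A t P B) : t ∉ Cs B := fun e => by
  obtain ⟨b, hb, e'⟩ := tp.db.onto1 (⟨x4 T 1, by simp, rfl⟩ : A.ι (x4 T 1) ∈ A.im (sZ T))
  rw [comm_eq_one_of_cs e hb, eq_comm, ι_eq_one] at e'
  simpa using congrArg Co.a4 e'

theorem TwoP.conj (h : Cf0 A t O) (tp : TwoP A t P B) {x : G} (hx : x ∈ zpowers t ⊔ P) (h1 : x ∉ P)
    (h2 : x * x = 1) : ∃ u ∈ P, u * t * u⁻¹ = x := by
  have e : t * (t * x) = x := by rw [← mul_assoc, h.inv.1, one_mul]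
  have := tp.fr.h1 _ (((mem_zp_sup h.inv.1 tp.fr.tY).1 hx).resolve_left h1) (by rwa [e])
  rwa [e] at this

theorem TwoP.cj_le (h : Cf0 A t O) (la : LA A) (tp : TwoP A t P B) {g : G} (hg : g ∈ Ns (zpowers t ⊔ P)) :
    cjs g B ≤ P := by
  rintro _ ⟨b, hb, rfl⟩
  by_contra hc
  obtain ⟨u, -, e⟩ := TwoP.conj h tp (cj_mem hg (mem_sup_right (tp.le hb))) hc (by
    change g * b * g⁻¹ * (g * b * g⁻¹) = 1
    calc _ = g * (b * b) * g⁻¹ := by group
      _ = 1 := by rw [tp.db.sq1 hb]; group)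
  have := Cf0.two_le h la (tp.fr.two.map (MulAut.conj g).toMonoidHom) (g := u) fun x hx => by
    rw [e]; exact mem_Cz.2 (mem_Cs.1 (cs_cj tp.cen hx) _ (cj_mem_cjs hb)).symm
  rw [card_cjs, TwoP.cardP la tp, show 24 = 12 + 12 from rfl, pow_add] at this
  have h8 := h.card
  have h0 : 0 < Fintype.card K ^ 12 := by positivity
  have h3 := Nat.le_of_mul_le_mul_right this h0
  have : Fintype.card K ^ 1 ≤ Fintype.card K ^ 12 := Nat.pow_le_pow_right (by omega) (by omega)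
  rw [pow_one] at this
  omega

theorem TwoP.nsP (h : Cf0 A t O) (la : LA A) (tp : TwoP A t P B) {g : G} (hg : g ∈ Ns (zpowers t ⊔ P)) :
    g ∈ Ns P := by
  have hZ : ∀ z ∈ A.im (sZ T), g * z * g⁻¹ ∈ A.im (sZ T) := fun z hz => by
    have h1 : g * z * g⁻¹ ∈ Cs (zpowers t ⊔ P) := by
      rw [← cjs_eq hg, ← cjs_cs]; exact cj_mem_cjs (cs_symm (TwoP.cZ h tp) hz)
    have h2 : g * z * g⁻¹ ∈ A.S := tp.fr.mem (TwoP.cj_le h la tp hg (cj_mem_cjs (tp.db.leX hz)))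
      (mem_Cz.2 (mem_Cs.1 h1 _ (mem_sup_left (mem_zpowers t))).symm)
    exact la.zU ▸ mem_inf.2 ⟨S_le A h2, cs_anti (tp.fr.le.trans le_sup_right) h1⟩
  have hB : g ∈ Ns B := mem_ns_of fun b hb => by
    have hb' := cj_mem_cjs (g := g) hb
    have h1 : ⁅t, g * b * g⁻¹⁆ ∈ A.im (sZ T) := by
      have e : ⁅t, g * b * g⁻¹⁆ = g * ⁅g⁻¹ * t * g, b⁆ * g⁻¹ := by
        simp only [commutatorElement_def]; group
      rw [e]
      refine hZ _ ?_
      rcases (mem_zp_sup h.inv.1 tp.fr.tY).1 (cj_mem' hg (mem_sup_left (mem_zpowers t))) with h2 | h2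
      · rw [comm_eq_one_of_cs (tp.cen h2) hb]; exact one_mem _
      · have e' : g⁻¹ * t * g = t * (t * (g⁻¹ * t * g)) := by rw [← mul_assoc t t, h.inv.1, one_mul]
        rw [e', comm_mul_left, comm_eq_one_of_cs (tp.cen h2) hb, mul_one, mul_inv_cancel, one_mul]
        exact tp.db.phi1 h.inv hb
    obtain ⟨c, hc, e⟩ := tp.db.onto1 h1
    have h2 : c⁻¹ * (g * b * g⁻¹) ∈ Cz t := by
      have e1 := t_cj h.inv c
      rw [e, ← t_cj h.inv] at e1
      rw [mem_Cz]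
      calc _ = c⁻¹ * (g * b * g⁻¹ * t * (g * b * g⁻¹)⁻¹) * (g * b * g⁻¹) := by group
        _ = _ := by rw [← e1]; group
    have h3 := tp.fr.mem (mul_mem (inv_mem (tp.le hc)) (TwoP.cj_le h la tp hg hb')) h2
    have h4 := la.idx2 (A.S ⊓ cjs g P) inf_le_left (by
      rw [inf_relIndex_left]
      refine (relIndex_le_of_le_right (tp.fr.le.trans (le_sup_right : P ≤ zpowers t ⊔ P))
        index_ne_zero_of_finite).trans ?_
      rw [← cjs_eq hg, relIndex_map_map_of_injective _ _ (MulAut.conj g).injective]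
      exact rel_zp h.inv.1 tp.fr.tY)
      (mem_inf.2 ⟨h3, mul_mem (inv_mem (cs_anti (inf_le_left.trans tp.fr.le) (cs_symm tp.cen hc)))
        (cs_anti inf_le_right (cs_symm (cs_cj tp.cen) hb'))⟩)
    simpa using mul_mem hc (tp.db.leX h4)
  have e : P = (zpowers t ⊔ P) ⊓ Cs B := le_antisymm (le_inf le_sup_right tp.cen) fun x hx =>
    ((mem_zp_sup h.inv.1 tp.fr.tY).1 hx.1).resolve_right fun h1 => TwoP.ntB h tp (by
      simpa using mul_mem (tp.cen h1) (inv_mem hx.2))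
  rw [e]
  exact ns_inf hg (ns_cs hB)

theorem TwoP.two (h : Cf0 A t O) (tp : TwoP A t P B) : IsPGroup 2 (zpowers t ⊔ P : Subgroup G) :=
  two_sup (two_zp h.inv.1) tp.fr.two (zpowers_le.2 tp.fr.tY)

theorem TwoP.cardE (h : Cf0 A t O) (la : LA A) (tp : TwoP A t P B) :
    Nat.card (zpowers t ⊔ A.S : Subgroup G) = 2 * Fintype.card K ^ 12 := by
  rw [card_zp h.inv.1 (h.t_ns (S_le A)) fun e => tp.nt (tp.fr.le e), la.cardU]

theorem TwoP.sylow (h : Cf0 A t O) (la : LA A) (tp : TwoP A t P B) :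
    ∃ S : Sylow 2 G, (S : Subgroup G) = zpowers t ⊔ P := by
  have : Fact (Nat.Prime 2) := ⟨Nat.prime_two⟩
  obtain ⟨S, hS⟩ := (TwoP.two h tp).exists_le_sylow
  refine ⟨S, by_contra fun hne => ?_⟩
  obtain ⟨g, hg, h1, h2, -⟩ := exists_fix (t := 1) (mul_one _) S.isPGroup' (one_mem _)
    (lt_of_le_of_ne hS (Ne.symm hne)) (one_mem _)
  have h3 := TwoP.nsP h la tp h2
  obtain ⟨u, hu, e⟩ := TwoP.conj h tp (cj_mem h2 (mem_sup_left (mem_zpowers t)))
    (fun e => tp.nt ((mem_normalizer_iff.1 h3 t).2 e)) (by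
      calc _ = g * (t * t) * g⁻¹ := by group
        _ = 1 := by rw [h.inv.1]; group)
  have h4 : u⁻¹ * g ∈ Cz t := by
    rw [mem_Cz]
    calc _ = u⁻¹ * (g * t * g⁻¹) * g := by group
      _ = _ := by rw [← e]; group
  have h5 : zpowers t ⊔ A.S ≤ zpowers t ⊔ P := sup_le_sup_left tp.fr.le _
  have h6 : zpowers t ⊔ A.S = (S : Subgroup G) ⊓ Cz t := eq_of_le_of_card_ge
    (le_inf (h5.trans hS) (sup_le (zpowers_le.2 (mem_Cz.2 rfl)) tp.fr.cX))
    (by
      rw [TwoP.cardE h la tp]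
      exact Cf0.two_le h la S.isPGroup'.to_inf_left (g := 1) (by simp))
  have h7 : u⁻¹ * g ∈ zpowers t ⊔ P :=
    h5 (h6 ▸ mem_inf.2 ⟨mul_mem (inv_mem (hS (mem_sup_right hu))) hg, h4⟩)
  exact h1 (by simpa using mul_mem (mem_sup_right hu : u ∈ zpowers t ⊔ P) h7)

end End

theorem jobEnd : JobEnd.{u, v} := by
  intro kit K _ _ _ T G _ _ A t O h la P B tp S hS h2
  have : Fact (Nat.Prime 2) := ⟨Nat.prime_two⟩
  obtain ⟨S₁, e₁⟩ := TwoP.sylow h la tp
  have hc := card_zp h.inv.1 tp.fr.tY tp.nt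
  have hodd : Odd ((zpowers t ⊔ P).relIndex ⊤) := by
    rw [relIndex_top_right, ← e₁, ← Nat.not_even_iff_odd, even_iff_two_dvd]
    exact S₁.not_dvd_index
  have hidx : P.relIndex (zpowers t ⊔ P) = 2 := by
    have := card_inf_mul P (zpowers t ⊔ P)
    rw [inf_eq_left.2 le_sup_right, hc, mul_comm] at this
    exact Nat.eq_of_mul_eq_mul_right Nat.card_pos this
  rcases H9.UF.jobK7 (zpowers t ⊔ P) P ⟨le_top, TwoP.two h tp, hodd⟩ le_sup_right hidx t
    (mem_sup_left (mem_zpowers t)) tp.nt h.inv.1 with ⟨φ, hφ⟩ | ⟨g, hg, -, hle⟩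
  · have h1 : Cfsg.oddGenerated ⊤ ≤ φ.ker := (closure_le _).2 fun x hx =>
      eq_one_of_odd (y := φ x) ⟨1, by
        have := pow_card_eq_one' (x := φ x)
        rwa [Nat.card_congr Multiplicative.toAdd, Nat.card_zmod] at this⟩
        (hx.2.of_dvd_nat (orderOf_map_dvd φ x))
    obtain ⟨S₂, hS₂⟩ := h2.exists_le_sylow
    obtain ⟨g, rfl⟩ := MulAction.exists_smul_eq G S₂ S₁
    have h3 : cjs g S ≤ φ.ker ⊓ (zpowers t ⊔ P) := le_inf (by
      rintro _ ⟨x, hx, rfl⟩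
      exact φ.normal_ker.conj_mem _ (h1 (hS hx)) g) (e₁ ▸ map_mono hS₂)
    have h4 := two_mul_le (R := zpowers t ⊔ P) (X := φ.ker) fun e => hφ (e (mem_sup_left (mem_zpowers t)))
    have h5 := card_le_of_le h3
    rw [card_cjs] at h5
    rw [hc, TwoP.cardP la tp] at h4
    omega
  · exfalso
    have tS := h.t_ns (S_le A)
    have hE : zpowers t ⊔ A.S ≤ (zpowers t ⊔ P) ⊓ Cz t :=
      le_inf (sup_le_sup_left tp.fr.le _) (sup_le (zpowers_le.2 (mem_Cz.2 rfl)) tp.fr.cX)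
    have h1 : cjs g (zpowers t ⊔ A.S) = (zpowers t ⊔ P) ⊓ Cz (g * t * g⁻¹) := eq_of_le_of_card_ge
      (le_inf ((cjs_mono hE).trans hle) (by
        rintro _ ⟨x, hx, rfl⟩
        have := mem_Cz.1 (hE hx).2
        rw [mem_Cz]
        change g * x * g⁻¹ * _ = _ * (g * x * g⁻¹)
        calc _ = g * (x * t) * g⁻¹ := by group
          _ = _ := by rw [this]; group))
      (by rw [card_cjs, TwoP.cardE h la tp]; exact Cf0.two_le h la (TwoP.two h tp).to_inf_left inf_le_right)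
    have h3 := la.idx2 (A.S ⊓ cjs g⁻¹ P) inf_le_left (by
      rw [inf_relIndex_left]
      refine (relIndex_le_of_le_right (L := cjs g⁻¹ (zpowers t ⊔ P)) (fun x hx => ?_)
        index_ne_zero_of_finite).trans ?_
      · exact mem_cjs.2 (by simpa using hle (cj_mem_cjs (hE (mem_sup_right hx))))
      · rw [relIndex_map_map_of_injective _ _ (MulAut.conj g⁻¹).injective, hidx])
    have tZ : t ∈ Ns (A.im (sZ T)) := h.t_ns (im_le A _)
    have h4 : cjs g⁻¹ B ≤ zpowers t ⊔ A.im (sZ T) := fun x hx => by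
      have h5 : x ∈ zpowers t ⊔ A.S := by
        have h6 := mem_cjs.1 hx
        have := mem_cjs.1 (h1 ▸ mem_inf.2 ⟨mem_sup_right (tp.le h6),
          mem_Cz.2 (mem_Cs.1 (tp.cen hg) _ h6)⟩ : g⁻¹⁻¹ * x * g⁻¹ ∈ cjs g (zpowers t ⊔ A.S))
        simpa [mul_assoc] using this
      have h6 : x ∈ Cs (A.S ⊓ cjs g⁻¹ P) := cs_anti inf_le_right (cs_symm (cs_cj tp.cen) hx)
      rw [mem_zp_sup h.inv.1 tZ]
      exact ((mem_zp_sup h.inv.1 tS).1 h5).imp (fun e => h3 ⟨e, h6⟩) fun e =>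
        h3 ⟨e, mul_mem (h.t_cs (inf_le_left.trans (S_le A))) h6⟩
    have h5 := card_le_of_le h4
    rw [card_cjs, (tp.db.fr h.inv).card, card_zp h.inv.1 tZ fun e => tp.nt (tp.le (tp.db.leX e)),
      la.cardZ, sq] at h5
    have h8 := h.card
    have := Nat.le_of_mul_le_mul_right h5 (by omega)
    omega

end H42.SR
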